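import Groth.Agent.ConsPropLib.Loci
import Groth.Agent.EtFound.DescentQF
import Mathlib.AlgebraicGeometry.ZariskisMainTheorem
import Mathlib.AlgebraicGeometry.Artinian

/-!
# Surjective, radicial, quasi-finite and finite morphisms: constructible properties (EGA IV 9.6.1)
-/

set_option autoImplicit false
set_option linter.style.haveILetI false

open CategoryTheory CategoryTheory.Limits AlgebraicGeometry Topology Groth.Agent.SpecLib

namespace Groth.Agent.ConsPropLib

universe u

section BaseChange

variable {X Y X' Y' : Scheme.{u}} {f : X ⟶ Y} {f' : X' ⟶ Y'} {eX : X' ⟶ X} {eY : Y' ⟶ Y}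

theorem range_eX (sq : IsPullback eX f' f eY) : Set.range eX = f ⁻¹' Set.range eY := by
  rw [← Scheme.Pullback.range_fst f eY, ← sq.isoPullback_hom_fst, Scheme.Hom.comp_base, TopCat.coe_comp,
    Set.range_comp, (show Set.range sq.isoPullback.hom = Set.univ from
      sq.isoPullback.hom.homeomorph.surjective.range_eq), Set.image_univ]

theorem range_f' (sq : IsPullback eX f' f eY) : Set.range f' = eY ⁻¹' Set.range f :=
  range_eX sq.flip

theorem surjective_iff_range (sq : IsPullback eX f' f eY) :
    Function.Surjective f' ↔ Set.range eY ⊆ Set.range f := by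
  rw [← Set.range_eq_univ, range_f' sq]
  exact ⟨fun h => Set.range_subset_iff.2 fun w => h.ge (Set.mem_univ w),
    fun h => Set.eq_univ_of_forall fun w => h ⟨w, rfl⟩⟩

theorem universallyInjective_iff_range (sq : IsPullback eX f' f eY) :
    UniversallyInjective f' ↔
      (pullback.fst f f ≫ f) ⁻¹' Set.range eY ⊆ Set.range (pullback.diagonal f) := by
  let m : pullback f' f' ⟶ pullback f f := pullback.map _ _ _ _ eX eX eY sq.w.symm sq.w.symm
  have A : IsPullback (pullback.snd f' f' ≫ eX) (pullback.fst f' f') f (eX ≫ f) := by
    rw [sq.w]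
    exact (IsPullback.of_hasPullback f' f').flip.paste_horiz sq
  have sq₁ : IsPullback m (pullback.fst f' f') (pullback.fst f f) eX := by
    refine IsPullback.of_right ?_ (pullback.lift_fst _ _ _) (IsPullback.of_hasPullback f f).flip
    rwa [show m ≫ pullback.snd f f = pullback.snd f' f' ≫ eX from pullback.lift_snd _ _ _]
  have hΔ : IsPullback eX (pullback.diagonal f') (pullback.diagonal f) m := by
    refine IsPullback.of_bot ?_ ?_ sq₁
    · rw [pullback.diagonal_fst, pullback.diagonal_fst]
      exact IsPullback.of_vert_isIso ⟨by simp⟩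
    · apply pullback.hom_ext
      · rw [Category.assoc, Category.assoc, pullback.diagonal_fst, Category.comp_id, pullback.lift_fst,
          pullback.diagonal_fst_assoc]
      · rw [Category.assoc, Category.assoc, pullback.diagonal_snd, Category.comp_id, pullback.lift_snd,
          pullback.diagonal_snd_assoc]
  rw [UniversallyInjective.iff_diagonal, surjective_iff, surjective_iff_range hΔ,
    range_eX (sq₁.paste_vert sq)]

theorem locallyQuasiFinite_iff_range [IsPreimmersion eY] [LocallyOfFiniteType f]
    (sq : IsPullback eX f' f eY) :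
    LocallyQuasiFinite f' ↔ f ⁻¹' Set.range eY ⊆ (f.quasiFiniteLocus : Set X) := by
  haveI : LocallyOfFiniteType f' := MorphismProperty.of_isPullback sq ‹_›
  haveI : IsPreimmersion eX := MorphismProperty.of_isPullback sq.flip ‹_›
  have key : ∀ w, f ⁻¹' {eY w} = eX '' (f' ⁻¹' {w}) := fun w => by
    ext x
    constructor
    · intro hx
      obtain ⟨z, rfl⟩ : x ∈ Set.range eX := (range_eX sq).ge ⟨w, hx.symm⟩
      refine ⟨z, eY.isEmbedding.injective ?_, rfl⟩
      rw [← Scheme.Hom.comp_apply, ← sq.w, Scheme.Hom.comp_apply]
      exact hx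
    · rintro ⟨z, hz, rfl⟩
      show f (eX z) = eY w
      rw [← Scheme.Hom.comp_apply, sq.w, Scheme.Hom.comp_apply]
      exact congrArg eY hz
  have hd : ∀ w, _root_.IsDiscrete (f' ⁻¹' {w}) ↔ f ⁻¹' {eY w} ⊆ (f.quasiFiniteLocus : Set X) := fun w => by
    have h1 : _root_.IsDiscrete (f' ⁻¹' {w}) ↔ _root_.IsDiscrete (f ⁻¹' {eY w}) := by
      rw [key w]
      exact ⟨fun h => h.image eX.isEmbedding.toIsInducing, fun h => by
        have := h.preimage eX.continuous.continuousOn eX.isEmbedding.injective
        rwa [Set.preimage_image_eq _ eX.isEmbedding.injective] at this⟩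
    rw [h1, isDiscrete_iff_discreteTopology, discreteTopology_iff_isOpen_singleton]
    have h2 : ∀ x : X, f.QuasiFiniteAt x ↔ IsOpen ({⟨x, rfl⟩} : Set ↥(f ⁻¹' {f x})) := fun x => by
      rw [Scheme.Hom.quasiFiniteAt_iff_isOpen_singleton_asFiber, ← (f.fiberHomeo (f x)).isOpen_image]
      simp [Scheme.Hom.asFiber]
    refine ⟨fun h x hx => ?_, fun h => ?_⟩
    · change f x = eY w at hx
      show x ∈ f.quasiFiniteLocus
      rw [Scheme.Hom.mem_quasiFiniteLocus, h2]
      revert h
      generalize eY w = y at hx
      subst hx
      exact fun h => h _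
    · rintro ⟨x, hx⟩
      have := (h2 x).1 (Scheme.Hom.mem_quasiFiniteLocus.1 (h hx))
      change f x = eY w at hx
      revert this
      generalize eY w = y at hx ⊢
      subst hx
      exact id
  rw [locallyQuasiFinite_iff_isDiscrete_preimage_singleton]
  exact ⟨fun h x ⟨w, hw⟩ => (hd w).1 (h w) hw.symm,
    fun h w => (hd w).2 fun x hx => h ⟨w, hx.symm⟩⟩

end BaseChange

section Fibre

variable {X Y S : Scheme.{u}} (f : X ⟶ Y) (g : Y ⟶ S)

theorem isPullback_fiberMap (s : S) :
    IsPullback ((f ≫ g).fiberι s) (MoreMor.fiberMap f g s) f (g.fiberι s) := by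
  refine IsPullback.of_bot ?_ (fiberMap_comp_ι f g s).symm
    (IsPullback.of_hasPullback g (S.fromSpecResidueField s))
  rw [show MoreMor.fiberMap f g s ≫ pullback.snd g (S.fromSpecResidueField s) =
    (f ≫ g).fiberToSpecResidueField s from fiberMap_comp_toSpec f g s]
  exact IsPullback.of_hasPullback (f ≫ g) (S.fromSpecResidueField s)

/-- Constructibility of `{s | q⁻¹(s) ⊆ G}`. -/
theorem isConstructible_setOf_subset {Q : Scheme.{u}} [IsNoetherian S] (q : Q ⟶ S) [LocallyOfFiniteType q]
    [QuasiCompact q] {G : Set Q} (hG : IsConstructible G) {L : Set S}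
    (hL : ∀ s, s ∈ L ↔ q ⁻¹' {s} ⊆ G) : IsConstructible L := by
  haveI : LocallyOfFinitePresentation q := inferInstance
  have : L = (q '' Gᶜ)ᶜ := by
    ext s
    rw [hL]
    exact ⟨fun h ⟨z, hz, hzs⟩ => hz (h hzs), fun h z hz => by_contra fun hz' => h ⟨z, hz', hz⟩⟩
  rw [this]
  exact (q.isConstructible_image hG.compl).compl

theorem dichotomy_of_isConstructible [IrreducibleSpace S] {L : Set S} (hL : IsConstructible L) :
    (interior L).Nonempty ∨ (interior Lᶜ).Nonempty := by
  have hnhd : ∀ {A : Set S}, IsConstructible A → genericPoint S ∈ A → (interior A).Nonempty :=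
    fun hA h => ⟨_, mem_interior_iff_mem_nhds.2 (FibDim.mem_nhds_of_generizations hA.isLocallyConstructible
      (y := genericPoint S) fun t ht =>
      (ht.antisymm ((genericPoint_spec S).specializes (Set.mem_univ _))).eq.symm ▸ h)⟩
  by_cases h : genericPoint S ∈ L
  · exact .inl (hnhd hL h)
  · exact .inr (hnhd hL.compl h)

theorem isConstructible_range_diagonal [IsNoetherian Y] [LocallyOfFiniteType f] [QuasiCompact f] :
    IsConstructible (Set.range (pullback.diagonal f)) := by
  haveI : IsLocallyNoetherian X := LocallyOfFiniteType.isLocallyNoetherian f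
  haveI : CompactSpace X := QuasiCompact.compactSpace_of_compactSpace f
  haveI : IsNoetherian X := {}
  haveI : IsLocallyNoetherian (pullback f f : Scheme.{u}) :=
    LocallyOfFiniteType.isLocallyNoetherian (pullback.fst f f)
  haveI : CompactSpace (pullback f f : Scheme.{u}) :=
    QuasiCompact.compactSpace_of_compactSpace (pullback.fst f f)
  haveI : IsNoetherian (pullback f f : Scheme.{u}) := {}
  haveI : LocallyOfFiniteType (pullback.diagonal f) :=
    @locallyOfFiniteType_of_comp _ _ _ (pullback.diagonal f) (pullback.fst f f)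
      (by rw [pullback.diagonal_fst]; infer_instance)
  haveI : QuasiCompact (pullback.diagonal f) := quasiCompact_of_compactSpace _
  haveI : LocallyOfFinitePresentation (pullback.diagonal f) := inferInstance
  rw [← Set.image_univ]
  exact (pullback.diagonal f).isConstructible_image IsConstructible.univ

end Fibre

theorem isPullback_self {X Y : Scheme.{u}} (f : X ⟶ Y) : IsPullback (𝟙 X) f f (𝟙 Y) :=
  IsPullback.of_horiz_isIso ⟨by simp⟩

theorem surjective_of_point {T T' : Scheme.{u}} [Subsingleton T] [Nonempty T'] (h : T' ⟶ T) : Surjective h :=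
  ⟨fun _ => ⟨Classical.arbitrary _, Subsingleton.elim _ _⟩⟩

theorem isAffine_point (T : Scheme.{u}) [Subsingleton T] : IsAffine T :=
  haveI : IsAffine ((⊤ : T.Opens) : Scheme.{u}) := IsAffineOpen.of_subsingleton Set.subsingleton_of_subsingleton
  IsAffine.of_isIso T.topIso.inv

theorem flat_point {T T' : Scheme.{u}} [IsIntegral T] [Subsingleton T] [Subsingleton T'] (h : T' ⟶ T) :
    Flat h := by
  haveI := isAffine_point T
  haveI := isAffine_point T'
  rw [HasRingHomProperty.iff_of_isAffine (P := @Flat)]
  letI := (isField_of_isIntegral_of_subsingleton T).toField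
  letI := h.appTop.hom.toAlgebra
  exact (inferInstance : Module.Flat Γ(T, ⊤) Γ(T', ⊤))

section Props

open ConsProp

theorem isFieldStableMor_surjective :
    IsFieldStableMor.{u} (fun X Y T f g => Function.Surjective f.base) := by
  intro X X' Y Y' T T' f g f' g' eX eY h _ _ _ _ _ _ _ _ sqY sqX
  haveI := surjective_of_point h
  haveI : Surjective eY := MorphismProperty.of_isPullback sqY.flip ‹_›
  show Function.Surjective f ↔ Function.Surjective f'
  rw [surjective_iff_range (isPullback_self f), surjective_iff_range sqX, eY.surjective.range_eq]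
  simp

theorem isConsMor_surjective : IsConsMor.{u} (fun X Y T f g => Function.Surjective f.base) := by
  refine ⟨isFieldStableMor_surjective, fun X Y S f g _ _ _ _ _ _ => dichotomy_of_isConstructible ?_⟩
  haveI : IsLocallyNoetherian Y := LocallyOfFiniteType.isLocallyNoetherian g
  haveI : CompactSpace Y := QuasiCompact.compactSpace_of_compactSpace g
  haveI : IsNoetherian Y := {}
  haveI : LocallyOfFiniteType f := locallyOfFiniteType_of_comp f g
  haveI : QuasiCompact f := QuasiCompact.of_comp f g
  haveI : LocallyOfFinitePresentation f := inferInstance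
  refine isConstructible_setOf_subset g (G := Set.range f) ?_ fun s => ?_
  · rw [← Set.image_univ]; exact f.isConstructible_image IsConstructible.univ
  · rw [← Scheme.Hom.range_fiberι]
    exact surjective_iff_range (isPullback_fiberMap f g s)

theorem isFieldStableMor_universallyInjective :
    IsFieldStableMor.{u} (fun X Y T f g => UniversallyInjective f) := by
  intro X X' Y Y' T T' f g f' g' eX eY h _ _ _ _ _ _ _ _ sqY sqX
  haveI := surjective_of_point h
  haveI : Surjective eY := MorphismProperty.of_isPullback sqY.flip ‹_›
  show UniversallyInjective f ↔ UniversallyInjective f'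
  rw [universallyInjective_iff_range (isPullback_self f), universallyInjective_iff_range sqX,
    eY.surjective.range_eq]
  simp

theorem isConsMor_universallyInjective : IsConsMor.{u} (fun X Y T f g => UniversallyInjective f) := by
  refine ⟨isFieldStableMor_universallyInjective, fun X Y S f g _ _ _ _ _ _ => dichotomy_of_isConstructible ?_⟩
  haveI : IsLocallyNoetherian Y := LocallyOfFiniteType.isLocallyNoetherian g
  haveI : CompactSpace Y := QuasiCompact.compactSpace_of_compactSpace g
  haveI : IsNoetherian Y := {}
  haveI : LocallyOfFiniteType f := locallyOfFiniteType_of_comp f g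
  haveI : QuasiCompact f := QuasiCompact.of_comp f g
  refine isConstructible_setOf_subset ((pullback.fst f f ≫ f) ≫ g) (isConstructible_range_diagonal f) fun s => ?_
  refine (universallyInjective_iff_range (isPullback_fiberMap f g s)).trans ?_
  rw [Scheme.Hom.range_fiberι, Scheme.Hom.comp_base _ g, TopCat.coe_comp, Set.preimage_comp]

theorem isCons_universallyInjective : IsCons.{u} (fun Y T g => UniversallyInjective g) := by
  refine ⟨fun Y Y' T T' g g' e h _ _ _ _ _ _ sq => ?_, fun X S u _ _ _ _ => dichotomy_of_isConstructible ?_⟩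
  · haveI := surjective_of_point h
    show UniversallyInjective g ↔ UniversallyInjective g'
    rw [universallyInjective_iff_range (isPullback_self g), universallyInjective_iff_range sq,
      h.surjective.range_eq]
    simp
  · refine isConstructible_setOf_subset (pullback.fst u u ≫ u) (isConstructible_range_diagonal u) fun s => ?_
    refine (universallyInjective_iff_range (IsPullback.of_hasPullback u (S.fromSpecResidueField s))).trans ?_
    rw [Scheme.range_fromSpecResidueField]

theorem locallyQuasiFinite_descends {X X' Y Y' : Scheme.{u}} {f : X ⟶ Y} {f' : X' ⟶ Y'} {eX : X' ⟶ X}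
    {eY : Y' ⟶ Y} (sq : IsPullback eX f' f eY) [Surjective eY] [Flat eY] [QuasiCompact eY]
    [LocallyOfFiniteType f] : LocallyQuasiFinite f ↔ LocallyQuasiFinite f' := by
  haveI : LocallyOfFiniteType f' := MorphismProperty.of_isPullback sq ‹_›
  refine ⟨fun h => MorphismProperty.of_isPullback sq h, fun h => ?_⟩
  haveI := Groth.Agent.EtFound.fpqc_locallyQuasiFinite.{u}
  exact (MorphismProperty.of_isPullback_of_descendsAlong
    (P := (@LocallyQuasiFinite ⊓ @LocallyOfFiniteType : MorphismProperty Scheme.{u}))
    (Q := (@Surjective ⊓ @Flat ⊓ @QuasiCompact : MorphismProperty Scheme.{u}))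
    sq.flip ⟨⟨inferInstance, inferInstance⟩, inferInstance⟩ ⟨h, inferInstance⟩).1

theorem isConsMor_quasiFinite :
    IsConsMor.{u} (fun X Y T f g => LocallyOfFiniteType f ∧ QuasiCompact f ∧ LocallyQuasiFinite f) := by
  refine ⟨?_, fun X Y S f g _ _ _ _ _ _ => dichotomy_of_isConstructible ?_⟩
  · intro X X' Y Y' T T' f g f' g' eX eY h _ _ _ _ _ _ _ _ sqY sqX
    haveI := surjective_of_point h
    haveI := flat_point h
    haveI := isAffine_point T
    haveI := isAffine_point T'
    haveI : QuasiCompact h := inferInstance
    haveI : Surjective eY := MorphismProperty.of_isPullback sqY.flip ‹_›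
    haveI : Flat eY := MorphismProperty.of_isPullback sqY.flip ‹_›
    haveI : QuasiCompact eY := MorphismProperty.of_isPullback sqY.flip ‹_›
    haveI := isLocallyNoetherian_point T
    haveI : IsLocallyNoetherian Y := LocallyOfFiniteType.isLocallyNoetherian g
    haveI : LocallyOfFiniteType f := locallyOfFiniteType_of_comp f g
    haveI : QuasiCompact f := QuasiCompact.of_comp f g
    haveI : LocallyOfFiniteType f' := MorphismProperty.of_isPullback sqX ‹_›
    haveI : QuasiCompact f' := MorphismProperty.of_isPullback sqX ‹_›
    simp only [locallyQuasiFinite_descends sqX, true_and, *]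
  · haveI : IsLocallyNoetherian Y := LocallyOfFiniteType.isLocallyNoetherian g
    haveI : CompactSpace Y := QuasiCompact.compactSpace_of_compactSpace g
    haveI : IsNoetherian Y := {}
    haveI : LocallyOfFiniteType f := locallyOfFiniteType_of_comp f g
    haveI : QuasiCompact f := QuasiCompact.of_comp f g
    haveI : IsLocallyNoetherian X := LocallyOfFiniteType.isLocallyNoetherian f
    haveI : CompactSpace X := QuasiCompact.compactSpace_of_compactSpace f
    haveI : IsNoetherian X := {}
    refine isConstructible_setOf_subset (f ≫ g)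
      (SpecLib.isConstructible_of_isOpen f.quasiFiniteLocus.2) fun s => ?_
    have sq := isPullback_fiberMap f g s
    haveI : LocallyOfFiniteType (MoreMor.fiberMap f g s) := MorphismProperty.of_isPullback sq ‹_›
    haveI : QuasiCompact (MoreMor.fiberMap f g s) := MorphismProperty.of_isPullback sq ‹_›
    show (LocallyOfFiniteType _ ∧ QuasiCompact _ ∧ LocallyQuasiFinite _) ↔ _
    simp only [locallyQuasiFinite_iff_range sq, true_and, *]
    rw [Scheme.Hom.range_fiberι, Scheme.Hom.comp_base, TopCat.coe_comp, Set.preimage_comp]
    rfl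

theorem isFinite_point_iff {Y T : Scheme.{u}} (g : Y ⟶ T) [IsIntegral T] [Subsingleton T]
    [LocallyOfFiniteType g] [QuasiCompact g] : IsFinite g ↔ LocallyQuasiFinite g :=
  ⟨fun _ => inferInstance, fun _ => IsFinite.of_locallyQuasiFinite g⟩

theorem isCons_isFinite : IsCons.{u} (fun Y T g => IsFinite g) := by
  refine ⟨fun Y Y' T T' g g' e h _ _ _ _ _ _ sq => ?_, fun X S u _ _ _ _ => dichotomy_of_isConstructible ?_⟩
  · haveI := surjective_of_point h
    haveI := flat_point h
    haveI := isAffine_point T
    haveI := isAffine_point T'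
    haveI : QuasiCompact h := inferInstance
    haveI : LocallyOfFiniteType g' := MorphismProperty.of_isPullback sq ‹_›
    haveI : QuasiCompact g' := MorphismProperty.of_isPullback sq ‹_›
    show IsFinite g ↔ IsFinite g'
    rw [isFinite_point_iff, isFinite_point_iff, locallyQuasiFinite_descends sq]
  · haveI : IsLocallyNoetherian X := LocallyOfFiniteType.isLocallyNoetherian u
    haveI : CompactSpace X := QuasiCompact.compactSpace_of_compactSpace u
    haveI : IsNoetherian X := {}
    refine isConstructible_setOf_subset u (SpecLib.isConstructible_of_isOpen u.quasiFiniteLocus.2) fun s => ?_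
    show IsFinite (u.fiberToSpecResidueField s) ↔ _
    rw [isFinite_point_iff]
    refine (locallyQuasiFinite_iff_range (IsPullback.of_hasPullback u (S.fromSpecResidueField s))).trans ?_
    rw [Scheme.range_fromSpecResidueField]
    rfl

end Props

end Groth.Agent.ConsPropLib
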