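import Groth.Prelude.Def_EGA4Misc
import Groth.Prelude.Def_W4ega4s0809p4Pair
import Mathlib.AlgebraicGeometry.Morphisms.Finite
import Mathlib.AlgebraicGeometry.Morphisms.FiniteType

/-!
# Loci of field-stable properties commute with base change (EGA IV 9.2)
-/

set_option autoImplicit false

open CategoryTheory CategoryTheory.Limits AlgebraicGeometry

namespace Groth.Agent.ConsPropLib

universe u

variable {X S X' S' : Scheme.{u}} {p : X' ⟶ X} {u' : X' ⟶ S'} {u : X ⟶ S} {h : S' ⟶ S}

/-- The fibre of a base change is the base change of the fibre. -/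
theorem exists_fibre_pullback (sq : IsPullback p u' u h) (s' : S') :
    ∃ e : u'.fiber s' ⟶ u.fiber (h s'),
      IsPullback e (u'.fiberToSpecResidueField s') (u.fiberToSpecResidueField (h s'))
        (Spec.map (h.residueFieldMap s')) ∧
      e ≫ u.fiberι (h s') = u'.fiberι s' ≫ p := by
  have h1 : IsPullback (u'.fiberι s') (u'.fiberToSpecResidueField s') u' (S'.fromSpecResidueField s') :=
    IsPullback.of_hasPullback _ _
  have h3 : IsPullback (u.fiberι (h s')) (u.fiberToSpecResidueField (h s')) u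
      (S.fromSpecResidueField (h s')) := IsPullback.of_hasPullback _ _
  have h2 : IsPullback (u'.fiberι s' ≫ p) (u'.fiberToSpecResidueField s') u
      (Spec.map (h.residueFieldMap s') ≫ S.fromSpecResidueField (h s')) := by
    rw [Scheme.Hom.SpecMap_residueFieldMap_fromSpecResidueField]
    exact h1.paste_horiz sq
  let e := h3.lift (u'.fiberι s' ≫ p) (u'.fiberToSpecResidueField s' ≫ Spec.map (h.residueFieldMap s'))
    (h2.w.trans (Category.assoc _ _ _).symm)
  refine ⟨e, IsPullback.of_right ?_ (h3.lift_snd _ _ _) h3, h3.lift_fst _ _ _⟩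
  rw [h3.lift_fst]
  exact h2

instance (u : X ⟶ S) [LocallyOfFiniteType u] (s : S) : LocallyOfFiniteType (u.fiberToSpecResidueField s) :=
  inferInstanceAs (LocallyOfFiniteType (pullback.snd u (S.fromSpecResidueField s)))

instance (u : X ⟶ S) [QuasiCompact u] (s : S) : QuasiCompact (u.fiberToSpecResidueField s) :=
  inferInstanceAs (QuasiCompact (pullback.snd u (S.fromSpecResidueField s)))

instance subsingleton_spec_residueField (s : S) : Subsingleton ↥(Spec (S.residueField s)) :=
  inferInstanceAs (Subsingleton (PrimeSpectrum (S.residueField s)))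

theorem locus_preimage {P : ∀ ⦃Y T : Scheme.{u}⦄, (Y ⟶ T) → Prop} (hP : ConsProp.IsFieldStable P)
    [LocallyOfFiniteType u] [QuasiCompact u] (sq : IsPullback p u' u h) :
    ConsProp.locus P u' = h ⁻¹' ConsProp.locus P u := by
  ext s'
  obtain ⟨e, he, -⟩ := exists_fibre_pullback sq s'
  exact (hP _ _ e _ he).symm

theorem locusMod_preimage {P : ∀ ⦃Y T : Scheme.{u}⦄, (Y ⟶ T) → Y.Modules → Prop}
    (hP : ConsProp.IsFieldStableMod P) [LocallyOfFiniteType u] [QuasiCompact u] (sq : IsPullback p u' u h)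
    {F : X.Modules} (hF : ∀ s : S, Coh.IsCoh ((Scheme.Modules.pullback (u.fiberι s)).obj F))
    {F' : X'.Modules} (i : F' ≅ (Scheme.Modules.pullback p).obj F) :
    ConsProp.locusMod P u' F' = h ⁻¹' ConsProp.locusMod P u F := by
  ext s'
  obtain ⟨e, he, hep⟩ := exists_fibre_pullback sq s'
  exact (hP _ _ e _ he _ _ (hF _) ((Scheme.Modules.pullback (u'.fiberι s')).mapIso i ≪≫
    (Scheme.Modules.pullbackComp (u'.fiberι s') p).app F ≪≫
    eqToIso (by rw [hep]) ≪≫ ((Scheme.Modules.pullbackComp e (u.fiberι (h s'))).app F).symm)).symm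

theorem fiberMap_comp_toSpec {Y : Scheme.{u}} (f : X ⟶ Y) (g : Y ⟶ S) (s : S) :
    MoreMor.fiberMap f g s ≫ g.fiberToSpecResidueField s = (f ≫ g).fiberToSpecResidueField s :=
  pullback.lift_snd _ _ _

theorem fiberMap_comp_ι {Y : Scheme.{u}} (f : X ⟶ Y) (g : Y ⟶ S) (s : S) :
    MoreMor.fiberMap f g s ≫ g.fiberι s = (f ≫ g).fiberι s ≫ f :=
  pullback.lift_fst _ _ _

theorem locusMor_preimage {P : ∀ ⦃X Y T : Scheme.{u}⦄, (X ⟶ Y) → (Y ⟶ T) → Prop}
    (hP : ConsProp.IsFieldStableMor P) {Y Y' : Scheme.{u}} {f : X ⟶ Y} {g : Y ⟶ S} {f' : X' ⟶ Y'}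
    {g' : Y' ⟶ S'} {pY : Y' ⟶ Y} [LocallyOfFiniteType g] [QuasiCompact g]
    [LocallyOfFiniteType (f ≫ g)] [QuasiCompact (f ≫ g)]
    (sqY : IsPullback pY g' g h) (sqX : IsPullback p f' f pY) :
    ConsProp.locusMor P f' g' = h ⁻¹' ConsProp.locusMor P f g := by
  ext s'
  obtain ⟨eY, heY, hepY⟩ := exists_fibre_pullback sqY s'
  obtain ⟨eX, heX, hepX⟩ := exists_fibre_pullback (sqX.paste_vert sqY) s'
  haveI : LocallyOfFiniteType (MoreMor.fiberMap f g (h s') ≫ g.fiberToSpecResidueField (h s')) := by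
    rw [fiberMap_comp_toSpec]; infer_instance
  haveI : QuasiCompact (MoreMor.fiberMap f g (h s') ≫ g.fiberToSpecResidueField (h s')) := by
    rw [fiberMap_comp_toSpec]; infer_instance
  refine (hP _ _ _ _ eX eY _ heY ?_).symm
  refine IsPullback.of_bot ?_ ?_ heY
  · rw [fiberMap_comp_toSpec, fiberMap_comp_toSpec]; exact heX
  · have h3 : IsPullback (g.fiberι (h s')) (g.fiberToSpecResidueField (h s')) g
        (S.fromSpecResidueField (h s')) := IsPullback.of_hasPullback _ _
    refine h3.hom_ext ?_ ?_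
    · rw [Category.assoc, fiberMap_comp_ι, ← Category.assoc, hepX, Category.assoc, sqX.w,
        Category.assoc, hepY, ← Category.assoc (MoreMor.fiberMap f' g' s'), fiberMap_comp_ι, Category.assoc]
    · rw [Category.assoc, fiberMap_comp_toSpec, Category.assoc, heY.w, ← Category.assoc,
        fiberMap_comp_toSpec]
      exact heX.w

theorem locusPair_preimage {P : ∀ ⦃X Y T : Scheme.{u}⦄, (X ⟶ T) → (Y ⟶ T) → Prop}
    (hP : ConsPropPair.IsFieldStablePair P) {Y Y' : Scheme.{u}} {pY : Y' ⟶ Y} {v : Y ⟶ S} {v' : Y' ⟶ S'}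
    [LocallyOfFiniteType u] [QuasiCompact u] [LocallyOfFiniteType v] [QuasiCompact v]
    (sq : IsPullback p u' u h) (sqY : IsPullback pY v' v h) :
    ConsPropPair.locusPair P u' v' = h ⁻¹' ConsPropPair.locusPair P u v := by
  ext s'
  obtain ⟨eX, heX, -⟩ := exists_fibre_pullback sq s'
  obtain ⟨eY, heY, -⟩ := exists_fibre_pullback sqY s'
  exact (hP _ _ _ _ eX eY _ heX heY).symm

end Groth.Agent.ConsPropLib
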