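import Groth.Agent.ConsPropLib.GenProjective

/-!
# The locus of fibres of constant rank (EGA IV 9.4.7)
-/

set_option autoImplicit false
set_option linter.style.haveILetI false

open TensorProduct Topology

namespace Groth.Agent.ConsPropLib

universe u

section

variable {B : Type u} [CommRing B] {M : Type u} [AddCommGroup M] [Module B M] (k : Type u) [Field k] [Algebra B k]

theorem surjective_lTensor_linearCombination_iff {ι : Type} [Fintype ι] (m : ι → M) :
    Function.Surjective ((Fintype.linearCombination B m).lTensor k) ↔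
      Submodule.span k (Set.range fun i => (1 : k) ⊗ₜ[B] m i) = ⊤ := by
  classical
  let e := TensorProduct.piScalarRight B k k ι
  have h1 : ((Fintype.linearCombination B m).baseChange k).comp e.symm.toLinearMap =
      Fintype.linearCombination k fun i => (1 : k) ⊗ₜ[B] m i := by
    refine LinearMap.pi_ext' fun i => LinearMap.ext_ring ?_
    have h2 : e ((1 : k) ⊗ₜ[B] Pi.single i (1 : B)) = Pi.single i (1 : k) := by
      ext j
      simp [e, Pi.single_apply]
    simp only [LinearMap.comp_apply, LinearMap.coe_single, LinearEquiv.coe_coe, ← h2, e.symm_apply_apply,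
      LinearMap.baseChange_tmul, Fintype.linearCombination_apply_single, one_smul]
    rw [h2, Fintype.linearCombination_apply_single, one_smul]
  rw [← LinearMap.baseChange_eq_ltensor, ← Fintype.range_linearCombination, ← h1, LinearMap.range_eq_top,
    LinearMap.coe_comp]
  exact (Function.Surjective.of_comp_iff _ e.symm.surjective).symm

end

open Module in
/-- The set of primes where a finitely presented module has a given fibre dimension is constructible. -/
theorem isConstructible_rankSet {B : Type u} [CommRing B] (M : Type u) [AddCommGroup M] [Module B M]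
    [Module.FinitePresentation B M] (n : ℕ) :
    IsConstructible {q : PrimeSpectrum B | finrank q.asIdeal.ResidueField (q.asIdeal.ResidueField ⊗[B] M) = n} := by
  classical
  obtain ⟨g, π, hπ⟩ := Module.Finite.exists_fin' B M
  let m : Fin g → M := fun i => π (Pi.single i 1)
  have hπm : Fintype.linearCombination B m = π := LinearMap.pi_ext' fun i => LinearMap.ext_ring (by
    simp [m, Fintype.linearCombination_apply_single])
  have key : ∀ S : Finset (Fin g), ∃ E : Set (PrimeSpectrum B), IsConstructible E ∧ ∀ q : PrimeSpectrum B,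
      Submodule.span q.asIdeal.ResidueField
        (Set.range fun i : S => (1 : q.asIdeal.ResidueField) ⊗ₜ[B] m i) = ⊤ ↔ q ∈ E := by
    intro S
    obtain ⟨E, hE, hk⟩ := exists_constructible_exact (R := B)
      (Fintype.linearCombination B fun i : S => m i) (0 : M →ₗ[B] M)
    refine ⟨E, hE, fun q => ?_⟩
    rw [← hk q.asIdeal.ResidueField q (Ideal.ext fun x => Ideal.algebraMap_residueField_eq_zero.symm),
      ← surjective_lTensor_linearCombination_iff]
    simp only [LinearMap.restrictScalars_self, LinearMap.lTensor_zero]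
    exact ⟨fun h z => ⟨fun _ => h z, fun _ => rfl⟩, fun h z => (h z).1 rfl⟩
  choose E hE hk using key
  let T : ℕ → Set (PrimeSpectrum B) := fun j =>
    {q | finrank q.asIdeal.ResidueField (q.asIdeal.ResidueField ⊗[B] M) ≤ j}
  have hT : ∀ j, IsConstructible (T j) := fun j => by
    have hTj : T j = ⋃ S : {S : Finset (Fin g) // S.card ≤ j}, E S.1 := by
      ext q
      let K := q.asIdeal.ResidueField
      simp only [Set.mem_iUnion, ← hk]
      constructor
      · intro (hq : finrank K (K ⊗[B] M) ≤ j)
        have htop : Submodule.span K (Set.range fun i => (1 : K) ⊗ₜ[B] m i) = ⊤ := by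
          rw [← surjective_lTensor_linearCombination_iff, hπm]
          exact LinearMap.lTensor_surjective K hπ
        obtain ⟨b, hb, hspan, hli⟩ := exists_linearIndependent K (Set.range fun i => (1 : K) ⊗ₜ[B] m i)
        choose idx hidx using fun x : b => hb x.2
        haveI : Fintype b := ((Set.finite_range _).subset hb).fintype
        have hcard : b.toFinset.card = finrank K (K ⊗[B] M) := by
          rw [← finrank_span_set_eq_card hli, hspan, htop, finrank_top]
        refine ⟨⟨Finset.univ.image idx, le_trans (Finset.card_image_le) ?_⟩, ?_⟩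
        · rw [Finset.card_univ, ← Set.toFinset_card, hcard]; exact hq
        · rw [eq_top_iff, ← htop, ← hspan]
          refine Submodule.span_le.2 fun x hx => Submodule.subset_span
            ⟨⟨idx ⟨x, hx⟩, Finset.mem_image.2 ⟨_, Finset.mem_univ _, rfl⟩⟩, hidx ⟨x, hx⟩⟩
      · rintro ⟨⟨S, hS⟩, hq⟩
        show finrank K (K ⊗[B] M) ≤ j
        rw [← finrank_top K (K ⊗[B] M), ← hq]
        exact (finrank_range_le_card _).trans (by simpa using hS)
    rw [hTj]
    exact IsConstructible.iUnion fun S => hE S.1
  rcases n with _ | n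
  · convert hT 0 using 1
    ext q
    simp [T]
  · convert (hT (n + 1)).sdiff (hT n) using 1
    ext q
    simp only [T, Set.mem_setOf_eq, Set.mem_diff]
    omega

open Module in
/-- `M ⊗ k` is projective of constant rank `n` over `B ⊗ k` exactly on a constructible set of primes. -/
theorem exists_constructible_projective_rank {R B : Type u} [CommRing R] [CommRing B] [Algebra R B]
    [Algebra.FinitePresentation R B] (M : Type u) [AddCommGroup M] [Module B M] [Module.FinitePresentation B M]
    (n : ℕ) :
    ∃ E : Set (PrimeSpectrum R), IsConstructible E ∧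
      ∀ (k : Type u) [Field k] [Algebra R k] (p : PrimeSpectrum R), p.asIdeal = RingHom.ker (algebraMap R k) →
        (letI : Algebra B (k ⊗[R] B) := Algebra.TensorProduct.rightAlgebra
         (Module.Projective (k ⊗[R] B) ((k ⊗[R] B) ⊗[B] M) ∧
           ∀ Q, Module.rankAtStalk (R := k ⊗[R] B) ((k ⊗[R] B) ⊗[B] M) Q = n) ↔ p ∈ E) := by
  obtain ⟨E, hE, hk⟩ := exists_constructible_projective (R := R) (B := B) M
  let Nn : Set (PrimeSpectrum B) := {q | finrank q.asIdeal.ResidueField (q.asIdeal.ResidueField ⊗[B] M) = n}
  have hN : IsConstructible (PrimeSpectrum.comap (algebraMap R B) '' Nnᶜ) :=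
    PrimeSpectrum.isConstructible_comap_image (RingHom.finitePresentation_algebraMap.2 ‹_›)
      (isConstructible_rankSet M n).compl
  refine ⟨E \ (PrimeSpectrum.comap (algebraMap R B) '' Nnᶜ), hE.sdiff hN, fun k _ _ p hp => ?_⟩
  rw [Set.mem_diff, ← hk k p hp]
  letI : Algebra B (k ⊗[R] B) := Algebra.TensorProduct.rightAlgebra
  refine and_congr_right fun hproj => ?_
  haveI := hproj
  have hrank : ∀ Q : PrimeSpectrum (k ⊗[R] B), Module.rankAtStalk (R := k ⊗[R] B) ((k ⊗[R] B) ⊗[B] M) Q = n ↔
      PrimeSpectrum.comap (algebraMap B (k ⊗[R] B)) Q ∈ Nn := fun Q => by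
    let q := PrimeSpectrum.comap (algebraMap B (k ⊗[R] B)) Q
    let K := Q.asIdeal.ResidueField
    let K₀ := q.asIdeal.ResidueField
    have h1 : Module.rankAtStalk (R := k ⊗[R] B) ((k ⊗[R] B) ⊗[B] M) Q =
        finrank K (K ⊗[k ⊗[R] B] ((k ⊗[R] B) ⊗[B] M)) := by
      have := Module.rankAtStalk_baseChange (R := k ⊗[R] B) (M := (k ⊗[R] B) ⊗[B] M) (S := K)
        (⊥ : PrimeSpectrum K)
      rw [Module.rankAtStalk_eq_finrank_of_free] at this
      refine Eq.trans ?_ this.symm
      congr 1
      refine PrimeSpectrum.ext (Ideal.ext fun x => ?_)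
      exact Ideal.algebraMap_residueField_eq_zero.symm
    letI : Algebra K₀ K := (Ideal.ResidueField.map q.asIdeal Q.asIdeal (algebraMap B (k ⊗[R] B)) rfl).toAlgebra
    haveI : IsScalarTower B K₀ K := IsScalarTower.of_algebraMap_eq fun a => by
      rw [RingHom.algebraMap_toAlgebra]
      exact ((Ideal.ResidueField.map_algebraMap q.asIdeal Q.asIdeal (algebraMap B (k ⊗[R] B)) rfl a).trans
        (IsScalarTower.algebraMap_apply B (k ⊗[R] B) K a).symm).symm
    rw [h1, (AlgebraTensorModule.cancelBaseChange B (k ⊗[R] B) K K M).finrank_eq,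
      ← (AlgebraTensorModule.cancelBaseChange B K₀ K K M).finrank_eq, Module.finrank_baseChange]
    rfl
  simp only [hrank]
  constructor
  · rintro h ⟨q, hq, hqp⟩
    let g := CommRingCat.ofHom (algebraMap R B)
    let φ := CommRingCat.ofHom (algebraMap R k)
    open CategoryTheory AlgebraicGeometry in
    have sq : IsPullback (Spec.map (CommRingCat.ofHom (algebraMap B (k ⊗[R] B))))
        (Spec.map (CommRingCat.ofHom (Algebra.TensorProduct.includeLeftRingHom (R := R) (A := k) (B := B))))
        (Spec.map g) (Spec.map φ) :=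
      (isPullback_SpecMap_of_isPushout _ _ _ _ (CommRingCat.isPushout_tensorProduct R k B)).flip
    obtain ⟨x⟩ : Nonempty (PrimeSpectrum k) := inferInstance
    obtain ⟨Q, hQ, -⟩ := AlgebraicGeometry.Scheme.Pullback.exists_preimage_pullback (f := AlgebraicGeometry.Spec.map g)
      (g := AlgebraicGeometry.Spec.map φ) q x (by
        show PrimeSpectrum.comap (algebraMap R B) q = PrimeSpectrum.comap (algebraMap R k) x
        rw [hqp]
        refine PrimeSpectrum.ext ?_
        rw [hp, PrimeSpectrum.comap_asIdeal, (Ideal.eq_bot_or_top x.asIdeal).resolve_right x.2.ne_top]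
        rfl)
    have hQ' := h (sq.isoPullback.inv Q)
    refine hq ?_
    rw [← hQ, ← sq.isoPullback_inv_fst]
    exact hQ'
  · intro h Q
    refine by_contra fun hn => h ⟨_, hn, ?_⟩
    refine PrimeSpectrum.ext ?_
    rw [hp, PrimeSpectrum.comap_asIdeal, PrimeSpectrum.comap_asIdeal, Ideal.comap_comap]
    ext r
    have e : algebraMap B (k ⊗[R] B) (algebraMap R B r) =
        algebraMap k (k ⊗[R] B) (algebraMap R k r) := by
      show (1 : k) ⊗ₜ[R] algebraMap R B r = (algebraMap R k r) ⊗ₜ[R] (1 : B)
      rw [Algebra.algebraMap_eq_smul_one, Algebra.algebraMap_eq_smul_one, TensorProduct.smul_tmul]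
    simp only [Ideal.mem_comap, RingHom.comp_apply, RingHom.mem_ker, e]
    have hbot : Q.asIdeal.comap (algebraMap k (k ⊗[R] B)) = ⊥ :=
      (Ideal.eq_bot_or_top _).resolve_right (Ideal.IsPrime.ne_top inferInstance)
    exact (Ideal.ext_iff.1 hbot (algebraMap R k r)).trans Ideal.mem_bot

end Groth.Agent.ConsPropLib
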