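import Groth.Agent.ConsPropLib.FibreLocFree
import Groth.Agent.ConsPropLib.FibreRank

/-!
# The locus of locally free fibres of given rank (EGA IV 9.4.7)
-/

set_option autoImplicit false
set_option linter.style.haveILetI false

open CategoryTheory CategoryTheory.Limits AlgebraicGeometry TopologicalSpace Topology Groth.Agent.QCoh

namespace Groth.Agent.ConsPropLib

universe u

variable {X S : Scheme.{u}}

theorem isFinLocFreeOfRank_iso {n : ℕ} {M N : X.Modules} (e : M ≅ N) :
    FlatMod.IsFinLocFreeOfRank n M ↔ FlatMod.IsFinLocFreeOfRank n N :=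
  ⟨fun h x => let ⟨U, hx, ⟨i⟩⟩ := h x
    ⟨U, hx, ⟨((Scheme.Modules.restrictFunctor U.ι).mapIso e).symm ≪≫ i⟩⟩,
  fun h x => let ⟨U, hx, ⟨i⟩⟩ := h x
    ⟨U, hx, ⟨(Scheme.Modules.restrictFunctor U.ι).mapIso e ≪≫ i⟩⟩⟩

theorem isFinLocFreeOfRank_restrict {n : ℕ} {Z : Scheme.{u}} (j : Z ⟶ X) [IsOpenImmersion j] {M : X.Modules}
    (h : FlatMod.IsFinLocFreeOfRank n M) : FlatMod.IsFinLocFreeOfRank n (M.restrict j) := fun z => by
  obtain ⟨U, hx, ⟨i⟩⟩ := h (j z)
  refine ⟨j ⁻¹ᵁ U, hx, ⟨restrictRestrict M _ j ≪≫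
    (Scheme.Modules.restrictFunctorCongr (morphismRestrict_ι j U).symm).app M ≪≫
    (restrictRestrict M _ U.ι).symm ≪≫ (Scheme.Modules.restrictFunctor _).mapIso i ≪≫ freeModRestrict _ n⟩⟩

theorem isFinLocFreeOfRank_of_cover {n : ℕ} {J : Type*} {Z : J → Scheme.{u}} (j : ∀ i, Z i ⟶ X)
    [∀ i, IsOpenImmersion (j i)] (hc : ∀ x, ∃ i, x ∈ Set.range (j i)) {M : X.Modules}
    (h : ∀ i, FlatMod.IsFinLocFreeOfRank n (M.restrict (j i))) :
    FlatMod.IsFinLocFreeOfRank n M := fun x => by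
  obtain ⟨i, z, rfl⟩ := hc x
  obtain ⟨U, hz, ⟨e⟩⟩ := h i z
  let q : ((j i ''ᵁ U : X.Opens) : Scheme.{u}) ⟶ U := ((j i).isoImage U).inv
  have hq : q ≫ U.ι ≫ j i = (j i ''ᵁ U).ι := by simp [q]
  exact ⟨j i ''ᵁ U, ⟨z, hz, rfl⟩,
    ⟨(Scheme.Modules.restrictFunctorCongr hq.symm).app M ≪≫ (restrictRestrict M q (U.ι ≫ j i)).symm ≪≫
      (Scheme.Modules.restrictFunctor q).mapIso ((restrictRestrict M U.ι (j i)).symm ≪≫ e) ≪≫ freeModRestrict _ n⟩⟩

set_option backward.isDefEq.respectTransparency.types false in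
set_option backward.isDefEq.respectTransparency false in
theorem isFinLocFreeOfRank_iff {n : ℕ} {M : X.Modules} :
    FlatMod.IsFinLocFreeOfRank n M ↔ FlatMod.IsFinLocFree M ∧
      ∀ x : X, Module.finrank (X.presheaf.stalk x) (M.presheaf.stalk x) = n := by
  have key : ∀ {U : X.Opens} {m : ℕ} (_ : M.restrict U.ι ≅ FlatMod.freeMod (U : Scheme.{u}) m)
      (_ : FlatMod.IsFinLocFree M) {x : X}, x ∈ U →
      Module.finrank (X.presheaf.stalk x) (M.presheaf.stalk x) = m := by
    intro U m e h x hx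
    obtain ⟨_, ⟨V, hV, rfl⟩, hxV, hle⟩ :=
      X.isBasis_affineOpens.exists_subset_of_mem_open (show x ∈ U from hx) U.2
    obtain ⟨l⟩ := exists_linearEquiv_of_freeIso (freeChart hV hle e)
    exact finrank_stalk_of_freeChart hV (isQCoh_of_isFinLocFree h) ((chartEquiv hV M).trans l) hxV
  constructor
  · intro h
    have h' : FlatMod.IsFinLocFree M := fun x => let ⟨U, hx, e⟩ := h x; ⟨U, n, hx, e⟩
    exact ⟨h', fun x => let ⟨U, hx, ⟨e⟩⟩ := h x; key e h' hx⟩
  · rintro ⟨h, hn⟩ x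
    obtain ⟨U, m, hx, ⟨e⟩⟩ := h x
    obtain rfl : m = n := (key e h hx).symm.trans (hn x)
    exact ⟨U, hx, ⟨e⟩⟩

open TensorProduct in
theorem rankAtStalk_of_ringEquiv {R R' M M' : Type u} [CommRing R] [CommRing R'] [Algebra R R']
    (hbij : Function.Bijective (algebraMap R R')) [AddCommGroup M] [Module R M] [Module.Flat R M]
    [Module.Finite R M] [AddCommGroup M'] [Module R M'] [Module R' M'] [IsScalarTower R R' M']
    (e : M ≃ₗ[R] M') (P : PrimeSpectrum R') :
    Module.rankAtStalk M' P = Module.rankAtStalk M (PrimeSpectrum.comap (algebraMap R R') P) := by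
  let c : R' ≃ₗ[R] R := (LinearEquiv.ofBijective (Algebra.linearMap R R') hbij).symm
  let E : R' ⊗[R] M ≃ₗ[R] M' := (TensorProduct.congr c e).trans (TensorProduct.lid R M')
  have hsm : ∀ (r : R') (z : R' ⊗[R] M), E (r • z) = r • E z := fun r z => by
    obtain ⟨r, rfl⟩ := hbij.2 r
    rw [algebraMap_smul, algebraMap_smul, map_smul]
  let E' : R' ⊗[R] M ≃ₗ[R'] M' := { E with map_smul' := hsm }
  rw [← Module.rankAtStalk_eq_of_equiv E', Module.rankAtStalk_baseChange]

set_option backward.isDefEq.respectTransparency.types false in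
set_option backward.isDefEq.respectTransparency false in
theorem isFinLocFreeOfRank_tilde_iff {R : CommRingCat.{u}} (N : ModuleCat.{u} R) (n : ℕ) :
    FlatMod.IsFinLocFreeOfRank n (tilde N) ↔
      Module.Finite R N ∧ Module.Projective R N ∧ ∀ Q, Module.rankAtStalk (R := R) N Q = n := by
  rw [isFinLocFreeOfRank_iff, isFinLocFree_tilde_iff, and_assoc]
  refine and_congr_right fun hfin => and_congr_right fun hproj => ?_
  haveI := hfin
  haveI := hproj
  have hq : Coh.IsQCoh (tilde N) := inferInstance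
  let hU := isAffineOpen_top (Spec R)
  let iR := Scheme.ΓSpecIso R
  letI : Module R Γ(tilde N, ⊤) := Module.compHom _ iR.inv.hom
  let e0 := ((tilde.toTildeΓNatIso (R := R)).app N).toLinearEquiv
  let e : N ≃ₗ[R] Γ(tilde N, ⊤) :=
    { toFun := fun m => (show Γ(tilde N, ⊤) from e0 m)
      invFun := fun z => e0.symm z
      left_inv := e0.symm_apply_apply
      right_inv := e0.apply_symm_apply
      map_add' := map_add e0
      map_smul' := fun a m => map_smul e0 a m }
  letI : Algebra R Γ(Spec R, ⊤) := iR.inv.hom.toAlgebra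
  haveI : IsScalarTower R Γ(Spec R, ⊤) Γ(tilde N, ⊤) := IsScalarTower.of_algebraMap_smul fun _ _ => rfl
  have hbij : Function.Bijective (algebraMap R Γ(Spec R, ⊤)) := ConcreteCategory.bijective_of_isIso iR.inv
  constructor
  · intro h Q
    let E : R ≃+* Γ(Spec R, ⊤) := RingEquiv.ofBijective _ hbij
    obtain ⟨y, hy, hQ⟩ := exists_point hU (PrimeSpectrum.comap E.symm.toRingHom Q)
    have h1 := (rankAtStalk_eq_finrank hq hU hy).trans (h y)
    rw [hQ, rankAtStalk_of_ringEquiv hbij e] at h1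
    convert h1 using 2
    refine PrimeSpectrum.ext (Ideal.ext fun r => ?_)
    exact (iff_of_eq (congrArg (· ∈ Q.asIdeal) (E.symm_apply_apply r))).symm
  · intro h x
    rw [← rankAtStalk_eq_finrank hq hU (x := x) trivial, rankAtStalk_of_ringEquiv hbij e, h]

set_option backward.isDefEq.respectTransparency.types false in
set_option backward.isDefEq.respectTransparency false in
open TensorProduct in
/-- The affine piece: over an affine open of the base and one of the source. -/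
theorem exists_constructible_rank_chart (f : X ⟶ S) [LocallyOfFinitePresentation f] (F : X.Modules) [Coh.IsQCoh F]
    (hF : CohB1.IsFP F) (n : ℕ) {U : S.Opens} (hU : IsAffineOpen U) {V : X.Opens} (hV : IsAffineOpen V)
    (hle : V ≤ f ⁻¹ᵁ U) :
    ∃ E : Set (Spec Γ(S, U)), IsConstructible E ∧ ∀ p, ∃ (Z : Scheme.{u}) (j : Z ⟶ f.fiber (hU.fromSpec p))
      (_ : IsOpenImmersion j), Set.range j = f.fiberι (hU.fromSpec p) ⁻¹' V ∧
        (FlatMod.IsFinLocFreeOfRank n (((Scheme.Modules.pullback (f.fiberι (hU.fromSpec p))).obj F).restrict j) ↔ p ∈ E) := by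
  letI := (f.appLE U V hle).hom.toAlgebra
  haveI : Algebra.FinitePresentation Γ(S, U) Γ(X, V) :=
    LocallyOfFinitePresentation.finitePresentation_appLE f hU hV hle
  let N := F.restrict hV.fromSpec
  have hN : Coh.IsQCoh N := isQCoh_restrict _ ‹_›
  let M := moduleSpecΓFunctor.obj N
  haveI := finitePresentation_of_isFP hF hV
  haveI : Module.FinitePresentation Γ(X, V) M := Module.FinitePresentation.of_equiv (chartEquiv hV F)
  have := (isQuasicoherent_iff_isIso_fromTildeΓ N).1 hN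
  let eN : tilde M ≅ N := @asIso _ _ _ _ N.fromTildeΓ this
  obtain ⟨E, hE, hkey⟩ := exists_constructible_projective_rank (R := Γ(S, U)) (B := Γ(X, V)) M n
  refine ⟨E, hE, fun p => ?_⟩
  obtain ⟨φ, hker, hchart⟩ := exists_fibre_chart f hU hV hle p
  letI := φ.hom.toAlgebra
  obtain ⟨j, hj, hrange, hsq⟩ := hchart
  let k := S.residueField (hU.fromSpec p)
  let i : Γ(X, V) ⟶ CommRingCat.of (k ⊗[Γ(S, U)] Γ(X, V)) := CommRingCat.ofHom (Algebra.TensorProduct.includeRight
    (R := Γ(S, U)) (A := k) (B := Γ(X, V))).toRingHom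
  let N' : ModuleCat (CommRingCat.of (k ⊗[Γ(S, U)] Γ(X, V))) :=
    (ModuleCat.extendScalars.{_, _, u} i.hom).obj M
  refine ⟨_, j, hj, hrange, ?_⟩
  have e : ((Scheme.Modules.pullback (f.fiberι (hU.fromSpec p))).obj F).restrict j ≅ tilde N' :=
    pullbackChartIso i (f.fiberι (hU.fromSpec p)) hsq F ≪≫
      (Scheme.Modules.pullback (Spec.map i)).mapIso eN.symm ≪≫ (tildePullbackIso i).app M
  rw [isFinLocFreeOfRank_iso e, isFinLocFreeOfRank_tilde_iff, ← hkey k p hker.symm]
  letI : Algebra Γ(X, V) (k ⊗[Γ(S, U)] Γ(X, V)) := Algebra.TensorProduct.rightAlgebra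
  have hfin : Module.Finite (k ⊗[Γ(S, U)] Γ(X, V)) ((k ⊗[Γ(S, U)] Γ(X, V)) ⊗[Γ(X, V)] M) := inferInstance
  exact ⟨fun h => h.2, fun h => ⟨hfin, h⟩⟩

/-- EGA IV 9.4.7: the locus of locally free fibres. -/
theorem isLocallyConstructible_finLocFreeOfRankLocus (f : X ⟶ S) [LocallyOfFinitePresentation f] [QuasiCompact f]
    (F : X.Modules) [Coh.IsQCoh F] (hF : CohB1.IsFP F) (n : ℕ) :
    IsLocallyConstructible {s : S | FlatMod.IsFinLocFreeOfRank n ((Scheme.Modules.pullback (f.fiberι s)).obj F)} :=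
  lc_of_affine fun U hU => by
    let L : Set S := {s : S | FlatMod.IsFinLocFreeOfRank n ((Scheme.Modules.pullback (f.fiberι s)).obj F)}
    obtain ⟨c, hcfin, hc⟩ := isCompact_and_isOpen_iff_finite_and_eq_biUnion_affineOpens.1
      ⟨f.isCompact_preimage hU.isCompact, (f ⁻¹ᵁ U).2⟩
    haveI := hcfin.to_subtype
    have hle : ∀ k : c, k.1.1 ≤ f ⁻¹ᵁ U := fun k y hy => hc.ge (Set.mem_iUnion₂.2 ⟨k.1, k.2, hy⟩)
    choose E hE hEk using fun k : c => exists_constructible_rank_chart f F hF n hU k.1.2 (hle k)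
    have hL : hU.fromSpec ⁻¹' L = ⋂ k, E k := by
      ext p
      rw [Set.mem_iInter]
      choose Z j hj hr hiff using fun k => hEk k p
      refine ⟨fun h k => (hiff k).1 (haveI := hj k; isFinLocFreeOfRank_restrict (j k) h), fun h => ?_⟩
      haveI := hj
      refine isFinLocFreeOfRank_of_cover j (fun w => ?_) fun k => (hiff k).2 (h k)
      have hw : f (f.fiberι (hU.fromSpec p) w) = hU.fromSpec p := (f.range_fiberι _).le ⟨w, rfl⟩
      obtain ⟨a, ha, hwa⟩ := Set.mem_iUnion₂.1 (hc.le (show f (f.fiberι (hU.fromSpec p) w) ∈ U by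
        rw [hw, ← SetLike.mem_coe, ← hU.range_fromSpec]; exact ⟨p, rfl⟩))
      exact ⟨⟨a, ha⟩, (hr ⟨a, ha⟩).ge hwa⟩
    have h1 : IsConstructible (hU.fromSpec ⁻¹' L) := hL ▸ IsConstructible.iInter hE
    haveI : IsAffineHom hU.isoSpec.hom := inferInstance
    haveI : IsAffine (U : Scheme.{u}) := hU
    have h2 : IsConstructible (hU.isoSpec.hom ⁻¹' (hU.fromSpec ⁻¹' L)) :=
      MorLib.LimCons.isConstructible_preimage hU.isoSpec.hom h1
    rwa [← Set.preimage_comp, ← TopCat.coe_comp, ← Scheme.Hom.comp_base, hU.isoSpec_hom_fromSpec] at h2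

end Groth.Agent.ConsPropLib
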