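import Mathlib

/-!
# An affine scheme is a limit of affine noetherian schemes
-/

set_option autoImplicit false
set_option linter.style.haveILetI false

open CategoryTheory CategoryTheory.Limits AlgebraicGeometry

namespace Groth.Agent.ConsPropLib.NoethApprox

universe u

variable (A : CommRingCat.{u})

/-- The finitely generated subrings of `A`. -/
noncomputable def rings : Finset A ⥤ CommRingCat.{u} where
  obj s := CommRingCat.of (Algebra.adjoin ℤ (s : Set A))
  map {s t} h := CommRingCat.ofHom
    (Subalgebra.inclusion (Algebra.adjoin_mono (Finset.coe_subset.2 (leOfHom h)))).toRingHom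

/-- The cocone of the inclusions into `A`. -/
noncomputable def cocone : Cocone (rings A) where
  pt := A
  ι := { app := fun s => CommRingCat.ofHom (Algebra.adjoin ℤ (s : Set A)).val.toRingHom }

/-- `A` is the colimit of its finitely generated subrings. -/
noncomputable def isColimit : IsColimit (cocone A) := by
  classical
  haveI : ReflectsColimit (rings A) (forget CommRingCat.{u}) := reflectsColimit_of_reflectsIsomorphisms _ _
  refine isColimitOfReflects (forget CommRingCat.{u}) ?_
  refine Types.FilteredColimit.isColimitOf' _ _ (fun z => ?_) fun s x y h => ?_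
  · exact ⟨{z}, ⟨z, Algebra.subset_adjoin (Finset.mem_singleton_self z)⟩, rfl⟩
  · refine ⟨s, 𝟙 s, ?_⟩
    exact congrArg _ (Subtype.ext h)

/-- The system of affine noetherian schemes. -/
noncomputable def diagram : (Finset A)ᵒᵖ ⥤ Scheme.{u} := (rings A).op ⋙ Scheme.Spec

/-- The limiting cone on `Spec A`. -/
noncomputable def cone : Cone (diagram A) := Scheme.Spec.mapCone (cocone A).op

/-- `Spec A` is the limit of the system. -/
noncomputable def isLimit : IsLimit (cone A) := isLimitOfPreserves Scheme.Spec (isColimit A).op

instance isAffine_obj (i : (Finset A)ᵒᵖ) : IsAffine ((diagram A).obj i) :=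
  isAffine_Spec (CommRingCat.of (Algebra.adjoin ℤ ((i.unop : Finset A) : Set A)))

instance isNoetherian_obj (i : (Finset A)ᵒᵖ) : IsNoetherian ((diagram A).obj i) := by
  haveI : Algebra.FiniteType ℤ (Algebra.adjoin ℤ ((i.unop : Finset A) : Set A)) :=
    Algebra.FiniteType.adjoin_of_finite (Finset.finite_toSet _)
  haveI : IsNoetherianRing (Algebra.adjoin ℤ ((i.unop : Finset A) : Set A)) :=
    Algebra.FiniteType.isNoetherianRing ℤ _
  exact inferInstanceAs (IsNoetherian (Spec (CommRingCat.of (Algebra.adjoin ℤ ((i.unop : Finset A) : Set A)))))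

instance isAffineHom_map {i j : (Finset A)ᵒᵖ} (f : i ⟶ j) : IsAffineHom ((diagram A).map f) :=
  isAffineHom_of_isAffine _

end Groth.Agent.ConsPropLib.NoethApprox

namespace Groth.Agent.ConsPropLib

universe u

open NoethApprox in
/-- An affine scheme is a limit of affine noetherian schemes. -/
theorem exists_noetherian_limit (S : Scheme.{u}) [IsAffine S] :
    ∃ (I : Type u) (_ : SmallCategory I) (_ : IsCofiltered I) (D : I ⥤ Scheme.{u}) (c : Cone D)
      (_ : IsLimit c) (_ : c.pt ≅ S), (∀ i, IsAffine (D.obj i)) ∧ (∀ i, IsNoetherian (D.obj i)) :=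
  ⟨_, inferInstance, inferInstance, diagram Γ(S, ⊤), cone Γ(S, ⊤), isLimit Γ(S, ⊤), S.isoSpec.symm,
    fun i => inferInstance, fun i => inferInstance⟩

end Groth.Agent.ConsPropLib
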