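import Groth.Agent.ConsPropLib.Fibrewise

/-!
# Loci of constructible properties over Noetherian bases (EGA IV 9.2.3)
-/

set_option autoImplicit false
set_option linter.style.haveILetI false

open CategoryTheory CategoryTheory.Limits AlgebraicGeometry Topology

namespace Groth.Agent.ConsPropLib

universe u

variable {S : Scheme.{u}} [IsNoetherian S] {X Y : Scheme.{u}}

theorem isConstructible_locus {P : ∀ ⦃Y T : Scheme.{u}⦄, (Y ⟶ T) → Prop} (hP : ConsProp.IsCons P)
    (u : X ⟶ S) [LocallyOfFiniteType u] [QuasiCompact u] : IsConstructible (ConsProp.locus P u) :=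
  isConstructible_of_dichotomy _ fun T j _ _ _ => by
    rw [← locus_preimage hP.1 (IsPullback.of_hasPullback u j)]
    exact hP.2 (pullback.snd u j)

theorem isIndConstructible_locus {P : ∀ ⦃Y T : Scheme.{u}⦄, (Y ⟶ T) → Prop} (hP : ConsProp.IsIndCons P)
    (u : X ⟶ S) [LocallyOfFiniteType u] [QuasiCompact u] : ProCons.IsIndConstructible (ConsProp.locus P u) :=
  isIndConstructible_of_generic _ fun T j _ _ _ hg => by
    have hl := locus_preimage hP.1 (IsPullback.of_hasPullback u j)
    rw [← hl]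
    exact hP.2 (pullback.snd u j) (hl.ge hg)

theorem isConstructible_locusPair {P : ∀ ⦃X Y T : Scheme.{u}⦄, (X ⟶ T) → (Y ⟶ T) → Prop}
    (hP : ConsPropPair.IsConsPair P) (u : X ⟶ S) (v : Y ⟶ S) [LocallyOfFiniteType u] [QuasiCompact u]
    [LocallyOfFiniteType v] [QuasiCompact v] : IsConstructible (ConsPropPair.locusPair P u v) :=
  isConstructible_of_dichotomy _ fun T j _ _ _ => by
    rw [← locusPair_preimage hP.1 (IsPullback.of_hasPullback u j) (IsPullback.of_hasPullback v j)]
    exact hP.2 (pullback.snd u j) (pullback.snd v j)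

theorem isIndConstructible_locusPair {P : ∀ ⦃X Y T : Scheme.{u}⦄, (X ⟶ T) → (Y ⟶ T) → Prop}
    (hP : ConsPropPair.IsIndConsPair P) (u : X ⟶ S) (v : Y ⟶ S) [LocallyOfFiniteType u] [QuasiCompact u]
    [LocallyOfFiniteType v] [QuasiCompact v] : ProCons.IsIndConstructible (ConsPropPair.locusPair P u v) :=
  isIndConstructible_of_generic _ fun T j _ _ _ hg => by
    have hl := locusPair_preimage hP.1 (IsPullback.of_hasPullback u j) (IsPullback.of_hasPullback v j)
    rw [← hl]
    exact hP.2 (pullback.snd u j) (pullback.snd v j) (hl.ge hg)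

omit [AlgebraicGeometry.IsNoetherian S] in
/-- The base change of an `S`-morphism. -/
theorem exists_hom_baseChange (f : X ⟶ Y) (g : Y ⟶ S) {T : Scheme.{u}} (j : T ⟶ S) :
    ∃ fT : pullback (f ≫ g) j ⟶ pullback g j, IsPullback (pullback.fst (f ≫ g) j) fT f (pullback.fst g j) ∧
      fT ≫ pullback.snd g j = pullback.snd (f ≫ g) j := by
  refine ⟨pullback.lift (pullback.fst (f ≫ g) j ≫ f) (pullback.snd (f ≫ g) j)
    (by rw [Category.assoc, pullback.condition]), ?_, pullback.lift_snd _ _ _⟩
  refine IsPullback.of_bot ?_ (pullback.lift_fst _ _ _).symm (IsPullback.of_hasPullback g j)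
  rw [pullback.lift_snd]
  exact IsPullback.of_hasPullback (f ≫ g) j

theorem isConstructible_locusMor {P : ∀ ⦃X Y T : Scheme.{u}⦄, (X ⟶ Y) → (Y ⟶ T) → Prop}
    (hP : ConsProp.IsConsMor P) (f : X ⟶ Y) (g : Y ⟶ S) [LocallyOfFiniteType g] [QuasiCompact g]
    [LocallyOfFiniteType (f ≫ g)] [QuasiCompact (f ≫ g)] : IsConstructible (ConsProp.locusMor P f g) :=
  isConstructible_of_dichotomy _ fun T j _ _ _ => by
    obtain ⟨fT, sq, hc⟩ := exists_hom_baseChange f g j
    rw [← locusMor_preimage hP.1 (IsPullback.of_hasPullback g j) sq]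
    haveI : LocallyOfFiniteType (fT ≫ pullback.snd g j) := by rw [hc]; infer_instance
    haveI : QuasiCompact (fT ≫ pullback.snd g j) := by rw [hc]; infer_instance
    exact hP.2 fT (pullback.snd g j)

theorem isIndConstructible_locusMor {P : ∀ ⦃X Y T : Scheme.{u}⦄, (X ⟶ Y) → (Y ⟶ T) → Prop}
    (hP : ConsProp.IsIndConsMor P) (f : X ⟶ Y) (g : Y ⟶ S) [LocallyOfFiniteType g] [QuasiCompact g]
    [LocallyOfFiniteType (f ≫ g)] [QuasiCompact (f ≫ g)] : ProCons.IsIndConstructible (ConsProp.locusMor P f g) :=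
  isIndConstructible_of_generic _ fun T j _ _ _ hg => by
    obtain ⟨fT, sq, hc⟩ := exists_hom_baseChange f g j
    have hl := locusMor_preimage hP.1 (IsPullback.of_hasPullback g j) sq
    rw [← hl]
    haveI : LocallyOfFiniteType (fT ≫ pullback.snd g j) := by rw [hc]; infer_instance
    haveI : QuasiCompact (fT ≫ pullback.snd g j) := by rw [hc]; infer_instance
    exact hP.2 fT (pullback.snd g j) (hl.ge hg)

end Groth.Agent.ConsPropLib
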