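import Groth.Agent.ConsPropLib.Approx
import Groth.Agent.ConsPropLib.NoethApprox
import Groth.Agent.ConsPropLib.NoetherianLoci
import Groth.Agent.MorLib.LimCons

/-!
# Loci of constructible properties of morphisms of finite presentation (EGA IV 9.3)
-/

set_option autoImplicit false
set_option linter.style.haveILetI false

open CategoryTheory CategoryTheory.Limits AlgebraicGeometry Topology Groth.Agent.SpecLib Groth.Agent.EGA41Lib

namespace Groth.Agent.ConsPropLib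

universe u

/-! ### Locality -/

/-- Locally constructible sets are detected on affine opens. -/
theorem lc_of_affine {S : Scheme.{u}} {E : Set S}
    (h : ∀ V : S.Opens, IsAffineOpen V → IsConstructible (V.ι ⁻¹' E : Set (V : Scheme.{u}))) :
    IsLocallyConstructible E := fun x => by
  obtain ⟨_, ⟨V, hV, rfl⟩, hxV, -⟩ := S.isBasis_affineOpens.exists_subset_of_mem_open (Set.mem_univ x) isOpen_univ
  exact ⟨V, V.2.mem_nhds hxV, V.2, h V hV⟩

/-- Ind-constructible sets are detected on affine opens. -/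
theorem ind_of_affine {S : Scheme.{u}} {E : Set S}
    (h : ∀ V : S.Opens, IsAffineOpen V → ProCons.IsIndConstructible (V.ι ⁻¹' E : Set (V : Scheme.{u}))) :
    ProCons.IsIndConstructible E := by
  rw [ind_iff_compl, pro_iff]
  intro V hV
  haveI : IsAffine (V : Scheme.{u}) := hV
  have h1 := pro_iff.1 (ind_iff_compl.1 (h V hV)) ⊤ (isAffineOpen_top _)
  obtain ⟨_, _, _, _⟩ := ProConsLib.spectral_opens hV
  let e : (V : Set S) ≃ₜ ((⊤ : (V : Scheme.{u}).Opens) : Set (V : Scheme.{u})) :=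
    (Homeomorph.Set.univ _).symm
  have he : IsSpectralMap e := ⟨e.continuous, fun s _ hs => e.isCompact_preimage.2 hs⟩
  exact CC.preimage he h1

/-! ### Models over noetherian schemes -/

/-- A pair of schemes of finite presentation over an affine scheme comes from a noetherian scheme. -/
theorem exists_model_pair {S X Y : Scheme.{u}} [IsAffine S] (u : X ⟶ S) (v : Y ⟶ S)
    [LocallyOfFinitePresentation u] [QuasiCompact u] [QuasiSeparated u]
    [LocallyOfFinitePresentation v] [QuasiCompact v] [QuasiSeparated v] :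
    ∃ (S₀ X₀ Y₀ : Scheme.{u}) (π : S ⟶ S₀) (u₀ : X₀ ⟶ S₀) (v₀ : Y₀ ⟶ S₀) (qX : X ⟶ X₀) (qY : Y ⟶ Y₀),
      IsNoetherian S₀ ∧ IsAffine S₀ ∧ LocallyOfFiniteType u₀ ∧ QuasiCompact u₀ ∧ LocallyOfFiniteType v₀ ∧
      QuasiCompact v₀ ∧ IsPullback qX u u₀ π ∧ IsPullback qY v v₀ π := by
  obtain ⟨I, _, _, D, c, hc, e, hA, hN⟩ := exists_noetherian_limit S
  haveI := hA
  haveI : ∀ {i j : I} (f : i ⟶ j), IsAffineHom (D.map f) := fun f => isAffineHom_of_isAffine _
  obtain ⟨i, X₁, u₁, g₁, hX⟩ := hasModel hc (u ≫ e.inv)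
  obtain ⟨j, Y₁, v₁, h₁, hY⟩ := hasModel hc (v ≫ e.inv)
  obtain ⟨k, φ, ψ, -⟩ := IsCofilteredOrEmpty.cone_objs i j
  have mX := hX.pushed φ
  have mY := hY.pushed ψ
  haveI := mX.lfp; haveI := mY.lfp
  exact ⟨D.obj k, _, _, e.inv ≫ c.π.app k, pullback.snd u₁ (D.map φ), pullback.snd v₁ (D.map ψ),
    hX.push φ, hY.push ψ, hN k, hA k, inferInstance, mX.qc, inferInstance, mY.qc,
    mX.sq.of_iso (Iso.refl _) (Iso.refl _) e (Iso.refl _) (by simp) (by simp) (by simp) (by simp),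
    mY.sq.of_iso (Iso.refl _) (Iso.refl _) e (Iso.refl _) (by simp) (by simp) (by simp) (by simp)⟩

/-- A morphism of schemes of finite presentation over an affine scheme comes from a noetherian scheme. -/
theorem exists_model_mor {S X Y : Scheme.{u}} [IsAffine S] (f : X ⟶ Y) (g : Y ⟶ S)
    [LocallyOfFinitePresentation g] [QuasiCompact g] [QuasiSeparated g]
    [LocallyOfFinitePresentation (f ≫ g)] [QuasiCompact (f ≫ g)] [QuasiSeparated (f ≫ g)] :
    ∃ (S₀ X₀ Y₀ : Scheme.{u}) (π : S ⟶ S₀) (f₀ : X₀ ⟶ Y₀) (g₀ : Y₀ ⟶ S₀) (qX : X ⟶ X₀) (qY : Y ⟶ Y₀),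
      IsNoetherian S₀ ∧ IsAffine S₀ ∧ LocallyOfFiniteType g₀ ∧ QuasiCompact g₀ ∧
      LocallyOfFiniteType (f₀ ≫ g₀) ∧ QuasiCompact (f₀ ≫ g₀) ∧
      IsPullback qY g g₀ π ∧ IsPullback qX f f₀ qY := by
  obtain ⟨I, _, _, D, c, hc, e, hA, hN⟩ := exists_noetherian_limit S
  haveI := hA
  haveI : ∀ {i j : I} (f : i ⟶ j), IsAffineHom (D.map f) := fun f => isAffineHom_of_isAffine _
  haveI : ∀ (i j : I) (f : i ⟶ j), IsAffineHom (D.map f) := fun i j f => isAffineHom_of_isAffine _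
  obtain ⟨i, X₁, u₁, g₁, hX₀⟩ := hasModel hc ((f ≫ g) ≫ e.inv)
  obtain ⟨j, Y₁, v₁, h₁, hY₀⟩ := hasModel hc (g ≫ e.inv)
  obtain ⟨k, φ, ψ, -⟩ := IsCofilteredOrEmpty.cone_objs i j
  have hX := hX₀.pushed φ
  have hY := hY₀.pushed ψ
  haveI := hX.lfp; haveI := hY.lfp
  haveI := hX.compactSpace; haveI := hY.compactSpace
  haveI := hX.quasiSeparatedSpace; haveI := hY.quasiSeparatedSpace
  obtain ⟨l, χ, fl, sX, sY, hfl, hA1, hA2, hB1, hB2, hs⟩ :=
    Groth.Agent.S9218.result D c hc k _ _ _ _ hX.sq _ _ hY.sq f (Category.assoc _ _ _).symm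
  have mX := hX.pushed χ
  have mY := hY.pushed χ
  have eX : sX = hX.push χ := pullback.hom_ext (hA1.trans (hX.push_fst χ).symm) (hA2.trans (hX.push_snd χ).symm)
  have eY : sY = hY.push χ := pullback.hom_ext (hB1.trans (hY.push_fst χ).symm) (hB2.trans (hY.push_snd χ).symm)
  subst eX eY
  haveI := mX.lfp; haveI := mY.lfp
  have sqf : IsPullback (hX.push χ) f fl (hY.push χ) := by
    refine IsPullback.of_bot ?_ hs mY.sq
    rw [hfl, ← Category.assoc]
    exact mX.sq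
  refine ⟨D.obj l, _, _, e.inv ≫ c.π.app l, fl, _, hX.push χ, hY.push χ, hN l, hA l, inferInstance, mY.qc,
    ?_, ?_, mY.sq.of_iso (Iso.refl _) (Iso.refl _) e (Iso.refl _) (by simp) (by simp) (by simp) (by simp), sqf⟩
  · rw [hfl]; infer_instance
  · rw [hfl]; exact mX.qc

/-! ### Loci -/

section

variable {S X Y : Scheme.{u}}

/-- A morphism of schemes of finite presentation, restricted to an affine open of the base. -/
theorem exists_affine_restrict_mor {P : ∀ ⦃X Y T : Scheme.{u}⦄, (X ⟶ Y) → (Y ⟶ T) → Prop}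
    (hP : ConsProp.IsFieldStableMor P) (f : X ⟶ Y) (g : Y ⟶ S)
    [LocallyOfFinitePresentation g] [QuasiCompact g] [QuasiSeparated g]
    [LocallyOfFinitePresentation (f ≫ g)] [QuasiCompact (f ≫ g)] [QuasiSeparated (f ≫ g)]
    {V : S.Opens} (hV : IsAffineOpen V) :
    ∃ (S₀ X₀ Y₀ : Scheme.{u}) (π : (V : Scheme.{u}) ⟶ S₀) (f₀ : X₀ ⟶ Y₀) (g₀ : Y₀ ⟶ S₀),
      IsNoetherian S₀ ∧ IsAffineHom π ∧ LocallyOfFiniteType g₀ ∧ QuasiCompact g₀ ∧
      LocallyOfFiniteType (f₀ ≫ g₀) ∧ QuasiCompact (f₀ ≫ g₀) ∧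
      (V.ι ⁻¹' ConsProp.locusMor P f g : Set (V : Scheme.{u})) = π ⁻¹' ConsProp.locusMor P f₀ g₀ := by
  haveI : IsAffine (V : Scheme.{u}) := hV
  obtain ⟨fV, sq, hc⟩ := exists_hom_baseChange f g V.ι
  haveI : LocallyOfFinitePresentation (fV ≫ pullback.snd g V.ι) := by rw [hc]; infer_instance
  haveI : QuasiCompact (fV ≫ pullback.snd g V.ι) := by rw [hc]; infer_instance
  haveI : QuasiSeparated (fV ≫ pullback.snd g V.ι) := by rw [hc]; infer_instance
  obtain ⟨S₀, X₀, Y₀, π, f₀, g₀, qX, qY, h1, h2, h3, h4, h5, h6, sqY, sqX⟩ :=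
    exists_model_mor fV (pullback.snd g V.ι)
  refine ⟨S₀, X₀, Y₀, π, f₀, g₀, h1, isAffineHom_of_isAffine _, h3, h4, h5, h6, ?_⟩
  rw [← locusMor_preimage hP (IsPullback.of_hasPullback g V.ι) sq, ← locusMor_preimage hP sqY sqX]

/-- A pair of schemes of finite presentation, restricted to an affine open of the base. -/
theorem exists_affine_restrict_pair {P : ∀ ⦃X Y T : Scheme.{u}⦄, (X ⟶ T) → (Y ⟶ T) → Prop}
    (hP : ConsPropPair.IsFieldStablePair P) (u : X ⟶ S) (v : Y ⟶ S)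
    [LocallyOfFinitePresentation u] [QuasiCompact u] [QuasiSeparated u]
    [LocallyOfFinitePresentation v] [QuasiCompact v] [QuasiSeparated v]
    {V : S.Opens} (hV : IsAffineOpen V) :
    ∃ (S₀ X₀ Y₀ : Scheme.{u}) (π : (V : Scheme.{u}) ⟶ S₀) (u₀ : X₀ ⟶ S₀) (v₀ : Y₀ ⟶ S₀),
      IsNoetherian S₀ ∧ IsAffineHom π ∧ LocallyOfFiniteType u₀ ∧ QuasiCompact u₀ ∧
      LocallyOfFiniteType v₀ ∧ QuasiCompact v₀ ∧
      (V.ι ⁻¹' ConsPropPair.locusPair P u v : Set (V : Scheme.{u})) = π ⁻¹' ConsPropPair.locusPair P u₀ v₀ := by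
  haveI : IsAffine (V : Scheme.{u}) := hV
  obtain ⟨S₀, X₀, Y₀, π, u₀, v₀, qX, qY, h1, h2, h3, h4, h5, h6, sqX, sqY⟩ :=
    exists_model_pair (pullback.snd u V.ι) (pullback.snd v V.ι)
  refine ⟨S₀, X₀, Y₀, π, u₀, v₀, h1, isAffineHom_of_isAffine _, h3, h4, h5, h6, ?_⟩
  rw [← locusPair_preimage hP (IsPullback.of_hasPullback u V.ι) (IsPullback.of_hasPullback v V.ι),
    ← locusPair_preimage hP sqX sqY]

theorem isLocallyConstructible_locusMor {P : ∀ ⦃X Y T : Scheme.{u}⦄, (X ⟶ Y) → (Y ⟶ T) → Prop}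
    (hP : ConsProp.IsConsMor P) (f : X ⟶ Y) (g : Y ⟶ S)
    [LocallyOfFinitePresentation g] [QuasiCompact g] [QuasiSeparated g]
    [LocallyOfFinitePresentation (f ≫ g)] [QuasiCompact (f ≫ g)] [QuasiSeparated (f ≫ g)] :
    IsLocallyConstructible (ConsProp.locusMor P f g) :=
  lc_of_affine fun V hV => by
    haveI : IsAffine (V : Scheme.{u}) := hV
    obtain ⟨S₀, X₀, Y₀, π, f₀, g₀, _, _, _, _, _, _, e⟩ := exists_affine_restrict_mor hP.1 f g hV
    rw [e]
    exact MorLib.LimCons.isConstructible_preimage π (isConstructible_locusMor hP f₀ g₀)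

theorem isIndConstructible_locusMor' {P : ∀ ⦃X Y T : Scheme.{u}⦄, (X ⟶ Y) → (Y ⟶ T) → Prop}
    (hP : ConsProp.IsIndConsMor P) (f : X ⟶ Y) (g : Y ⟶ S)
    [LocallyOfFinitePresentation g] [QuasiCompact g] [QuasiSeparated g]
    [LocallyOfFinitePresentation (f ≫ g)] [QuasiCompact (f ≫ g)] [QuasiSeparated (f ≫ g)] :
    ProCons.IsIndConstructible (ConsProp.locusMor P f g) :=
  ind_of_affine fun V hV => by
    obtain ⟨S₀, X₀, Y₀, π, f₀, g₀, _, _, _, _, _, _, e⟩ := exists_affine_restrict_mor hP.1 f g hV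
    rw [e]
    exact MorLib.LimPro.isIndConstructible_preimage (isIndConstructible_locusMor hP f₀ g₀) π

theorem isLocallyConstructible_locusPair {P : ∀ ⦃X Y T : Scheme.{u}⦄, (X ⟶ T) → (Y ⟶ T) → Prop}
    (hP : ConsPropPair.IsConsPair P) (u : X ⟶ S) (v : Y ⟶ S)
    [LocallyOfFinitePresentation u] [QuasiCompact u] [QuasiSeparated u]
    [LocallyOfFinitePresentation v] [QuasiCompact v] [QuasiSeparated v] :
    IsLocallyConstructible (ConsPropPair.locusPair P u v) :=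
  lc_of_affine fun V hV => by
    haveI : IsAffine (V : Scheme.{u}) := hV
    obtain ⟨S₀, X₀, Y₀, π, u₀, v₀, _, _, _, _, _, _, e⟩ := exists_affine_restrict_pair hP.1 u v hV
    rw [e]
    exact MorLib.LimCons.isConstructible_preimage π (isConstructible_locusPair hP u₀ v₀)

theorem isIndConstructible_locusPair' {P : ∀ ⦃X Y T : Scheme.{u}⦄, (X ⟶ T) → (Y ⟶ T) → Prop}
    (hP : ConsPropPair.IsIndConsPair P) (u : X ⟶ S) (v : Y ⟶ S)
    [LocallyOfFinitePresentation u] [QuasiCompact u] [QuasiSeparated u]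
    [LocallyOfFinitePresentation v] [QuasiCompact v] [QuasiSeparated v] :
    ProCons.IsIndConstructible (ConsPropPair.locusPair P u v) :=
  ind_of_affine fun V hV => by
    obtain ⟨S₀, X₀, Y₀, π, u₀, v₀, _, _, _, _, _, _, e⟩ := exists_affine_restrict_pair hP.1 u v hV
    rw [e]
    exact MorLib.LimPro.isIndConstructible_preimage (isIndConstructible_locusPair hP u₀ v₀) π

end

end Groth.Agent.ConsPropLib
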