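import Groth.Agent.ConsPropLib.GenProjective
import Groth.Agent.ConsPropLib.Loci
import Groth.Agent.ConsPropLib.PointwiseProps
import Groth.Agent.QCoh.LocFree
import Groth.Agent.QCoh.Pullback

/-!
# The locus of locally free fibres (EGA IV 9.4.7)
-/

set_option autoImplicit false
set_option linter.style.haveILetI false

open CategoryTheory CategoryTheory.Limits AlgebraicGeometry TopologicalSpace Topology Groth.Agent.QCoh

namespace Groth.Agent.ConsPropLib

universe u

variable {X S : Scheme.{u}}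

theorem isFinLocFree_iso {M N : X.Modules} (e : M ≅ N) : FlatMod.IsFinLocFree M ↔ FlatMod.IsFinLocFree N :=
  ⟨fun h x => let ⟨U, n, hx, ⟨i⟩⟩ := h x
    ⟨U, n, hx, ⟨((Scheme.Modules.restrictFunctor U.ι).mapIso e).symm ≪≫ i⟩⟩,
  fun h x => let ⟨U, n, hx, ⟨i⟩⟩ := h x
    ⟨U, n, hx, ⟨(Scheme.Modules.restrictFunctor U.ι).mapIso e ≪≫ i⟩⟩⟩

theorem isFinLocFree_restrict {Z : Scheme.{u}} (j : Z ⟶ X) [IsOpenImmersion j] {M : X.Modules}
    (h : FlatMod.IsFinLocFree M) : FlatMod.IsFinLocFree (M.restrict j) := fun z => by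
  obtain ⟨U, n, hx, ⟨i⟩⟩ := h (j z)
  refine ⟨j ⁻¹ᵁ U, n, hx, ⟨restrictRestrict M _ j ≪≫
    (Scheme.Modules.restrictFunctorCongr (morphismRestrict_ι j U).symm).app M ≪≫
    (restrictRestrict M _ U.ι).symm ≪≫ (Scheme.Modules.restrictFunctor _).mapIso i ≪≫ freeModRestrict _ n⟩⟩

theorem isFinLocFree_of_cover {J : Type*} {Z : J → Scheme.{u}} (j : ∀ i, Z i ⟶ X) [∀ i, IsOpenImmersion (j i)]
    (hc : ∀ x, ∃ i, x ∈ Set.range (j i)) {M : X.Modules} (h : ∀ i, FlatMod.IsFinLocFree (M.restrict (j i))) :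
    FlatMod.IsFinLocFree M := fun x => by
  obtain ⟨i, z, rfl⟩ := hc x
  obtain ⟨U, n, hz, ⟨e⟩⟩ := h i z
  let q : ((j i ''ᵁ U : X.Opens) : Scheme.{u}) ⟶ U := ((j i).isoImage U).inv
  have hq : q ≫ U.ι ≫ j i = (j i ''ᵁ U).ι := by simp [q]
  exact ⟨j i ''ᵁ U, n, ⟨z, hz, rfl⟩,
    ⟨(Scheme.Modules.restrictFunctorCongr hq.symm).app M ≪≫ (restrictRestrict M q (U.ι ≫ j i)).symm ≪≫
      (Scheme.Modules.restrictFunctor q).mapIso ((restrictRestrict M U.ι (j i)).symm ≪≫ e) ≪≫ freeModRestrict _ n⟩⟩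

set_option backward.isDefEq.respectTransparency.types false in
set_option backward.isDefEq.respectTransparency false in
open TensorProduct in
/-- An affine chart of a fibre. -/
theorem exists_fibre_chart (f : X ⟶ S) {U : S.Opens} (hU : IsAffineOpen U) {V : X.Opens} (hV : IsAffineOpen V)
    (hle : V ≤ f ⁻¹ᵁ U) (p : Spec Γ(S, U)) :
    ∃ φ : Γ(S, U) ⟶ S.residueField (hU.fromSpec p), RingHom.ker φ.hom = p.asIdeal ∧
      (letI := φ.hom.toAlgebra; letI := (f.appLE U V hle).hom.toAlgebra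
       ∃ j : Spec (CommRingCat.of (S.residueField (hU.fromSpec p) ⊗[Γ(S, U)] Γ(X, V))) ⟶ f.fiber (hU.fromSpec p),
        IsOpenImmersion j ∧ Set.range j = f.fiberι (hU.fromSpec p) ⁻¹' V ∧
        Spec.map (CommRingCat.ofHom (Algebra.TensorProduct.includeRight
          (R := Γ(S, U)) (A := S.residueField (hU.fromSpec p)) (B := Γ(X, V))).toRingHom) ≫ hV.fromSpec =
            j ≫ f.fiberι (hU.fromSpec p)) := by
  let s := hU.fromSpec p
  have hrange : Set.range (S.fromSpecResidueField s) ⊆ Set.range hU.fromSpec := by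
    rw [Scheme.range_fromSpecResidueField]
    rintro _ rfl
    exact ⟨p, rfl⟩
  let ψ := IsOpenImmersion.lift hU.fromSpec (S.fromSpecResidueField s) hrange
  let φ := Spec.preimage ψ
  have hφ : Spec.map φ ≫ hU.fromSpec = S.fromSpecResidueField s := by
    rw [Spec.map_preimage, IsOpenImmersion.lift_fac]
  refine ⟨φ, ?_, ?_⟩
  · obtain ⟨x⟩ : Nonempty (Spec (S.residueField s)) := inferInstance
    have hx : Spec.map φ x = p := hU.fromSpec.isOpenEmbedding.injective (by
      rw [← Scheme.Hom.comp_apply, hφ, Scheme.fromSpecResidueField_apply])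
    refine Eq.trans ?_ (congrArg PrimeSpectrum.asIdeal hx)
    ext r
    show φ.hom r = 0 ↔ φ.hom r ∈ x.asIdeal
    rw [show x.asIdeal = ⊥ from (Ideal.eq_bot_or_top x.asIdeal).resolve_right x.2.ne_top, Ideal.mem_bot]
  letI := φ.hom.toAlgebra
  letI := (f.appLE U V hle).hom.toAlgebra
  let k := S.residueField s
  let i := CommRingCat.ofHom (Algebra.TensorProduct.includeRight (R := Γ(S, U)) (A := k) (B := Γ(X, V))).toRingHom
  let l := CommRingCat.ofHom (Algebra.TensorProduct.includeLeftRingHom (R := Γ(S, U)) (A := k) (B := Γ(X, V)))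
  have sq : IsPullback (Spec.map i) (Spec.map l) (Spec.map (f.appLE U V hle)) (Spec.map φ) :=
    (isPullback_SpecMap_of_isPushout _ _ _ _ (CommRingCat.isPushout_tensorProduct Γ(S, U) k Γ(X, V))).flip
  have hvf : Spec.map (f.appLE U V hle) ≫ hU.fromSpec = hV.fromSpec ≫ f :=
    IsAffineOpen.SpecMap_appLE_fromSpec f hU hV hle
  have hm : IsPullback (Spec.map φ) (𝟙 _) hU.fromSpec (Spec.map φ ≫ hU.fromSpec) := by
    have h1 : IsPullback (Spec.map φ) (𝟙 _) (𝟙 (Spec Γ(S, U))) (Spec.map φ) := IsPullback.of_vert_isIso ⟨by simp⟩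
    simpa using h1.paste_horiz (IsKernelPair.id_of_mono hU.fromSpec)
  have outer : IsPullback (Spec.map i) (Spec.map l) (hV.fromSpec ≫ f) (S.fromSpecResidueField s) := by
    have h2 := sq.paste_vert hm
    erw [Category.comp_id, hvf, hφ] at h2
    exact h2
  have h3 : IsPullback (f.fiberι s) (f.fiberToSpecResidueField s) f (S.fromSpecResidueField s) :=
    IsPullback.of_hasPullback _ _
  let j := h3.lift (Spec.map i ≫ hV.fromSpec) (Spec.map l) ((Category.assoc _ _ _).trans outer.w)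
  have hj : Spec.map i ≫ hV.fromSpec = j ≫ f.fiberι s := (h3.lift_fst _ _ _).symm
  have sqj : IsPullback (Spec.map i) j hV.fromSpec (f.fiberι s) := by
    refine IsPullback.of_bot ?_ hj h3
    rw [h3.lift_snd]
    exact outer
  refine ⟨j, MorphismProperty.of_isPullback sqj inferInstance, ?_, hj⟩
  rw [range_f' sqj]
  exact congrArg _ hV.range_fromSpec

set_option backward.isDefEq.respectTransparency.types false in
set_option backward.isDefEq.respectTransparency false in
open TensorProduct in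
/-- The affine piece: over an affine open of the base and one of the source. -/
theorem exists_constructible_chart (f : X ⟶ S) [LocallyOfFinitePresentation f] (F : X.Modules) [Coh.IsQCoh F]
    (hF : CohB1.IsFP F) {U : S.Opens} (hU : IsAffineOpen U) {V : X.Opens} (hV : IsAffineOpen V)
    (hle : V ≤ f ⁻¹ᵁ U) :
    ∃ E : Set (Spec Γ(S, U)), IsConstructible E ∧ ∀ p, ∃ (Z : Scheme.{u}) (j : Z ⟶ f.fiber (hU.fromSpec p))
      (_ : IsOpenImmersion j), Set.range j = f.fiberι (hU.fromSpec p) ⁻¹' V ∧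
        (FlatMod.IsFinLocFree (((Scheme.Modules.pullback (f.fiberι (hU.fromSpec p))).obj F).restrict j) ↔ p ∈ E) := by
  letI := (f.appLE U V hle).hom.toAlgebra
  haveI : Algebra.FinitePresentation Γ(S, U) Γ(X, V) :=
    LocallyOfFinitePresentation.finitePresentation_appLE f hU hV hle
  let N := F.restrict hV.fromSpec
  have hN : Coh.IsQCoh N := isQCoh_restrict _ ‹_›
  let M := moduleSpecΓFunctor.obj N
  haveI := finitePresentation_of_isFP hF hV
  haveI : Module.FinitePresentation Γ(X, V) M := Module.FinitePresentation.of_equiv (chartEquiv hV F)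
  have := (isQuasicoherent_iff_isIso_fromTildeΓ N).1 hN
  let eN : tilde M ≅ N := @asIso _ _ _ _ N.fromTildeΓ this
  obtain ⟨E, hE, hkey⟩ := exists_constructible_projective (R := Γ(S, U)) (B := Γ(X, V)) M
  refine ⟨E, hE, fun p => ?_⟩
  obtain ⟨φ, hker, hchart⟩ := exists_fibre_chart f hU hV hle p
  letI := φ.hom.toAlgebra
  obtain ⟨j, hj, hrange, hsq⟩ := hchart
  let k := S.residueField (hU.fromSpec p)
  let i : Γ(X, V) ⟶ CommRingCat.of (k ⊗[Γ(S, U)] Γ(X, V)) := CommRingCat.ofHom (Algebra.TensorProduct.includeRight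
    (R := Γ(S, U)) (A := k) (B := Γ(X, V))).toRingHom
  let N' : ModuleCat (CommRingCat.of (k ⊗[Γ(S, U)] Γ(X, V))) :=
    (ModuleCat.extendScalars.{_, _, u} i.hom).obj M
  refine ⟨_, j, hj, hrange, ?_⟩
  have e : ((Scheme.Modules.pullback (f.fiberι (hU.fromSpec p))).obj F).restrict j ≅ tilde N' :=
    pullbackChartIso i (f.fiberι (hU.fromSpec p)) hsq F ≪≫
      (Scheme.Modules.pullback (Spec.map i)).mapIso eN.symm ≪≫ (tildePullbackIso i).app M
  rw [isFinLocFree_iso e, isFinLocFree_tilde_iff, ← hkey k p hker.symm]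
  letI : Algebra Γ(X, V) (k ⊗[Γ(S, U)] Γ(X, V)) := Algebra.TensorProduct.rightAlgebra
  have hfin : Module.Finite (k ⊗[Γ(S, U)] Γ(X, V)) ((k ⊗[Γ(S, U)] Γ(X, V)) ⊗[Γ(X, V)] M) := inferInstance
  exact ⟨fun h => h.2, fun h => ⟨hfin, h⟩⟩

/-- EGA IV 9.4.7: the locus of locally free fibres. -/
theorem isLocallyConstructible_finLocFreeLocus (f : X ⟶ S) [LocallyOfFinitePresentation f] [QuasiCompact f]
    (F : X.Modules) [Coh.IsQCoh F] (hF : CohB1.IsFP F) :
    IsLocallyConstructible {s : S | FlatMod.IsFinLocFree ((Scheme.Modules.pullback (f.fiberι s)).obj F)} :=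
  lc_of_affine fun U hU => by
    let L : Set S := {s : S | FlatMod.IsFinLocFree ((Scheme.Modules.pullback (f.fiberι s)).obj F)}
    obtain ⟨c, hcfin, hc⟩ := isCompact_and_isOpen_iff_finite_and_eq_biUnion_affineOpens.1
      ⟨f.isCompact_preimage hU.isCompact, (f ⁻¹ᵁ U).2⟩
    haveI := hcfin.to_subtype
    have hle : ∀ k : c, k.1.1 ≤ f ⁻¹ᵁ U := fun k y hy => hc.ge (Set.mem_iUnion₂.2 ⟨k.1, k.2, hy⟩)
    choose E hE hEk using fun k : c => exists_constructible_chart f F hF hU k.1.2 (hle k)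
    have hL : hU.fromSpec ⁻¹' L = ⋂ k, E k := by
      ext p
      rw [Set.mem_iInter]
      choose Z j hj hr hiff using fun k => hEk k p
      refine ⟨fun h k => (hiff k).1 (haveI := hj k; isFinLocFree_restrict (j k) h), fun h => ?_⟩
      haveI := hj
      refine isFinLocFree_of_cover j (fun w => ?_) fun k => (hiff k).2 (h k)
      have hw : f (f.fiberι (hU.fromSpec p) w) = hU.fromSpec p := (f.range_fiberι _).le ⟨w, rfl⟩
      obtain ⟨a, ha, hwa⟩ := Set.mem_iUnion₂.1 (hc.le (show f (f.fiberι (hU.fromSpec p) w) ∈ U by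
        rw [hw, ← SetLike.mem_coe, ← hU.range_fromSpec]; exact ⟨p, rfl⟩))
      exact ⟨⟨a, ha⟩, (hr ⟨a, ha⟩).ge hwa⟩
    have h1 : IsConstructible (hU.fromSpec ⁻¹' L) := hL ▸ IsConstructible.iInter hE
    haveI : IsAffineHom hU.isoSpec.hom := inferInstance
    haveI : IsAffine (U : Scheme.{u}) := hU
    have h2 : IsConstructible (hU.isoSpec.hom ⁻¹' (hU.fromSpec ⁻¹' L)) :=
      MorLib.LimCons.isConstructible_preimage hU.isoSpec.hom h1
    rwa [← Set.preimage_comp, ← TopCat.coe_comp, ← Scheme.Hom.comp_base, hU.isoSpec_hom_fromSpec] at h2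

end Groth.Agent.ConsPropLib
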