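import Groth.Agent.ConsPropLib.Fibre
import Groth.Agent.H23.RedSub
import Groth.Agent.DimFormula.ClosedSub
import Groth.Agent.S2396
import Groth.Prelude.Def_ProCons

/-!
# Constructibility of loci over Noetherian bases (EGA IV 9.2.3)
-/

set_option autoImplicit false
set_option linter.style.haveILetI false

open CategoryTheory CategoryTheory.Limits AlgebraicGeometry Topology

namespace Groth.Agent.ConsPropLib

universe u

variable {S : Scheme.{u}}

/-- The reduced closed subscheme on the closure of a point is integral. -/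
theorem exists_integral_closure (s : S) : ∃ (T : Scheme.{u}) (j : T ⟶ S) (_ : IsClosedImmersion j)
    (_ : IsIntegral T), Set.range j = closure {s} ∧ j (genericPoint T) = s := by
  let Z : TopologicalSpace.Closeds S := ⟨closure {s}, isClosed_closure⟩
  let j := (Scheme.IdealSheafData.vanishingIdeal Z).subschemeι
  have hr : Set.range j = closure {s} := DimFormula.range_vanishingIdeal Z
  haveI : IsReduced (Scheme.IdealSheafData.vanishingIdeal Z).subscheme := H23.RedSub.isReduced_vanishingIdeal Z
  haveI : IrreducibleSpace ↥(Scheme.IdealSheafData.vanishingIdeal Z).subscheme := by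
    haveI : IrreducibleSpace ↥(Set.range j) := by
      rw [hr]; exact Subtype.irreducibleSpace isIrreducible_singleton.closure
    exact j.isClosedEmbedding.isEmbedding.toHomeomorph.symm.surjective.irreducibleSpace
      j.isClosedEmbedding.isEmbedding.toHomeomorph.symm.continuous
  haveI : IsIntegral (Scheme.IdealSheafData.vanishingIdeal Z).subscheme :=
    isIntegral_of_irreducibleSpace_of_isReduced _
  refine ⟨_, j, inferInstance, inferInstance, hr, ?_⟩
  refine (((genericPoint_spec _).image j.continuous).eq ?_)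
  rw [Set.image_univ, hr, closure_closure]
  exact isGenericPoint_closure

theorem exists_nhd_generic [IrreducibleSpace S] {A : Set S} (hA : IsOpen A) (h : A.Nonempty) : genericPoint S ∈ A :=
  ((genericPoint_spec S).mem_open_set_iff hA).2 (by simpa using h)

theorem isConstructible_of_dichotomy [IsNoetherian S] (E : Set S)
    (h : ∀ ⦃T : Scheme.{u}⦄ (j : T ⟶ S) [IsClosedImmersion j] [IsIntegral T] [IsNoetherian T],
      (interior (j ⁻¹' E)).Nonempty ∨ (interior (j ⁻¹' E)ᶜ).Nonempty) :
    IsConstructible E := by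
  refine (S2396.result E).2 fun Y hY hirr => ?_
  obtain ⟨T, j, _, _, hr, -⟩ := exists_integral_closure (hirr.genericPoint)
  rw [hirr.isGenericPoint_genericPoint_closure.def, hY.closure_eq] at hr
  haveI : IsLocallyNoetherian T := LocallyOfFiniteType.isLocallyNoetherian j
  haveI : CompactSpace T := QuasiCompact.compactSpace_of_compactSpace j
  haveI : IsNoetherian T := {}
  have hout : ∀ W : Set T, IsOpen W → ∃ U : Set S, IsOpen U ∧ U ∩ Y = j '' W := fun W hW => by
    obtain ⟨U, hU, rfl⟩ := (j.isClosedEmbedding.isInducing.isOpen_iff).1 hW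
    exact ⟨U, hU, by rw [Set.image_preimage_eq_inter_range, hr]⟩
  rcases h j with hi | hi
  · right
    obtain ⟨U, hU, hUY⟩ := hout _ (isOpen_interior (s := j ⁻¹' E))
    exact ⟨U, hU, by rw [hUY]; exact hi.image _, by rw [hUY]; exact Set.image_subset_iff.2 interior_subset⟩
  · left
    obtain ⟨U, hU, hUY⟩ := hout _ (isOpen_interior (s := (j ⁻¹' E)ᶜ))
    obtain ⟨t, ht⟩ := hi
    haveI : IrreducibleSpace Y := Subtype.irreducibleSpace hirr
    have hsub : closure (Subtype.val ⁻¹' E : Set Y) ⊆ (Subtype.val ⁻¹' U)ᶜ :=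
      closure_minimal (fun y hyE hyU => by
        obtain ⟨w, hw, hwy⟩ : (y : S) ∈ j '' interior (j ⁻¹' E)ᶜ := hUY ▸ ⟨hyU, y.2⟩
        exact interior_subset hw (show j w ∈ E from hwy.symm ▸ hyE))
        (hU.preimage continuous_subtype_val).isClosed_compl
    by_contra hne
    have hdense : Dense (interior (closure (Subtype.val ⁻¹' E : Set Y))) :=
      isOpen_interior.dense (Set.nonempty_iff_ne_empty.2 hne)
    obtain ⟨hjU, hjY⟩ : j t ∈ U ∩ Y := hUY ▸ ⟨t, ht, rfl⟩
    exact hsub (closure_minimal interior_subset isClosed_closure (hdense ⟨j t, hjY⟩)) hjU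

/-- The piece through a point of a set containing an open part of each closed integral subscheme at whose generic point it holds. -/
theorem exists_open_inter_closure [IsNoetherian S] (E : Set S)
    (h : ∀ ⦃T : Scheme.{u}⦄ (j : T ⟶ S) [IsClosedImmersion j] [IsIntegral T] [IsNoetherian T],
      j (genericPoint T) ∈ E → (interior (j ⁻¹' E)).Nonempty) {s : S} (hs : s ∈ E) :
    ∃ U : Set S, IsOpen U ∧ s ∈ U ∧ U ∩ closure {s} ⊆ E := by
  obtain ⟨T, j, _, _, hr, hg⟩ := exists_integral_closure s
  haveI : IsLocallyNoetherian T := LocallyOfFiniteType.isLocallyNoetherian j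
  haveI : CompactSpace T := QuasiCompact.compactSpace_of_compactSpace j
  haveI : IsNoetherian T := {}
  have hi := h j (by rw [hg]; exact hs)
  obtain ⟨U, hU, hUW⟩ := j.isClosedEmbedding.isInducing.isOpen_iff.1 (isOpen_interior (s := j ⁻¹' E))
  refine ⟨U, hU, ?_, ?_⟩
  · have := exists_nhd_generic isOpen_interior hi
    rw [← hUW] at this
    exact hg ▸ this
  · rintro z ⟨hzU, hzs⟩
    rw [← hr] at hzs
    obtain ⟨w, rfl⟩ := hzs
    have hw : w ∈ interior (j ⁻¹' E) := hUW ▸ hzU
    exact (interior_subset hw : w ∈ j ⁻¹' E)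

theorem isIndConstructible_of_generic [IsNoetherian S] (E : Set S)
    (h : ∀ ⦃T : Scheme.{u}⦄ (j : T ⟶ S) [IsClosedImmersion j] [IsIntegral T] [IsNoetherian T],
      j (genericPoint T) ∈ E → (interior (j ⁻¹' E)).Nonempty) :
    ProCons.IsIndConstructible E := by
  refine fun x => ⟨Set.univ, isOpen_univ, trivial,
    {T | IsLocallyConstructible T ∧ T ⊆ Subtype.val ⁻¹' E}, fun T hT => hT.1, ?_⟩
  refine Set.Subset.antisymm (fun z hz => ?_) (Set.sUnion_subset fun T hT => hT.2)
  obtain ⟨U, hU, hzU, hsub⟩ := exists_open_inter_closure E h hz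
  refine ⟨Subtype.val ⁻¹' (U ∩ closure {(z : S)}), ⟨?_, fun w hw => hsub hw⟩,
    hzU, subset_closure rfl⟩
  have hC : IsConstructible (U ∩ closure {(z : S)}) :=
    (SpecLib.isConstructible_of_isOpen hU).inter (SpecLib.isConstructible_of_isClosed isClosed_closure)
  exact (hC.preimage_of_isOpenEmbedding isOpen_univ.isOpenEmbedding_subtypeVal).isLocallyConstructible

/-- If a set contains an open part of the closure of each of its points, it contains, over a
neighbourhood of `η`, all of any closed set whose points over `η` it contains. -/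
theorem exists_nhd_fibre_subset {Y S : Scheme.{u}} [IsIntegral S] [TopologicalSpace.NoetherianSpace ↥Y]
    (g : Y ⟶ S) (E : Set Y)
    (hE : ∀ z ∈ E, ∃ U : Set Y, IsOpen U ∧ z ∈ U ∧ U ∩ closure {z} ⊆ E) {C : Set Y} (hC : IsClosed C)
    (h : C ∩ g ⁻¹' {genericPoint S} ⊆ E) :
    ∃ W : Set S, IsOpen W ∧ genericPoint S ∈ W ∧ C ∩ g ⁻¹' W ⊆ E := by
  revert h
  refine SpecLib.irred_induction
    (P := fun C => C ∩ g ⁻¹' {genericPoint S} ⊆ E → ∃ W : Set S, IsOpen W ∧ genericPoint S ∈ W ∧ C ∩ g ⁻¹' W ⊆ E)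
    ?_ ?_ ?_ hC
  · exact fun _ => ⟨Set.univ, isOpen_univ, trivial, by simp⟩
  · intro A B _ _ a b h
    rw [Set.union_inter_distrib_right, Set.union_subset_iff] at h
    obtain ⟨W, hW, hηW, hA⟩ := a h.1
    obtain ⟨W', hW', hηW', hB⟩ := b h.2
    exact ⟨W ∩ W', hW.inter hW', ⟨hηW, hηW'⟩, fun z hz => hz.1.elim (fun h1 => hA ⟨h1, hz.2.1⟩) fun h1 => hB ⟨h1, hz.2.2⟩⟩
  · intro C hC hirr ih h
    have hz : IsGenericPoint hirr.genericPoint C := by
      simpa [hC.closure_eq] using hirr.isGenericPoint_genericPoint_closure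
    by_cases hg : g hirr.genericPoint = genericPoint S
    · obtain ⟨U, hU, hzU, hsub⟩ := hE _ (h ⟨hz.mem, hg⟩)
      rw [hz.def] at hsub
      obtain ⟨W, hW, hηW, hW'⟩ := ih (C \ U) (hC.sdiff hU)
        (Set.sdiff_subset.ssubset_of_ne fun e => (e.symm ▸ hz.mem : _ ∈ C \ U).2 hzU)
        ((Set.inter_subset_inter_left _ Set.sdiff_subset).trans h)
      exact ⟨W, hW, hηW, fun w hw => (Classical.em (w ∈ U)).elim (fun h1 => hsub ⟨h1, hw.1⟩) fun h1 => hW' ⟨⟨hw.1, h1⟩, hw.2⟩⟩
    · refine ⟨(closure {g hirr.genericPoint})ᶜ, isClosed_closure.isOpen_compl, fun hmem => ?_, fun w hw => (hw.2 ?_).elim⟩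
      · exact hg ((specializes_iff_mem_closure.2 hmem).antisymm ((genericPoint_spec S).specializes (Set.mem_univ _))).eq
      · exact specializes_iff_mem_closure.1 ((hz.specializes hw.1).map g.continuous)

end Groth.Agent.ConsPropLib
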