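import Mathlib

/-!
# A separated quasi-finite morphism over an affine base is open in a finite one (EGA IV 8.12.6)
-/

set_option autoImplicit false
set_option linter.style.haveILetI false

open CategoryTheory CategoryTheory.Limits AlgebraicGeometry TopologicalSpace

namespace Groth.Agent.ConsPropLib

universe u

/-- An open subscheme of finite type of an affine scheme integral over `Spec R` is open in a scheme finite over
`Spec R`. -/
theorem exists_finite_factor_spec {X : Scheme.{u}} {R A : CommRingCat.{u}} (φ : R ⟶ A) (hφ : φ.hom.IsIntegral)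
    (j : X ⟶ Spec A) [IsOpenImmersion j] [CompactSpace X] [LocallyOfFiniteType (j ≫ Spec.map φ)] :
    ∃ (T : Scheme.{u}) (i : X ⟶ T) (π : T ⟶ Spec R),
      IsOpenImmersion i ∧ IsFinite π ∧ i ≫ π = j ≫ Spec.map φ := by
  classical
  letI := φ.hom.toAlgebra
  haveI : Algebra.IsIntegral R A := ⟨hφ⟩
  obtain ⟨t, ht⟩ := PrimeSpectrum.isCompact_isOpen_iff.1
    ⟨isCompact_range j.continuous, j.isOpenEmbedding.isOpen_range⟩
  have hsub : ∀ g ∈ t, (PrimeSpectrum.basicOpen g : Set (PrimeSpectrum A)) ⊆ Set.range j := fun g hg x hx => by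
    rw [← ht]
    exact fun h => hx (PrimeSpectrum.mem_zeroLocus _ _ |>.1 h hg)
  have hft : ∀ g ∈ t, Algebra.FiniteType R (Localization.Away g) := fun g hg => by
    let m : Spec (CommRingCat.of (Localization.Away g)) ⟶ Spec A :=
      Spec.map (CommRingCat.ofHom (algebraMap A (Localization.Away g)))
    have hm : Set.range m ⊆ Set.range j :=
      (PrimeSpectrum.localization_away_comap_range (Localization.Away g) g).trans_subset (hsub g hg)
    have : LocallyOfFiniteType (IsOpenImmersion.lift j m hm ≫ j ≫ Spec.map φ) := inferInstance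
    rw [← Category.assoc, IsOpenImmersion.lift_fac, ← Spec.map_comp,
      HasRingHomProperty.Spec_iff (P := @LocallyOfFiniteType)] at this
    exact RingHom.finiteType_algebraMap.1 (by rw [IsScalarTower.algebraMap_eq R A]; exact this)
  let num : ∀ g : A, Localization.Away g → A := fun g x =>
    (IsLocalization.surj (Submonoid.powers g) x).choose.1
  let gens : ∀ g ∈ t, Finset (Localization.Away g) := fun g hg => (hft g hg).out.choose
  let s : Finset A := t ∪ t.attach.biUnion fun g => (gens g.1 g.2).image (num g.1)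
  let B := Algebra.adjoin R (s : Set A)
  haveI : Module.Finite R B :=
    Algebra.finite_adjoin_of_finite_of_isIntegral s.finite_toSet fun x _ => Algebra.IsIntegral.isIntegral x
  let ψ : R ⟶ CommRingCat.of B := CommRingCat.ofHom (algebraMap R B)
  let ι : CommRingCat.of B ⟶ A := CommRingCat.ofHom (B.val : B →ₐ[R] A).toRingHom
  have hψι : ψ ≫ ι = φ := CommRingCat.hom_ext (RingHom.ext fun _ => rfl)
  let q : Spec A ⟶ Spec (CommRingCat.of B) := Spec.map ι
  haveI : IsFinite (Spec.map ψ) := (IsFinite.SpecMap_iff ψ).2 (RingHom.finite_algebraMap.2 ‹_›)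
  have mem_t : ∀ g ∈ t, g ∈ B := fun g hg => Algebra.subset_adjoin (Finset.mem_union_left _ hg)
  have hiso : ∀ g : t, IsIso (q ∣_ PrimeSpectrum.basicOpen (⟨g.1, mem_t g.1 g.2⟩ : B)) := fun g => by
    obtain ⟨g, hg⟩ := g
    let gB : B := ⟨g, mem_t g hg⟩
    let L := Localization.Away g
    have key : ∀ x : L, ∃ (b : B) (n : ℕ), x * algebraMap A L g ^ n = algebraMap A L b := by
      intro x
      have hx : x ∈ Algebra.adjoin R (gens g hg : Set L) := by
        rw [(hft g hg).out.choose_spec]; trivial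
      induction hx using Algebra.adjoin_induction with
      | mem y hy =>
        have hnum : num g y ∈ B := Algebra.subset_adjoin (Finset.mem_union_right _ (Finset.mem_biUnion.2
          ⟨⟨g, hg⟩, Finset.mem_attach _ _, Finset.mem_image.2 ⟨y, hy, rfl⟩⟩))
        obtain ⟨n, hn⟩ := (IsLocalization.surj (Submonoid.powers g) y).choose.2.2
        refine ⟨⟨_, hnum⟩, n, ?_⟩
        have := (IsLocalization.surj (Submonoid.powers g) y).choose_spec
        rw [← hn, map_pow] at this
        exact this
      | algebraMap r => exact ⟨algebraMap R B r, 0, by rw [pow_zero, mul_one]; rfl⟩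
      | add x y _ _ hx hy =>
        obtain ⟨b, n, hb⟩ := hx; obtain ⟨c, m, hc⟩ := hy
        refine ⟨b * gB ^ m + c * gB ^ n, n + m, ?_⟩
        show _ = algebraMap A L ((b : A) * g ^ m + (c : A) * g ^ n)
        rw [map_add, map_mul, map_mul, map_pow, map_pow, ← hb, ← hc]
        ring
      | mul x y _ _ hx hy =>
        obtain ⟨b, n, hb⟩ := hx; obtain ⟨c, m, hc⟩ := hy
        exact ⟨b * c, n + m, by show _ = algebraMap A L ((b : A) * (c : A)); rw [map_mul, ← hb, ← hc]; ring⟩
    have hbij : Function.Bijective (Localization.awayMap ι.hom gB) := by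
      refine ⟨(injective_iff_map_eq_zero _).2 fun y hy => ?_, fun x => ?_⟩
      · obtain ⟨b, ⟨_, n, rfl⟩, rfl⟩ := IsLocalization.exists_mk'_eq (Submonoid.powers gB) y
        rw [Localization.awayMap, IsLocalization.Away.map, IsLocalization.map_mk',
          IsLocalization.mk'_eq_zero_iff] at hy
        obtain ⟨⟨_, k, rfl⟩, hk⟩ := hy
        exact (IsLocalization.mk'_eq_zero_iff _ _).2 ⟨⟨gB ^ k, k, rfl⟩, Subtype.ext hk⟩
      · obtain ⟨b, n, hb⟩ := key x
        refine ⟨IsLocalization.mk' (Localization.Away gB) b (⟨gB ^ n, n, rfl⟩ : Submonoid.powers gB), ?_⟩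
        rw [Localization.awayMap, IsLocalization.Away.map, IsLocalization.map_mk', IsLocalization.mk'_eq_iff_eq_mul]
        refine Eq.trans hb.symm ?_
        exact congrArg (fun z => (x : L) * z) (map_pow (algebraMap A L) g n).symm
    haveI : IsIso (CommRingCat.ofHom (Localization.awayMap ι.hom gB)) :=
      (ConcreteCategory.isIso_iff_bijective _).2 hbij
    exact ((MorphismProperty.isomorphisms Scheme.{u}).arrow_mk_iso_iff (SpecMapRestrictBasicOpenIso ι gB)).2
      (show IsIso _ from inferInstance)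
  let U : t → (Spec (CommRingCat.of B)).Opens := fun g => PrimeSpectrum.basicOpen (⟨g.1, mem_t g.1 g.2⟩ : B)
  let O : (Spec (CommRingCat.of B)).Opens := ⨆ g, U g
  haveI : IsIso (q ∣_ O) := by
    refine IsZariskiLocalAtTarget.of_iSup_eq_top (P := MorphismProperty.isomorphisms Scheme.{u})
      (fun g => O.ι ⁻¹ᵁ U g) ?_ fun g => ?_
    · refine top_le_iff.1 fun x _ => ?_
      obtain ⟨g, hg⟩ := Opens.mem_iSup.1 x.2
      exact Opens.mem_iSup.2 ⟨g, hg⟩
    · refine ((MorphismProperty.isomorphisms Scheme.{u}).arrow_mk_iso_iff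
        (morphismRestrictRestrict q O _ ≪≫ morphismRestrictEq q ?_)).2 (hiso g)
      rw [Scheme.Hom.image_preimage_eq_opensRange_inf, Scheme.Opens.opensRange_ι, inf_eq_right]
      exact le_iSup U g
  have hrange : Set.range j = (q ⁻¹ᵁ O : Set (Spec A)) := by
    refine ht.symm.trans ?_
    ext x
    constructor
    · intro hx
      obtain ⟨g, hg, hgx⟩ := Set.not_subset.1 (mt (PrimeSpectrum.mem_zeroLocus x _).2 hx)
      exact Opens.mem_iSup.2 ⟨⟨g, hg⟩, hgx⟩
    · intro hx h
      obtain ⟨g, hg⟩ := Opens.mem_iSup.1 hx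
      exact hg ((PrimeSpectrum.mem_zeroLocus x _).1 h g.2)
  let j' : X ⟶ (q ⁻¹ᵁ O : (Spec A).Opens) :=
    IsOpenImmersion.lift (q ⁻¹ᵁ O).ι j (by rw [Scheme.Opens.range_ι]; exact hrange.le)
  have hj' : j' ≫ (q ⁻¹ᵁ O).ι = j := IsOpenImmersion.lift_fac _ _ _
  haveI : IsOpenImmersion (j' ≫ (q ⁻¹ᵁ O).ι) := by rw [hj']; infer_instance
  haveI : IsOpenImmersion j' := IsOpenImmersion.of_comp j' (q ⁻¹ᵁ O).ι
  refine ⟨_, (j' ≫ (q ∣_ O)) ≫ O.ι, Spec.map ψ, inferInstance, inferInstance, ?_⟩
  rw [Category.assoc, Category.assoc, morphismRestrict_ι_assoc, reassoc_of% hj', ← Spec.map_comp, hψι]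

/-- A separated quasi-finite morphism of finite type to an affine scheme is open in a finite one. -/
theorem exists_finite_factor {X Y : Scheme.{u}} [IsAffine Y] (f : X ⟶ Y) [IsSeparated f] [QuasiCompact f]
    [LocallyOfFiniteType f] [LocallyQuasiFinite f] :
    ∃ (T : Scheme.{u}) (i : X ⟶ T) (π : T ⟶ Y), IsOpenImmersion i ∧ IsFinite π ∧ i ≫ π = f := by
  haveI : IsAffine f.normalization := isAffine_of_isAffineHom f.fromNormalization
  haveI : CompactSpace X := QuasiCompact.compactSpace_of_compactSpace f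
  let φ := f.fromNormalization.appTop
  have e : (f.toNormalization ≫ f.normalization.isoSpec.hom) ≫ Spec.map φ = f ≫ Y.isoSpec.hom := by
    rw [Category.assoc, Scheme.isoSpec_hom_naturality, Scheme.Hom.toNormalization_fromNormalization_assoc]
  haveI : LocallyOfFiniteType ((f.toNormalization ≫ f.normalization.isoSpec.hom) ≫ Spec.map φ) := by
    rw [e]; infer_instance
  have hφ : φ.hom.IsIntegral :=
    ((HasAffineProperty.iff_of_isAffine (P := @IsIntegralHom)).1 (inferInstance : IsIntegralHom f.fromNormalization)).2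
  obtain ⟨T, i, π, h1, h2, h3⟩ :=
    exists_finite_factor_spec φ hφ (f.toNormalization ≫ f.normalization.isoSpec.hom)
  refine ⟨T, i, π ≫ Y.isoSpec.inv, h1, inferInstance, ?_⟩
  rw [reassoc_of% h3, ← Category.assoc f.toNormalization, ← Category.assoc, e, Category.assoc,
    Iso.hom_inv_id, Category.comp_id]

end Groth.Agent.ConsPropLib
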