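import Groth.Agent.ConsPropLib.PointwiseProps
import Groth.Agent.MorLib.DescendSep
import Groth.Agent.MorLib.DescendIso
import Groth.Agent.MorLib.DescendOpen
import Groth.Agent.S4599
import Groth.Agent.MorLib.LimCons

/-!
# More properties of morphisms that descend along limits
-/

set_option autoImplicit false
set_option linter.style.haveILetI false

open CategoryTheory CategoryTheory.Limits AlgebraicGeometry Topology Groth.Agent.MorLib Groth.Agent.MorLib.Desc

namespace Groth.Agent.ConsPropLib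

universe u

set_option backward.isDefEq.respectTransparency.types false in
/-- If `P` descends, so does the property of the diagonal to satisfy `P`. -/
theorem core_diagonal {P Q Q' : MorphismProperty Scheme.{u}} [P.IsStableUnderBaseChange] [P.RespectsIso]
    [IsZariskiLocalAtTarget P] [Q'.IsStableUnderBaseChange] [Q'.RespectsIso] (h : Core P Q')
    (hQ : ∀ {X Y : Scheme.{u}} (f : X ⟶ Y), Q f → Q' (pullback.diagonal f)) : Core P.diagonal Q := by
  intro I _ _ D c hc hD i hi X₀ f₀ hcs hqs hQ₀ hP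
  haveI : ∀ {i j : I} (f : i ⟶ j), IsAffineHom (D.map f) := fun {i j} f => hD i j f
  haveI := hcs
  haveI := hqs
  haveI : QuasiCompact f₀ := quasiCompact_of_compactSpace f₀
  haveI : QuasiSeparated f₀ := QuasiSeparated.of_quasiSeparatedSpace f₀
  haveI : QuasiCompact (pullback.snd f₀ f₀) := MorphismProperty.pullback_snd _ _ inferInstance
  haveI : QuasiSeparated (pullback.snd f₀ f₀) := MorphismProperty.pullback_snd _ _ inferInstance
  haveI : CompactSpace ↥(pullback f₀ f₀) :=
    QuasiCompact.compactSpace_of_compactSpace (pullback.snd f₀ f₀)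
  haveI : QuasiSeparatedSpace ↥(pullback f₀ f₀) :=
    quasiSeparatedSpace_of_quasiSeparated (pullback.snd f₀ f₀)
  haveI : QuasiCompact (pullback.diagonal f₀) := inferInstance
  haveI : QuasiSeparated (pullback.diagonal f₀) := QuasiSeparated.of_quasiSeparatedSpace _
  obtain ⟨j, φ, Xj, Yj, fj, gj, pY, pX, hY, hX, hfj⟩ := descend₂ D c hc (P := P) (Q := Q') h
    (pullback.diagonal f₀) (pullback.snd f₀ f₀ ≫ f₀) (hQ f₀ hQ₀) _ _ _ _ (IsPullback.of_hasPullback _ _)
    (IsPullback.of_hasPullback _ _) ((diagonal_snd_iff P f₀ (c.π.app i)).mp hP)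
  refine ⟨j, φ, (diagonal_snd_iff P f₀ (D.map φ)).mpr ?_⟩
  exact of_factor P (of_two P hX (IsPullback.of_hasPullback _ _) hfj)
    (a := hY.isoPullback.inv) hY.isoPullback_inv_fst (IsPullback.of_hasPullback _ _)

/-- A subset containing the image of the limit contains the image of a stage. -/
theorem exists_stage_subset {I : Type u} [SmallCategory I] [IsCofiltered I] {D : I ⥤ Scheme.{u}} {c : Cone D}
    (hc : IsLimit c) [∀ {i j : I} (f : i ⟶ j), IsAffineHom (D.map f)] {i : I} {X₀ : Scheme.{u}}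
    [CompactSpace X₀] (f₀ : X₀ ⟶ D.obj i) {X : Scheme.{u}} {q : X ⟶ X₀} {f : X ⟶ c.pt}
    (sq : IsPullback q f f₀ (c.π.app i)) {B : Set X₀} (hB : ProCons.IsIndConstructible B)
    (h : ∀ x, q x ∈ B) :
    ∃ (j : I) (φ : j ⟶ i), ∀ y, pullback.fst f₀ (D.map φ) y ∈ B := by
  let T : Over i := Over.mk (𝟙 i)
  haveI : CompactSpace ↥((BC.diag D f₀).obj T) := BC.compactSpace_obj D f₀ T
  haveI : ∀ {j k : Over i} (f : j ⟶ k), IsAffineHom ((BC.diag D f₀).map f) := fun f => BC.isAffineHom_map D f₀ f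
  let B' : Set ((BC.diag D f₀).obj T) := pullback.fst f₀ (D.map T.hom) ⁻¹' B
  obtain ⟨j, φ, hj⟩ := LimPro.exists_subset (BC.isLimitCone D f₀ sq hc) T (A := Set.univ) (B := B')
    LimCons.pro_univ (LimPro.isIndConstructible_preimage hB _) (fun x _ => by
      show pullback.fst f₀ (D.map T.hom) (BC.proj D f₀ sq T x) ∈ B
      rw [← Scheme.Hom.comp_apply, BC.proj_fst]
      exact h x)
  refine ⟨j.left, j.hom, fun y => ?_⟩
  let y' : (BC.diag D f₀).obj j := y
  have : ((BC.diag D f₀).map φ ≫ pullback.fst f₀ (D.map T.hom)) y' ∈ B := hj (Set.mem_univ y')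
  rw [BC.map_fst] at this
  exact this

theorem core_surjective :
    Core (@Surjective : MorphismProperty Scheme.{u}) @LocallyOfFinitePresentation := by
  intro I _ _ D c hc hD i hi X₀ f₀ hcs hqs hQ h
  haveI : ∀ {i j : I} (f : i ⟶ j), IsAffineHom (D.map f) := fun {i j} f => hD i j f
  haveI := hcs
  haveI : LocallyOfFinitePresentation f₀ := hQ
  haveI : QuasiCompact f₀ := quasiCompact_of_compactSpace f₀
  haveI : Surjective (pullback.snd f₀ (c.π.app i)) := h
  have hcons : IsConstructible (Set.range f₀) := by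
    rw [← Set.image_univ]
    exact f₀.isConstructible_image IsConstructible.univ
  obtain ⟨j, φ, hj⟩ := LimPro.exists_subset hc i (A := Set.univ) (B := Set.range f₀) LimCons.pro_univ
    (EGA41Lib.lc_iff.1 hcons.isLocallyConstructible).1 (fun s _ => by
      obtain ⟨x, rfl⟩ := (pullback.snd f₀ (c.π.app i)).surjective s
      exact ⟨pullback.fst f₀ (c.π.app i) x, by
        rw [← Scheme.Hom.comp_apply, pullback.condition, Scheme.Hom.comp_apply]⟩)
  refine ⟨j, φ, ⟨fun y => ?_⟩⟩
  have : y ∈ Set.range (pullback.snd f₀ (D.map φ)) := by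
    rw [Scheme.Pullback.range_snd]; exact hj (Set.mem_univ y)
  exact this

theorem core_mono : Core (MorphismProperty.isomorphisms Scheme.{u}).diagonal @LocallyOfFinitePresentation :=
  core_diagonal core_iso fun f h => by
    haveI : LocallyOfFinitePresentation f := h
    exact Groth.Agent.S4599.result f

theorem core_universallyInjective :
    Core (MorphismProperty.diagonal (@Surjective : MorphismProperty Scheme.{u})) @LocallyOfFinitePresentation :=
  core_diagonal core_surjective fun f h => by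
    haveI : LocallyOfFinitePresentation f := h
    exact Groth.Agent.S4599.result f

theorem locallyQuasiFinite_fiber_iff {X Y : Scheme.{u}} (f : X ⟶ Y) [LocallyOfFiniteType f] (y : Y) :
    LocallyQuasiFinite (f.fiberToSpecResidueField y) ↔ f ⁻¹' {y} ⊆ (f.quasiFiniteLocus : Set X) := by
  rw [← Scheme.range_fromSpecResidueField y]
  exact locallyQuasiFinite_iff_range (IsPullback.of_hasPullback f (Y.fromSpecResidueField y))

/-- Quasi-finiteness of a base change. -/
theorem locallyQuasiFinite_iff_range' {X Y X' Y' : Scheme.{u}} {f : X ⟶ Y} {f' : X' ⟶ Y'} {eX : X' ⟶ X}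
    {eY : Y' ⟶ Y} [LocallyOfFiniteType f] [QuasiCompact f] (sq : IsPullback eX f' f eY) :
    LocallyQuasiFinite f' ↔ f ⁻¹' Set.range eY ⊆ (f.quasiFiniteLocus : Set X) := by
  haveI : LocallyOfFiniteType f' := MorphismProperty.of_isPullback sq ‹_›
  haveI : QuasiCompact f' := MorphismProperty.of_isPullback sq ‹_›
  have key : ∀ w, LocallyQuasiFinite (f'.fiberToSpecResidueField w) ↔
      f ⁻¹' {eY w} ⊆ (f.quasiFiniteLocus : Set X) := fun w => by
    obtain ⟨e, he, -⟩ := exists_fibre_pullback sq w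
    haveI := surjective_of_point (Spec.map (eY.residueFieldMap w))
    haveI := flat_point (Spec.map (eY.residueFieldMap w))
    rw [← locallyQuasiFinite_descends he, locallyQuasiFinite_fiber_iff]
  refine ⟨fun h x ⟨w, hw⟩ => ?_, fun h => LocallyQuasiFinite.of_fiberToSpecResidueField _ fun w =>
    (key w).2 fun x hx => h ⟨w, hx.symm⟩⟩
  exact (key w).1 (MorphismProperty.pullback_snd _ _ h) hw.symm

theorem core_locallyQuasiFinite :
    Core (@LocallyQuasiFinite : MorphismProperty Scheme.{u}) @LocallyOfFiniteType := by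
  intro I _ _ D c hc hD i hi X₀ f₀ hcs hqs hQ h
  haveI : ∀ {i j : I} (f : i ⟶ j), IsAffineHom (D.map f) := fun {i j} f => hD i j f
  haveI := hcs
  haveI : LocallyOfFiniteType f₀ := hQ
  haveI : QuasiCompact f₀ := quasiCompact_of_compactSpace f₀
  have sq := IsPullback.of_hasPullback f₀ (c.π.app i)
  have hsub := (locallyQuasiFinite_iff_range' sq).1 h
  obtain ⟨j, φ, hj⟩ := exists_stage_subset hc f₀ sq (LimCons.ind_of_isOpen f₀.quasiFiniteLocus.2) (fun x =>
    hsub (⟨pullback.snd f₀ (c.π.app i) x, by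
      rw [← Scheme.Hom.comp_apply, ← pullback.condition, Scheme.Hom.comp_apply]⟩ : f₀ _ ∈ Set.range (c.π.app i)))
  refine ⟨j, φ, (locallyQuasiFinite_iff_range' (IsPullback.of_hasPullback f₀ (D.map φ))).2 fun x hx => ?_⟩
  obtain ⟨y, rfl⟩ : x ∈ Set.range (pullback.fst f₀ (D.map φ)) := by
    rw [Scheme.Pullback.range_fst]; exact hx
  exact hj y

set_option backward.isDefEq.respectTransparency.types false in
/-- Immersions descend. -/
theorem core_immersion :
    Core (@IsImmersion : MorphismProperty Scheme.{u}) @LocallyOfFiniteType := by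
  intro I _ _ D c hc hD i hi X₀ f₀ hcs hqs hQ h
  haveI : ∀ {i j : I} (f : i ⟶ j), IsAffineHom (D.map f) := fun {i j} f => hD i j f
  haveI := hcs
  haveI := hqs
  haveI : LocallyOfFiniteType f₀ := hQ
  haveI : QuasiCompact f₀ := quasiCompact_of_compactSpace f₀
  haveI : QuasiSeparated f₀ := QuasiSeparated.of_quasiSeparatedSpace f₀
  haveI := isAffineHom_π_app D c hc i
  let π : c.pt ⟶ D.obj i := c.π.app i
  haveI : CompactSpace c.pt := QuasiCompact.compactSpace_of_compactSpace π
  haveI : IsAffine c.pt := isAffine_of_isAffineHom π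
  have sq : IsPullback (pullback.fst f₀ π) (pullback.snd f₀ π) f₀ π := IsPullback.of_hasPullback _ _
  let F : pullback f₀ π ⟶ c.pt := pullback.snd f₀ π
  haveI : IsImmersion F := h
  haveI : CompactSpace ↥(pullback f₀ π) := QuasiCompact.compactSpace_of_compactSpace F
  -- a compact open in which the image is closed
  have hR : IsLocallyClosed (Set.range F) := IsImmersion.isLocallyClosed_range (f := F)
  obtain ⟨O, C, hO, hC, hOC⟩ := hR
  obtain ⟨W, hWc, hWo, hRW, hWO⟩ := PrespectralSpace.exists_isCompact_and_isOpen_between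
    (isCompact_range F.continuous) hO (hOC ▸ Set.inter_subset_left)
  have hcl : IsClosed (Subtype.val ⁻¹' Set.range F : Set W) := by
    have : (Subtype.val ⁻¹' Set.range F : Set W) = Subtype.val ⁻¹' C := by
      rw [hOC]
      exact Set.ext fun w => ⟨fun h => h.2, fun h => ⟨hWO w.2, h⟩⟩
    rw [this]
    exact hC.preimage continuous_subtype_val
  obtain ⟨a, A, hA, hA'⟩ := exists_preimage_eq D c hc ⟨W, hWo⟩ hWc
  let k := IsCofiltered.min i a
  let p : k ⟶ i := IsCofiltered.minToLeft i a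
  let r : k ⟶ a := IsCofiltered.minToRight i a
  let B : (D.obj k).Opens := D.map r ⁻¹ᵁ A
  have hB : c.π.app k ⁻¹ᵁ B = ⟨W, hWo⟩ := by
    rw [← hA', ← Scheme.Hom.comp_preimage, c.w]
  haveI : CompactSpace ↥(pullback f₀ (D.map p)) :=
    QuasiCompact.compactSpace_of_compactSpace (pullback.fst f₀ (D.map p))
  let f₁ := pullback.snd f₀ (D.map p)
  let q₁ : pullback f₀ π ⟶ pullback f₀ (D.map p) :=
    pullback.lift (pullback.fst f₀ π) (F ≫ c.π.app k) (by rw [Category.assoc, c.w]; exact sq.w)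
  have sq₁ : IsPullback q₁ F f₁ (c.π.app k) := by
    refine IsPullback.of_right ?_ (pullback.lift_snd _ _ _) (IsPullback.of_hasPullback f₀ (D.map p))
    rw [pullback.lift_fst, c.w]
    exact sq
  obtain ⟨l, ψ, hl⟩ := exists_stage_subset hc f₁ sq₁ (B := f₁ ⁻¹' B)
    (LimCons.ind_of_isOpen (B.2.preimage f₁.continuous)) (fun x => by
      show f₁ (q₁ x) ∈ B
      rw [← Scheme.Hom.comp_apply, sq₁.w, Scheme.Hom.comp_apply]
      exact hB.ge (hRW ⟨x, rfl⟩))
  -- everything factors through the open at stage `l`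
  let Bl : (D.obj l).Opens := D.map ψ ⁻¹ᵁ B
  let f₂ := pullback.snd f₁ (D.map ψ)
  haveI : QuasiCompact f₁ := MorphismProperty.pullback_snd _ _ ‹QuasiCompact f₀›
  haveI : QuasiSeparated f₁ := MorphismProperty.pullback_snd _ _ ‹QuasiSeparated f₀›
  haveI : LocallyOfFiniteType f₁ := MorphismProperty.pullback_snd _ _ ‹LocallyOfFiniteType f₀›
  haveI : QuasiCompact f₂ := MorphismProperty.pullback_snd _ _ ‹QuasiCompact f₁›
  haveI : QuasiSeparated f₂ := MorphismProperty.pullback_snd _ _ ‹QuasiSeparated f₁›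
  haveI : LocallyOfFiniteType f₂ := MorphismProperty.pullback_snd _ _ ‹LocallyOfFiniteType f₁›
  have hr₂ : Set.range f₂ ⊆ Set.range Bl.ι := by
    rw [Scheme.Opens.range_ι]
    rintro _ ⟨y, rfl⟩
    show D.map ψ (f₂ y) ∈ B
    rw [← Scheme.Hom.comp_apply, ← pullback.condition, Scheme.Hom.comp_apply]
    exact hl y
  let g₂ : pullback f₁ (D.map ψ) ⟶ (Bl : Scheme.{u}) := IsOpenImmersion.lift Bl.ι f₂ hr₂
  have hg₂ : g₂ ≫ Bl.ι = f₂ := IsOpenImmersion.lift_fac _ _ _
  haveI : QuasiCompact (g₂ ≫ Bl.ι) := by rw [hg₂]; infer_instance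
  haveI : QuasiSeparated (g₂ ≫ Bl.ι) := by rw [hg₂]; infer_instance
  haveI : LocallyOfFiniteType (g₂ ≫ Bl.ι) := by rw [hg₂]; infer_instance
  haveI : QuasiCompact g₂ := QuasiCompact.of_comp g₂ Bl.ι
  haveI : QuasiSeparated g₂ := QuasiSeparated.of_comp g₂ Bl.ι
  haveI : LocallyOfFiniteType g₂ := locallyOfFiniteType_of_comp g₂ Bl.ι
  haveI : CompactSpace ↥(Bl : Scheme.{u}) :=
    isCompact_iff_compactSpace.mp ((D.map ψ).isCompact_preimage ((D.map r).isCompact_preimage hA))
  let π' : c.pt ⟶ D.obj l := c.π.app l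
  let q₂ : pullback f₀ π ⟶ pullback f₁ (D.map ψ) :=
    pullback.lift q₁ (F ≫ π') (by rw [Category.assoc, show π' ≫ D.map ψ = c.π.app k from c.w ψ]; exact sq₁.w)
  have sq₂ : IsPullback q₂ F f₂ π' := by
    refine IsPullback.of_right ?_ (pullback.lift_snd _ _ _) (IsPullback.of_hasPullback f₁ (D.map ψ))
    rw [pullback.lift_fst, show π' ≫ D.map ψ = c.π.app k from c.w ψ]
    exact sq₁
  let Wl : c.pt.Opens := π' ⁻¹ᵁ Bl
  have hW : (Wl : Set c.pt) = W := by
    show (((π' ⁻¹ᵁ D.map ψ ⁻¹ᵁ B) : c.pt.Opens) : Set c.pt) = W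
    rw [← Scheme.Hom.comp_preimage, show π' ≫ D.map ψ = c.π.app k from c.w ψ, hB]
    rfl
  have hrF : Set.range F ⊆ Set.range Wl.ι := by rw [Scheme.Opens.range_ι, hW]; exact hRW
  let F' : pullback f₀ π ⟶ (Wl : Scheme.{u}) := IsOpenImmersion.lift Wl.ι F hrF
  have hF' : F' ≫ Wl.ι = F := IsOpenImmersion.lift_fac _ _ _
  have sqY : IsPullback (π' ∣_ Bl) Wl.ι Bl.ι π' := isPullback_morphismRestrict π' Bl
  have sqX : IsPullback q₂ F' g₂ (π' ∣_ Bl) := by
    refine IsPullback.of_bot (by rw [hF', hg₂]; exact sq₂) ?_ sqY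
    rw [← cancel_mono Bl.ι, Category.assoc, hg₂, Category.assoc, morphismRestrict_ι, sq₂.w,
      ← Category.assoc, hF']
  haveI : IsImmersion (F' ≫ Wl.ι) := by rw [hF']; infer_instance
  haveI : IsImmersion F' := IsImmersion.of_comp F' Wl.ι
  have hci : IsClosedImmersion F' := by
    refine IsClosedImmersion.of_isPreimmersion F' ?_
    have e : Set.range F' = Wl.ι ⁻¹' Set.range F := by
      ext w
      refine ⟨fun ⟨x, hx⟩ => ⟨x, by rw [← hF', Scheme.Hom.comp_apply, hx]⟩, fun ⟨x, hx⟩ => ⟨x, ?_⟩⟩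
      exact Wl.ι.isEmbedding.injective (by rw [← Scheme.Hom.comp_apply, hF', hx])
    rw [e]
    have hcl' : IsClosed (Subtype.val ⁻¹' Set.range F : Set (Wl : Set c.pt)) := by rw [hW]; exact hcl
    exact hcl'
  obtain ⟨m, φ, Xm, Ym, fm, gm, pY, pX, hYm, hXm, hfm⟩ := descend₂ D c hc (P := @IsClosedImmersion)
    (Q := @LocallyOfFiniteType) core_closedImmersion g₂ Bl.ι inferInstance F' Wl.ι (π' ∣_ Bl) q₂ sqY sqX hci
  haveI : IsOpenImmersion gm := MorphismProperty.of_isPullback hYm (inferInstance : IsOpenImmersion Bl.ι)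
  haveI : IsClosedImmersion fm := hfm
  refine ⟨m, (φ ≫ ψ) ≫ p, ?_⟩
  have hp := hXm.paste_vert hYm
  rw [hg₂] at hp
  have hp' := hp.paste_horiz ((IsPullback.of_hasPullback f₁ (D.map ψ)).paste_horiz
    (IsPullback.of_hasPullback f₀ (D.map p)))
  rw [← D.map_comp_assoc, ← D.map_comp] at hp'
  exact of_two @IsImmersion hp' (IsPullback.of_hasPullback f₀ _) inferInstance

/-- Open immersions descend, for morphisms of finite presentation. -/
theorem core_openImmersion_lfp :
    Core (@IsOpenImmersion : MorphismProperty Scheme.{u}) @LocallyOfFinitePresentation := by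
  intro I _ _ D c hc hD i hi X₀ f₀ hcs hqs hQ h
  haveI : ∀ {i j : I} (f : i ⟶ j), IsAffineHom (D.map f) := fun {i j} f => hD i j f
  haveI := hcs
  haveI := hqs
  haveI : LocallyOfFinitePresentation f₀ := hQ
  haveI : IsOpenImmersion (pullback.snd f₀ (c.π.app i)) := h
  obtain ⟨j, φ, hj⟩ := core_immersion I D c hc hD i hi f₀ hcs hqs
    (inferInstance : LocallyOfFiniteType f₀) (inferInstance : IsImmersion (pullback.snd f₀ (c.π.app i)))
  haveI : IsAffine (D.obj j) := isAffine_of_isAffineHom (D.map φ)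
  haveI : IsAffineHom (pullback.fst f₀ (D.map φ)) := MorphismProperty.pullback_fst _ _ inferInstance
  haveI : CompactSpace ↥(pullback f₀ (D.map φ)) :=
    QuasiCompact.compactSpace_of_compactSpace (pullback.fst f₀ (D.map φ))
  haveI : QuasiSeparatedSpace ↥(pullback f₀ (D.map φ)) :=
    quasiSeparatedSpace_of_quasiSeparated (pullback.fst f₀ (D.map φ))
  have hp := (IsPullback.of_hasPullback (pullback.snd f₀ (D.map φ)) (c.π.app j)).paste_horiz
    (IsPullback.of_hasPullback f₀ (D.map φ))
  rw [c.w φ] at hp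
  obtain ⟨k, ψ, hψ⟩ := core_openImmersion' I D c hc hD j inferInstance (pullback.snd f₀ (D.map φ))
    inferInstance inferInstance ⟨hj, MorphismProperty.pullback_snd _ _ hQ⟩
    (of_two @IsOpenImmersion (IsPullback.of_hasPullback f₀ _) hp h)
  refine ⟨k, ψ ≫ φ, ?_⟩
  have hp2 := (IsPullback.of_hasPullback (pullback.snd f₀ (D.map φ)) (D.map ψ)).paste_horiz
    (IsPullback.of_hasPullback f₀ (D.map φ))
  rw [← D.map_comp] at hp2
  exact of_two @IsOpenImmersion hp2 (IsPullback.of_hasPullback f₀ _) hψ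

end Groth.Agent.ConsPropLib
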