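import Groth.Agent.ConsPropLib.FibreProper
import Groth.Agent.ConsPropLib.Loci
import Groth.Agent.MorLib.DescendSep

/-!
# Descent of properness along limits (EGA IV 8.10.5 (xii))
-/

set_option autoImplicit false
set_option linter.style.haveILetI false

open CategoryTheory CategoryTheory.Limits AlgebraicGeometry Groth.Agent.MorLib Groth.Agent.MorLib.Desc

namespace Groth.Agent.ConsPropLib

universe u

/-- A separated morphism of finite presentation to an affine scheme comes from a separated one over a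
noetherian affine scheme. -/
theorem exists_separated_model {X S : Scheme.{u}} [IsAffine S] (f : X ⟶ S)
    [LocallyOfFinitePresentation f] [QuasiCompact f] [IsSeparated f] :
    ∃ (S₁ X₁ : Scheme.{u}) (ρ : S ⟶ S₁) (f₁ : X₁ ⟶ S₁) (q : X ⟶ X₁),
      IsNoetherian S₁ ∧ IsAffine S₁ ∧ LocallyOfFiniteType f₁ ∧ QuasiCompact f₁ ∧ IsSeparated f₁ ∧
      IsPullback q f f₁ ρ := by
  obtain ⟨I, _, _, D, c, hc, e, hA, hN⟩ := exists_noetherian_limit S
  haveI := hA
  haveI : ∀ {i j : I} (f : i ⟶ j), IsAffineHom (D.map f) := fun f => isAffineHom_of_isAffine _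
  haveI : ∀ (i j : I) (f : i ⟶ j), IsAffineHom (D.map f) := fun i j f => isAffineHom_of_isAffine _
  obtain ⟨i, X₁, u₁, g₁, hX⟩ := hasModel hc (f ≫ e.inv)
  haveI := hX.lfp; haveI := hX.qc; haveI := hX.qs
  haveI := hX.compactSpace; haveI := hX.quasiSeparatedSpace
  have hs : IsSeparated (pullback.snd u₁ (c.π.app i)) :=
    of_two @IsSeparated hX.sq (IsPullback.of_hasPullback _ _) inferInstance
  obtain ⟨j, φ, hj⟩ := core_isSeparated I D c hc (fun a b f => inferInstance) i (hA i) u₁
    inferInstance inferInstance trivial hs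
  exact ⟨D.obj j, _, e.inv ≫ c.π.app j, pullback.snd u₁ (D.map φ), hX.push φ, hN j, hA j,
    inferInstance, inferInstance, hj,
    (hX.pushed φ).sq.of_iso (Iso.refl _) (Iso.refl _) e (Iso.refl _) (by simp) (by simp) (by simp) (by simp)⟩

/-- Properness descends along limits for morphisms of finite presentation. -/
theorem core_isProper : Core @IsProper (@LocallyOfFinitePresentation : MorphismProperty Scheme.{u}) := by
  intro I _ _ D c hc hD i hi X₀ f₀ hcs hqs hQ h
  classical
  haveI : ∀ {i j : I} (f : i ⟶ j), IsAffineHom (D.map f) := fun {i j} f => hD i j f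
  haveI := hcs
  haveI := hqs
  haveI := hi
  haveI : LocallyOfFinitePresentation f₀ := hQ
  haveI : QuasiCompact f₀ := quasiCompact_of_compactSpace f₀
  haveI : IsProper (pullback.snd f₀ (c.π.app i)) := h
  obtain ⟨j, φ, hj⟩ := core_isSeparated I D c hc hD i hi f₀ hcs hqs trivial inferInstance
  haveI : IsAffine (D.obj j) := isAffine_of_isAffineHom (D.map φ)
  haveI := hj
  obtain ⟨S₁, X₁, ρ, f₁, q, hN, hA, hft, hqc, hsep, sq⟩ := exists_separated_model (pullback.snd f₀ (D.map φ))
  haveI := hN; haveI := hA; haveI := hft; haveI := hqc; haveI := hsep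
  obtain ⟨C⟩ := exists_chowCover f₁
  haveI := C.fin
  haveI : ∀ k, IsProper (C.q k) := C.proper_q
  haveI : ∀ k, IsProper (C.π k) := C.proper_π
  haveI : ∀ k, LocallyOfFiniteType (C.p k ≫ C.q k) := fun k => by rw [C.comm k]; infer_instance
  haveI : ∀ k, QuasiCompact (C.p k ≫ C.q k) := fun k => by rw [C.comm k]; infer_instance
  haveI : ∀ k, LocallyOfFiniteType (C.p k) := fun k => locallyOfFiniteType_of_comp (C.p k) (C.q k)
  haveI : ∀ k, QuasiCompact (C.p k) := fun k => QuasiCompact.of_comp (C.p k) (C.q k)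
  haveI : ∀ k, Mono (C.p k) := C.mono_p
  let g₀ : ∀ k, pullback (C.q k) ρ ⟶ D.obj j := fun k => pullback.snd (C.q k) ρ
  let p₀ : ∀ k, pullback (C.p k) (pullback.fst (C.q k) ρ) ⟶ pullback (C.q k) ρ :=
    fun k => pullback.snd (C.p k) (pullback.fst (C.q k) ρ)
  haveI : ∀ k, CompactSpace ↥(pullback (C.q k) ρ) := fun k =>
    QuasiCompact.compactSpace_of_compactSpace (g₀ k)
  -- the squares at a stage over `j`
  have key : ∀ {V : Scheme.{u}} (ψ : V ⟶ D.obj j) {ψ' : V ⟶ D.obj i}, ψ ≫ D.map φ = ψ' →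
      (IsProper (pullback.snd f₀ ψ') ↔ ∀ k, IsClosedImmersion
        (pullback.snd (p₀ k) (pullback.fst (g₀ k) ψ))) := by
    intro V ψ ψ' hψ
    subst hψ
    have h1 := (IsPullback.of_hasPullback (pullback.snd f₀ (D.map φ)) ψ).paste_horiz sq
    have h2 := (IsPullback.of_hasPullback (pullback.snd f₀ (D.map φ)) ψ).paste_horiz
      (IsPullback.of_hasPullback f₀ (D.map φ))
    rw [← C.isProper_iff h1 _ _ (fun k => (IsPullback.of_hasPullback (g₀ k) ψ).paste_horiz
      (IsPullback.of_hasPullback (C.q k) ρ)) _ _ (fun k =>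
      (IsPullback.of_hasPullback (p₀ k) (pullback.fst (g₀ k) ψ)).paste_horiz
      (IsPullback.of_hasPullback (C.p k) (pullback.fst (C.q k) ρ)))]
    exact ⟨of_two @IsProper (IsPullback.of_hasPullback f₀ (ψ ≫ D.map φ)) h2,
      of_two @IsProper h2 (IsPullback.of_hasPullback f₀ (ψ ≫ D.map φ))⟩
  have hlim := (key (c.π.app j) (c.w φ)).1 h
  have hstage : ∀ k, ∃ (a : Over j), ∀ (n : Over j) (_ : n ⟶ a), IsClosedImmersion
      (pullback.snd (p₀ k) (pullback.fst (g₀ k) (D.map n.hom))) := by
    intro k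
    haveI : MorphismProperty.RespectsIso (@LocallyOfFiniteType : MorphismProperty Scheme.{u}) :=
      MorphismProperty.IsStableUnderBaseChange.respectsIso
    obtain ⟨m, χ, Xm, Ym, fm, gm, pY, pX, hY, hX, hfm⟩ := descend₂ D c hc (P := @IsClosedImmersion)
      (Q := @LocallyOfFiniteType) core_closedImmersion (p₀ k) (g₀ k) inferInstance _ _ _ _
      (IsPullback.of_hasPullback _ _) (IsPullback.of_hasPullback _ _) (hlim k)
    refine ⟨Over.mk χ, fun n a => ?_⟩
    have ha : a.left ≫ χ = n.hom := Over.w a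
    exact of_factor @IsClosedImmersion (of_two @IsClosedImmersion hX (IsPullback.of_hasPullback _ _) hfm)
      (a := hY.lift (pullback.fst (g₀ k) (D.map n.hom)) (pullback.snd (g₀ k) (D.map n.hom) ≫ D.map a.left)
        (by rw [Category.assoc, ← D.map_comp, ha]; exact pullback.condition))
      (hY.lift_fst _ _ _) (IsPullback.of_hasPullback _ _)
  choose a ha using hstage
  haveI : Fintype C.ι := Fintype.ofFinite _
  obtain ⟨n, hn⟩ := IsCofiltered.inf_objs_exists (Finset.univ.image a)
  exact ⟨n.left, n.hom ≫ φ, (key (D.map n.hom) (D.map_comp n.hom φ).symm).2 fun k =>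
    ha k n (hn (Finset.mem_image_of_mem a (Finset.mem_univ k))).some⟩

end Groth.Agent.ConsPropLib
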