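import Groth.Agent.ConsPropLib.Loci
import Groth.Agent.ConsPropLib.PointwiseProps
import Groth.Agent.MorLib.BaseChangeLim
import Groth.Agent.ZClosLib.CohDescent
import Groth.Agent.LimModLib.FP
import Groth.Agent.S4788

/-!
# Loci of constructible properties of modules (EGA IV 9.2.3, 9.3)
-/

set_option autoImplicit false
set_option linter.style.haveILetI false

open CategoryTheory CategoryTheory.Limits AlgebraicGeometry Topology Groth.Agent.SpecLib Groth.Agent.EGA41Lib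

namespace Groth.Agent.ConsPropLib

universe u

variable {S X : Scheme.{u}}

theorem isCoh_fibre (u : X ⟶ S) [LocallyOfFiniteType u] {F : X.Modules} (hq : Coh.IsQCoh F) (hF : CohB1.IsFP F)
    (s : S) : Coh.IsCoh ((Scheme.Modules.pullback (u.fiberι s)).obj F) :=
  haveI : IsLocallyNoetherian (u.fiber s) :=
    LocallyOfFiniteType.isLocallyNoetherian (u.fiberToSpecResidueField s)
  QCoh.isCoh_iff_isFP.2 (LimModLib.isFP_pullback (u.fiberι s) hq hF)

theorem locusMod_preimage' {P : ∀ ⦃Y T : Scheme.{u}⦄, (Y ⟶ T) → Y.Modules → Prop}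
    (hP : ConsProp.IsFieldStableMod P) {X' S' : Scheme.{u}} {u : X ⟶ S} [LocallyOfFiniteType u] [QuasiCompact u]
    {u' : X' ⟶ S'} {p : X' ⟶ X} {h : S' ⟶ S} (sq : IsPullback p u' u h)
    {F : X.Modules} (hq : Coh.IsQCoh F) (hF : CohB1.IsFP F) :
    ConsProp.locusMod P u' ((Scheme.Modules.pullback p).obj F) = h ⁻¹' ConsProp.locusMod P u F :=
  locusMod_preimage hP sq (isCoh_fibre u hq hF) (Iso.refl _)

/-! ### Noetherian bases -/

theorem isConstructible_locusMod [IsNoetherian S] {P : ∀ ⦃Y T : Scheme.{u}⦄, (Y ⟶ T) → Y.Modules → Prop}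
    (hP : ConsProp.IsConsMod P) (u : X ⟶ S) [LocallyOfFiniteType u] [QuasiCompact u] (F : X.Modules)
    (hq : Coh.IsQCoh F) (hF : CohB1.IsFP F) : IsConstructible (ConsProp.locusMod P u F) :=
  isConstructible_of_dichotomy _ fun T j _ _ _ => by
    haveI : IsLocallyNoetherian X := LocallyOfFiniteType.isLocallyNoetherian u
    rw [← locusMod_preimage' hP.1 (IsPullback.of_hasPullback u j) hq hF]
    exact hP.2 (pullback.snd u j) _ (ZClosLib.isCoh_pullback _ (QCoh.isCoh_iff_isFP.2 hF))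

theorem isIndConstructible_locusMod [IsNoetherian S] {P : ∀ ⦃Y T : Scheme.{u}⦄, (Y ⟶ T) → Y.Modules → Prop}
    (hP : ConsProp.IsIndConsMod P) (u : X ⟶ S) [LocallyOfFiniteType u] [QuasiCompact u] (F : X.Modules)
    (hq : Coh.IsQCoh F) (hF : CohB1.IsFP F) : ProCons.IsIndConstructible (ConsProp.locusMod P u F) :=
  isIndConstructible_of_generic _ fun T j _ _ _ hg => by
    haveI : IsLocallyNoetherian X := LocallyOfFiniteType.isLocallyNoetherian u
    have hl := locusMod_preimage' hP.1 (IsPullback.of_hasPullback u j) hq hF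
    rw [← hl]
    exact hP.2 (pullback.snd u j) _ (ZClosLib.isCoh_pullback _ (QCoh.isCoh_iff_isFP.2 hF)) (hl.ge hg)

/-! ### Models over noetherian schemes -/

/-- A scheme and a module of finite presentation over an affine scheme come from a noetherian scheme. -/
theorem exists_model_mod [IsAffine S] (u : X ⟶ S) [LocallyOfFinitePresentation u] [QuasiCompact u]
    [QuasiSeparated u] (F : X.Modules) (hq : Coh.IsQCoh F) (hF : CohB1.IsFP F) :
    ∃ (S₀ X₀ : Scheme.{u}) (π : S ⟶ S₀) (u₀ : X₀ ⟶ S₀) (q : X ⟶ X₀) (F₀ : X₀.Modules),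
      IsNoetherian S₀ ∧ IsAffine S₀ ∧ LocallyOfFiniteType u₀ ∧ QuasiCompact u₀ ∧ IsPullback q u u₀ π ∧
      Coh.IsQCoh F₀ ∧ CohB1.IsFP F₀ ∧ Nonempty (F ≅ (Scheme.Modules.pullback q).obj F₀) := by
  obtain ⟨I, _, _, D, c, hc, e, hA, hN⟩ := exists_noetherian_limit S
  haveI := hA
  haveI : ∀ {i j : I} (f : i ⟶ j), IsAffineHom (D.map f) := fun f => isAffineHom_of_isAffine _
  obtain ⟨i, X₁, u₁, g₁, hm⟩ := hasModel hc (u ≫ e.inv)
  haveI := hm.lfp; haveI := hm.qc; haveI := hm.qs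
  let DX := MorLib.BC.diag D u₁
  let T : Over i := Over.mk (𝟙 i)
  haveI hT := hm.pushed T.hom
  haveI : CompactSpace (DX.obj T) := hT.compactSpace
  haveI : QuasiSeparatedSpace (DX.obj T) := hT.quasiSeparatedSpace
  haveI : Coh.IsQCoh (X := (MorLib.BC.cone D u₁ hm.sq).pt) F := hq
  obtain ⟨j, -, Fj, hjq, hjF, ⟨ej⟩⟩ := S4788.result DX (MorLib.BC.cone D u₁ hm.sq)
    (MorLib.BC.isLimitCone D u₁ hm.sq hc) T F hF
  have mX := hm.pushed j.hom
  haveI := mX.lfp
  refine ⟨D.obj j.left, _, e.inv ≫ c.π.app j.left, pullback.snd u₁ (D.map j.hom),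
    hm.push j.hom, Fj, hN _, hA _, inferInstance, mX.qc,
    mX.sq.of_iso (Iso.refl _) (Iso.refl _) e (Iso.refl _) (by simp) (by simp) (by simp) (by simp), hjq, hjF, ⟨?_⟩⟩
  exact ej.symm ≪≫ (Scheme.Modules.pullbackCongr
    (show (MorLib.BC.cone D u₁ hm.sq).π.app j = hm.push j.hom from pullback.hom_ext
      ((MorLib.BC.proj_fst D u₁ hm.sq j).trans (hm.push_fst j.hom).symm)
      ((MorLib.BC.proj_snd D u₁ hm.sq j).trans (hm.push_snd j.hom).symm))).app Fj

/-- A family with a module, restricted to an affine open of the base. -/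
theorem exists_affine_restrict_mod {P : ∀ ⦃Y T : Scheme.{u}⦄, (Y ⟶ T) → Y.Modules → Prop}
    (hP : ConsProp.IsFieldStableMod P) (u : X ⟶ S) [LocallyOfFinitePresentation u] [QuasiCompact u]
    [QuasiSeparated u] (F : X.Modules) (hq : Coh.IsQCoh F) (hF : CohB1.IsFP F)
    {V : S.Opens} (hV : IsAffineOpen V) :
    ∃ (S₀ X₀ : Scheme.{u}) (π : (V : Scheme.{u}) ⟶ S₀) (u₀ : X₀ ⟶ S₀) (F₀ : X₀.Modules),
      IsNoetherian S₀ ∧ IsAffineHom π ∧ LocallyOfFiniteType u₀ ∧ QuasiCompact u₀ ∧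
      Coh.IsQCoh F₀ ∧ CohB1.IsFP F₀ ∧
      (V.ι ⁻¹' ConsProp.locusMod P u F : Set (V : Scheme.{u})) = π ⁻¹' ConsProp.locusMod P u₀ F₀ := by
  haveI : IsAffine (V : Scheme.{u}) := hV
  obtain ⟨S₀, X₀, π, u₀, q, F₀, h1, h2, h3, h4, sq, h5, h6, ⟨i⟩⟩ :=
    exists_model_mod (pullback.snd u V.ι) ((Scheme.Modules.pullback (pullback.fst u V.ι)).obj F)
      (QCoh.isQCoh_pullback _ hq) (LimModLib.isFP_pullback _ hq hF)
  refine ⟨S₀, X₀, π, u₀, F₀, h1, isAffineHom_of_isAffine _, h3, h4, h5, h6, ?_⟩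
  rw [← locusMod_preimage' hP (IsPullback.of_hasPullback u V.ι) hq hF,
    ← locusMod_preimage hP sq (isCoh_fibre u₀ h5 h6) i]

theorem isLocallyConstructible_locusMod {P : ∀ ⦃Y T : Scheme.{u}⦄, (Y ⟶ T) → Y.Modules → Prop}
    (hP : ConsProp.IsConsMod P) (u : X ⟶ S) [LocallyOfFinitePresentation u] [QuasiCompact u] [QuasiSeparated u]
    (F : X.Modules) (hq : Coh.IsQCoh F) (hF : CohB1.IsFP F) :
    IsLocallyConstructible (ConsProp.locusMod P u F) :=
  lc_of_affine fun V hV => by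
    haveI : IsAffine (V : Scheme.{u}) := hV
    obtain ⟨S₀, X₀, π, u₀, F₀, _, _, _, _, h5, h6, e⟩ := exists_affine_restrict_mod hP.1 u F hq hF hV
    rw [e]
    exact MorLib.LimCons.isConstructible_preimage π (isConstructible_locusMod hP u₀ F₀ h5 h6)

theorem isIndConstructible_locusMod' {P : ∀ ⦃Y T : Scheme.{u}⦄, (Y ⟶ T) → Y.Modules → Prop}
    (hP : ConsProp.IsIndConsMod P) (u : X ⟶ S) [LocallyOfFinitePresentation u] [QuasiCompact u] [QuasiSeparated u]
    (F : X.Modules) (hq : Coh.IsQCoh F) (hF : CohB1.IsFP F) :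
    ProCons.IsIndConstructible (ConsProp.locusMod P u F) :=
  ind_of_affine fun V hV => by
    obtain ⟨S₀, X₀, π, u₀, F₀, _, _, _, _, h5, h6, e⟩ := exists_affine_restrict_mod hP.1 u F hq hF hV
    rw [e]
    exact MorLib.LimPro.isIndConstructible_preimage (isIndConstructible_locusMod hP u₀ F₀ h5 h6) π

/-! ### The generic point of an irreducible base -/

theorem mem_interior_of_isLocallyConstructible [IrreducibleSpace S] {E : Set S} (hE : IsLocallyConstructible E)
    (h : genericPoint S ∈ E) : genericPoint S ∈ interior E :=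
  mem_interior_iff_mem_nhds.2 (FibDim.mem_nhds_of_generizations hE fun t ht =>
    (ht.antisymm ((genericPoint_spec S).specializes (Set.mem_univ _))).eq.symm ▸ h)

theorem mem_interior_of_isIndConstructible [IrreducibleSpace S] {E : Set S} (hE : ProCons.IsIndConstructible E)
    (h : genericPoint S ∈ E) : genericPoint S ∈ interior E := by
  obtain ⟨U, hU, hηU, 𝒯, h𝒯, he⟩ := hE (genericPoint S)
  obtain ⟨T, hT, hηT⟩ : (⟨genericPoint S, hηU⟩ : ↥U) ∈ ⋃₀ 𝒯 := he.le h
  have hn : T ∈ nhds (⟨genericPoint S, hηU⟩ : ↥U) :=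
    FibDim.mem_nhds_of_generizations (Y := ((⟨U, hU⟩ : S.Opens) : Scheme.{u})) (h𝒯 T hT) fun t ht => by
      have h1 : t.1 ⤳ genericPoint S := ht.map continuous_subtype_val
      obtain rfl : t = ⟨genericPoint S, hηU⟩ :=
        Subtype.ext (h1.antisymm ((genericPoint_spec S).specializes (Set.mem_univ _))).eq
      exact hηT
  refine mem_interior_iff_mem_nhds.2 (Filter.mem_of_superset (hU.isOpenMap_subtype_val.image_mem_nhds hn) ?_)
  rintro _ ⟨t, ht, rfl⟩
  exact (he.ge ⟨T, hT, ht⟩ : t ∈ Subtype.val ⁻¹' E)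

end Groth.Agent.ConsPropLib
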