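import Groth.Agent.ConsPropLib.Fibre
import Groth.Agent.MorLib.BaseChangeLim
import Mathlib.AlgebraicGeometry.AffineTransitionLimit

/-!
# Models of finitely presented schemes at stages of a limit
-/

set_option autoImplicit false
set_option linter.style.haveILetI false

open CategoryTheory CategoryTheory.Limits AlgebraicGeometry

namespace Groth.Agent.ConsPropLib

universe u

variable {I : Type u} [SmallCategory I] {D : I ⥤ Scheme.{u}} {c : Cone D}

/-- A finitely presented model of `f` at stage `i`. -/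
structure IsModel {X : Scheme.{u}} (f : X ⟶ c.pt) (i : I) {Xi : Scheme.{u}} (fi : Xi ⟶ D.obj i)
    (g : X ⟶ Xi) : Prop where
  lfp : LocallyOfFinitePresentation fi
  qc : QuasiCompact fi
  qs : QuasiSeparated fi
  sq : IsPullback g f fi (c.π.app i)

/-- `f` has a finitely presented model at some stage. -/
def HasModel {X : Scheme.{u}} (f : X ⟶ c.pt) : Prop :=
  ∃ (i : I) (Xi : Scheme.{u}) (fi : Xi ⟶ D.obj i) (g : X ⟶ Xi), IsModel f i fi g

theorem isPullback_mapBC {A B S S' : Scheme.{u}} (h : A ⟶ B) {a : A ⟶ S} {b : B ⟶ S} (w : h ≫ b = a)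
    (τ : S' ⟶ S) :
    IsPullback (pullback.fst a τ) (pullback.map a τ b τ h (𝟙 _) (𝟙 _) (by simp [w]) (by simp)) h
      (pullback.fst b τ) := by
  refine IsPullback.of_bot ?_ (pullback.lift_fst _ _ _).symm (IsPullback.of_hasPullback b τ)
  rw [pullback.lift_snd, Category.comp_id, w]
  exact IsPullback.of_hasPullback a τ

namespace IsModel

variable {X : Scheme.{u}} {f : X ⟶ c.pt} {i : I} {Xi : Scheme.{u}} {fi : Xi ⟶ D.obj i} {g : X ⟶ Xi}

/-- The projection to a later stage. -/
noncomputable def push (h : IsModel f i fi g) {j : I} (φ : j ⟶ i) : X ⟶ pullback fi (D.map φ) :=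
  pullback.lift g (f ≫ c.π.app j) (by rw [Category.assoc, c.w]; exact h.sq.w)

theorem push_fst (h : IsModel f i fi g) {j : I} (φ : j ⟶ i) :
    h.push φ ≫ pullback.fst fi (D.map φ) = g := pullback.lift_fst _ _ _

theorem push_snd (h : IsModel f i fi g) {j : I} (φ : j ⟶ i) :
    h.push φ ≫ pullback.snd fi (D.map φ) = f ≫ c.π.app j := pullback.lift_snd _ _ _

theorem pushed (h : IsModel f i fi g) {j : I} (φ : j ⟶ i) :
    IsModel f j (pullback.snd fi (D.map φ)) (h.push φ) := by
  haveI := h.lfp; haveI := h.qc; haveI := h.qs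
  refine ⟨inferInstance, inferInstance, inferInstance, ?_⟩
  refine IsPullback.of_right ?_ (h.push_snd φ) (IsPullback.of_hasPullback fi (D.map φ))
  rw [h.push_fst, c.w]
  exact h.sq

theorem compactSpace (h : IsModel f i fi g) [CompactSpace (D.obj i)] : CompactSpace Xi :=
  have := h.qc
  QuasiCompact.compactSpace_of_compactSpace fi

theorem quasiSeparatedSpace (h : IsModel f i fi g) [QuasiSeparatedSpace (D.obj i)] : QuasiSeparatedSpace Xi :=
  have := h.qs
  quasiSeparatedSpace_of_quasiSeparated fi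

/-- The model restricted to an open. -/
theorem restrict (h : IsModel f i fi g) [QuasiSeparatedSpace (D.obj i)] {U : X.Opens} {W : Xi.Opens}
    (hW : IsCompact (W : Set Xi)) (e : g ⁻¹ᵁ W = U) :
    ∃ gW : (U : Scheme.{u}) ⟶ (W : Scheme.{u}), gW ≫ W.ι = U.ι ≫ g ∧
      IsModel (U.ι ≫ f) i (W.ι ≫ fi) gW := by
  subst e
  haveI := h.lfp; haveI := h.qc; haveI := h.qs
  haveI := h.quasiSeparatedSpace
  haveI : CompactSpace (W : Scheme.{u}) := isCompact_iff_compactSpace.1 hW
  refine ⟨g ∣_ W, morphismRestrict_ι g W, inferInstance, quasiCompact_of_compactSpace _,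
    inferInstance, ?_⟩
  exact (isPullback_morphismRestrict g W).paste_vert h.sq

end IsModel

theorem HasModel.of_iso {X X' : Scheme.{u}} {f : X ⟶ c.pt} (h : HasModel f) (e : X' ≅ X) {f' : X' ⟶ c.pt}
    (he : e.hom ≫ f = f') : HasModel f' := by
  obtain ⟨i, Xi, fi, g, hm⟩ := h
  exact ⟨i, Xi, fi, e.hom ≫ g, hm.lfp, hm.qc, hm.qs,
    hm.sq.of_iso e.symm (Iso.refl _) (Iso.refl _) (Iso.refl _) (by simp) (by simp [← he]) (by simp) (by simp)⟩

end Groth.Agent.ConsPropLib
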