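import Groth.Agent.ConsPropLib.FibreMono
import Groth.Agent.ConsPropLib.QFFactor

/-!
# Loci of finite morphisms and closed immersions in families (EGA IV 9.6.1)
-/

set_option autoImplicit false
set_option linter.style.haveILetI false

open CategoryTheory CategoryTheory.Limits AlgebraicGeometry Topology Groth.Agent.SpecLib
  Groth.Agent.MorLib

namespace Groth.Agent.ConsPropLib

universe u

variable {X Y S : Scheme.{u}}

/-- A property local on the target of the map of fibres can be tested on an open covering of the fibre. -/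
theorem fiberMap_iff_forall_restrict {P : MorphismProperty Scheme.{u}} [IsZariskiLocalAtTarget P]
    (f : X ⟶ Y) (g : Y ⟶ S) (s : S) {ι : Type*} (V : ι → Y.Opens)
    (hV : ∀ y, g y = s → ∃ k, y ∈ V k) :
    P (MoreMor.fiberMap f g s) ↔ ∀ k, P (MoreMor.fiberMap (f ∣_ V k) ((V k).ι ≫ g) s) := by
  let f' := MoreMor.fiberMap f g s
  let e : ∀ k, ((V k).ι ≫ g).fiber s ⟶ g.fiber s := fun k => MoreMor.fiberMap (V k).ι g s
  have se : ∀ k, IsPullback (((V k).ι ≫ g).fiberι s) (e k) (V k).ι (g.fiberι s) := fun k =>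
    isPullback_fiberMap (V k).ι g s
  haveI : ∀ k, IsOpenImmersion (e k) := fun k => MorphismProperty.of_isPullback (se k) inferInstance
  have hk : ∀ k, P (MoreMor.fiberMap (f ∣_ V k) ((V k).ι ≫ g) s) ↔ P (f' ∣_ (e k).opensRange) := fun k => by
    have h1 := (isPullback_fiberMap (f ∣_ V k) ((V k).ι ≫ g) s).paste_horiz (isPullback_morphismRestrict f (V k)).flip
    have h2 := (IsPullback.of_hasPullback f' (e k)).paste_horiz (isPullback_fiberMap f g s)
    rw [(se k).w] at h1
    rw [P.arrow_mk_iso_iff (morphismRestrictOpensRange f' (e k))]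
    exact ⟨Desc.of_two P h1 h2, Desc.of_two P h2 h1⟩
  simp only [hk]
  refine IsZariskiLocalAtTarget.iff_of_iSup_eq_top (P := P) _ (top_le_iff.1 fun w _ => ?_)
  obtain ⟨k, hk'⟩ := hV (g.fiberι s w) ((g.range_fiberι s).le ⟨w, rfl⟩)
  exact TopologicalSpace.Opens.mem_iSup.2 ⟨k, (range_f' (se k)).ge (by
    show g.fiberι s w ∈ Set.range (V k).ι
    rwa [Scheme.Opens.range_ι])⟩

theorem nhd_generic [IrreducibleSpace S] {A : Set S} (hA : IsConstructible A) (h : genericPoint S ∈ A) :
    (interior A).Nonempty :=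
  ⟨_, mem_interior_iff_mem_nhds.2 (FibDim.mem_nhds_of_generizations hA.isLocallyConstructible
    (y := genericPoint S) fun t ht =>
    (ht.antisymm ((genericPoint_spec S).specializes (Set.mem_univ _))).eq.symm ▸ h)⟩

/-- The separated quasi-finite case over an affine scheme. -/
theorem isConstructible_finiteLocus_qf [IsNoetherian S] [IsAffine Y] (f : X ⟶ Y) (g : Y ⟶ S)
    [LocallyOfFiniteType g] [QuasiCompact g] [IsSeparated f] [QuasiCompact f]
    [LocallyOfFiniteType f] [LocallyQuasiFinite f] :
    IsConstructible {s : S | IsFinite (MoreMor.fiberMap f g s)} := by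
  obtain ⟨T, i, π, _, _, rfl⟩ := exists_finite_factor f
  let h : T ⟶ S := π ≫ g
  haveI : IsLocallyNoetherian T := LocallyOfFiniteType.isLocallyNoetherian h
  haveI : CompactSpace T := QuasiCompact.compactSpace_of_compactSpace h
  haveI : AlgebraicGeometry.IsNoetherian T := {}
  have hR : IsConstructible (Set.range i) :=
    SpecLib.isConstructible_of_isOpen i.isOpenEmbedding.isOpen_range
  convert isConstructible_setsLocus stable_closed dichotomy_closed h hR hR using 1
  refine Set.ext fun s => ?_
  simp only [Set.mem_setOf_eq, closedLocus]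
  haveI : IsFinite (MoreMor.fiberMap π g s) := MorphismProperty.of_isPullback (isPullback_fiberMap π g s) ‹_›
  let i' := pullback.snd i (h.fiberι s)
  have sq : IsPullback (pullback.fst i (h.fiberι s)) (i' ≫ MoreMor.fiberMap π g s) (i ≫ π) (g.fiberι s) :=
    (IsPullback.of_hasPullback i (h.fiberι s)).paste_vert (isPullback_fiberMap π g s)
  have hiff : IsFinite (MoreMor.fiberMap (i ≫ π) g s) ↔ IsFinite (i' ≫ MoreMor.fiberMap π g s) :=
    ⟨Desc.of_two @IsFinite (isPullback_fiberMap (i ≫ π) g s) sq,
      Desc.of_two @IsFinite sq (isPullback_fiberMap (i ≫ π) g s)⟩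
  rw [hiff, ← range_f' (IsPullback.of_hasPullback i (h.fiberι s))]
  constructor
  · intro hf
    haveI : IsProper i' := IsProper.of_comp i' (MoreMor.fiberMap π g s)
    exact i'.isClosedMap.isClosed_range
  · intro hc
    haveI : IsClosedImmersion i' := IsClosedImmersion.of_isPreimmersion i' hc
    infer_instance

/-- Over an open subset of the base on which the fibres are separated and quasi-finite, after shrinking, the
morphism is separated and quasi-finite. -/
theorem exists_nhd_separated_qf [IsIntegral S] [IsNoetherian S] (f : X ⟶ Y) (g : Y ⟶ S)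
    [LocallyOfFiniteType g] [QuasiCompact g] [LocallyOfFiniteType f] [QuasiCompact f]
    (hs : IsSeparated (MoreMor.fiberMap f g (genericPoint S)))
    (hq : LocallyQuasiFinite (MoreMor.fiberMap f g (genericPoint S))) :
    ∃ W : Set S, IsOpen W ∧ genericPoint S ∈ W ∧ ∀ V : Y.Opens, (∀ y ∈ V, g y ∈ W) →
      IsSeparated (f ∣_ V) ∧ LocallyQuasiFinite (f ∣_ V) := by
  haveI : IsLocallyNoetherian Y := LocallyOfFiniteType.isLocallyNoetherian g
  haveI : CompactSpace Y := QuasiCompact.compactSpace_of_compactSpace g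
  haveI : AlgebraicGeometry.IsNoetherian Y := {}
  haveI : IsLocallyNoetherian X := LocallyOfFiniteType.isLocallyNoetherian f
  haveI : CompactSpace X := QuasiCompact.compactSpace_of_compactSpace f
  haveI : AlgebraicGeometry.IsNoetherian X := {}
  let η := genericPoint S
  haveI : IsLocallyNoetherian (pullback f f : Scheme.{u}) :=
    LocallyOfFiniteType.isLocallyNoetherian (pullback.fst f f)
  haveI : CompactSpace (pullback f f : Scheme.{u}) :=
    QuasiCompact.compactSpace_of_compactSpace (pullback.fst f f)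
  haveI : AlgebraicGeometry.IsNoetherian (pullback f f : Scheme.{u}) := {}
  let p : pullback f f ⟶ Y := pullback.fst f f ≫ f
  let R : Set (pullback f f : Scheme.{u}) := Set.range (pullback.diagonal f)
  have hR : IsConstructible R := isConstructible_range_diagonal f
  obtain ⟨m, hm, hΔ⟩ := exists_diagonal_baseChange (isPullback_fiberMap f g η)
  have hcl : IsClosed (m ⁻¹' R) := by
    rw [← range_f' hΔ]
    exact (isSeparated_iff_isClosed_range _).1 hs
  obtain ⟨W₁, o₁, η₁, k₁⟩ := image_avoid (p ≫ g)
    ((SpecLib.isConstructible_of_isClosed (isClosed_closure (s := R))).sdiff hR) fun x hx e => by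
      obtain ⟨z, hz, hzx⟩ := (ProConsLib.consClosed_of_isConstructible hR).exists_specializes_of_mem_closure hx.1
      have hzη : g (p z) = η :=
        (((hzx.map (p ≫ g).continuous).trans (specializes_of_eq e) : g (p z) ⤳ η).antisymm
          ((genericPoint_spec S).specializes (Set.mem_univ _))).eq
      have hr : ∀ w, g (p w) = η → w ∈ Set.range m := fun w hw => by
        rw [range_eX hm, Scheme.Hom.range_fiberι]
        exact hw
      obtain ⟨z', rfl⟩ := hr z hzη
      obtain ⟨x', rfl⟩ := hr x e
      haveI : IsPreimmersion m := MorphismProperty.of_isPullback hm.flip inferInstance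
      exact hx.2 ((hcl.stableUnderSpecialization
        (m.isEmbedding.isInducing.specializes_iff.1 hzx)) hz)
  obtain ⟨W₂, o₂, η₂, k₂⟩ := image_avoid (f ≫ g)
    (SpecLib.isConstructible_of_isOpen f.quasiFiniteLocus.2).compl fun x hx e => by
      refine hx ((locallyQuasiFinite_iff_range (isPullback_fiberMap f g η)).1 hq ?_)
      rw [Scheme.Hom.range_fiberι]
      exact e
  refine ⟨W₁ ∩ W₂, o₁.inter o₂, ⟨η₁, η₂⟩, fun V hV => ⟨?_, ?_⟩⟩
  · obtain ⟨m', hm', hΔ'⟩ := exists_diagonal_baseChange (isPullback_morphismRestrict f V).flip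
    rw [isSeparated_iff_isClosed_range, range_f' hΔ']
    convert (isClosed_closure (s := R)).preimage m'.continuous using 1
    refine Set.Subset.antisymm (fun z hz => subset_closure hz) fun z hz => by_contra fun hn => ?_
    have : p (m' z) ∈ V := by
      rw [← Scheme.Hom.comp_apply, hm'.w, Scheme.Hom.comp_apply]
      exact Subtype.coe_prop _
    exact k₁ (m' z) ⟨hz, hn⟩ (hV _ this).1
  · refine (locallyQuasiFinite_iff_range (isPullback_morphismRestrict f V).flip).2 fun x hx => by_contra fun hn => ?_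
    rw [Scheme.Opens.range_ι] at hx
    exact k₂ x hn (hV _ hx).2

/-- EGA IV 9.6.1: finite morphisms. -/
theorem isConsMor_isFinite : ConsProp.IsConsMor.{u} (fun X Y _T (f : X ⟶ Y) _ => IsFinite f) := by
  refine ⟨isFieldStableMor_of_descends (Q := @IsFinite) (fpqcDescends_of_descendsAlong EtFound.fpqc_isFinite),
    fun X Y S f g _ _ _ _ _ _ => ?_⟩
  let L : Set S := {s | IsFinite (MoreMor.fiberMap f g s)}
  change (interior L).Nonempty ∨ (interior Lᶜ).Nonempty
  haveI : IsLocallyNoetherian Y := LocallyOfFiniteType.isLocallyNoetherian g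
  haveI : CompactSpace Y := QuasiCompact.compactSpace_of_compactSpace g
  haveI : AlgebraicGeometry.IsNoetherian Y := {}
  haveI : LocallyOfFiniteType f := locallyOfFiniteType_of_comp f g
  haveI : QuasiCompact f := QuasiCompact.of_comp f g
  haveI : IsLocallyNoetherian X := LocallyOfFiniteType.isLocallyNoetherian f
  haveI : CompactSpace X := QuasiCompact.compactSpace_of_compactSpace f
  haveI : AlgebraicGeometry.IsNoetherian X := {}
  let η := genericPoint S
  have Lsep : IsConstructible {s : S | IsSeparated (MoreMor.fiberMap f g s)} :=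
    (isLocallyConstructible_separatedLocus f g).isConstructible
  have Lqf : IsConstructible {s : S | LocallyQuasiFinite (MoreMor.fiberMap f g s)} :=
    isConstructible_setOf_subset (f ≫ g) (SpecLib.isConstructible_of_isOpen f.quasiFiniteLocus.2) fun s => by
      refine (locallyQuasiFinite_iff_range (isPullback_fiberMap f g s)).trans ?_
      rw [Scheme.Hom.range_fiberι, Scheme.Hom.comp_base, TopCat.coe_comp, Set.preimage_comp]
      rfl
  by_cases hs : IsSeparated (MoreMor.fiberMap f g η)
  swap
  · exact .inr ((nhd_generic (A := _) Lsep.compl hs).mono (interior_mono fun s hs' hf => (show ¬ IsSeparated (MoreMor.fiberMap f g s) from hs') (by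
      haveI : IsFinite _ := hf; infer_instance)))
  by_cases hq : LocallyQuasiFinite (MoreMor.fiberMap f g η)
  swap
  · exact .inr ((nhd_generic (A := _) Lqf.compl hq).mono (interior_mono fun s hs' hf => (show ¬ LocallyQuasiFinite (MoreMor.fiberMap f g s) from hs') (by
      haveI : IsFinite _ := hf; exact inferInstanceAs (LocallyQuasiFinite (MoreMor.fiberMap f g s)))))
  obtain ⟨W, hW, hηW, hk⟩ := exists_nhd_separated_qf f g hs hq
  let U : Y.Opens := g ⁻¹ᵁ (⟨W, hW⟩ : S.Opens)
  obtain ⟨c, hcfin, hcU⟩ := isCompact_and_isOpen_iff_finite_and_eq_biUnion_affineOpens.1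
    ⟨TopologicalSpace.NoetherianSpace.isCompact (U : Set Y), U.2⟩
  haveI := hcfin.to_subtype
  let Lk : c → Set S := fun k => {s | IsFinite (MoreMor.fiberMap (f ∣_ k.1.1) (k.1.1.ι ≫ g) s)}
  have hLk : ∀ k, IsConstructible (Lk k) := fun k => by
    have hle : ∀ y ∈ k.1.1, g y ∈ W := fun y hy => hcU.ge (Set.mem_iUnion₂.2 ⟨k.1, k.2, hy⟩)
    obtain ⟨_, _⟩ := hk k.1.1 hle
    haveI : IsAffine (k.1.1 : Scheme.{u}) := k.1.2
    haveI : QuasiCompact (f ∣_ k.1.1) := inferInstance
    haveI : QuasiCompact (k.1.1.ι ≫ g) := inferInstance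
    exact isConstructible_finiteLocus_qf (f ∣_ k.1.1) (k.1.1.ι ≫ g)
  have hLW : ∀ s ∈ W, s ∈ L ↔ ∀ k, s ∈ Lk k := fun s hs' =>
    fiberMap_iff_forall_restrict (P := @IsFinite) f g s (fun k : c => k.1.1) fun y hy => by
      obtain ⟨k, hkc, hyk⟩ := Set.mem_iUnion₂.1 (hcU.le (show g y ∈ W from hy ▸ hs'))
      exact ⟨⟨k, hkc⟩, hyk⟩
  by_cases hη : ∀ k, η ∈ Lk k
  · refine .inl ((nhd_generic (A := W ∩ ⋂ k, Lk k) ?_ ⟨hηW, Set.mem_iInter.2 hη⟩).mono (interior_mono
      fun s hs' => (hLW s hs'.1).2 (Set.mem_iInter.1 hs'.2)))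
    exact (SpecLib.isConstructible_of_isOpen hW).inter (IsConstructible.iInter hLk)
  · obtain ⟨k, hk'⟩ := not_forall.1 hη
    exact .inr ((nhd_generic ((SpecLib.isConstructible_of_isOpen hW).inter (hLk k).compl) ⟨hηW, hk'⟩).mono
      (interior_mono fun s hs' hf => hs'.2 ((hLW s hs'.1).1 hf k)))

theorem isConsMor_and {P P' : ∀ ⦃X Y T : Scheme.{u}⦄, (X ⟶ Y) → (Y ⟶ T) → Prop}
    (h : ConsProp.IsConsMor P) (h' : ConsProp.IsConsMor P') :
    ConsProp.IsConsMor (fun X Y T (f : X ⟶ Y) (g : Y ⟶ T) => P f g ∧ P' f g) := by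
  refine ⟨fun X X' Y Y' T T' f g f' g' eX eY e _ _ _ _ _ _ _ _ sY sX =>
    and_congr (h.1 f g f' g' eX eY e sY sX) (h'.1 f g f' g' eX eY e sY sX),
    fun X Y S f g _ _ _ _ _ _ => dichotomy_of_isConstructible ?_⟩
  exact (isConstructible_locusMor h f g).inter (isConstructible_locusMor h' f g)

/-- EGA IV 9.6.1: closed immersions. -/
theorem isConsMor_isClosedImmersion :
    ConsProp.IsConsMor.{u} (fun X Y _T (f : X ⟶ Y) _ => IsClosedImmersion f) := by
  convert isConsMor_and isConsMor_isFinite isConsMor_mono using 1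
  funext X Y T f g
  exact propext (IsClosedImmersion.iff_isFinite_and_mono f)

end Groth.Agent.ConsPropLib
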