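import Groth.Agent.ConsPropLib.FibreMor
import Groth.Agent.MorLib.IndQA
import Groth.Agent.EtFound.Descent
import Groth.Agent.MorLib.DescendOpen

/-!
# Quasi-affine morphisms: locality, base change, descent along limits and along fpqc coverings
-/

set_option autoImplicit false
set_option linter.style.haveILetI false

open CategoryTheory CategoryTheory.Limits AlgebraicGeometry TopologicalSpace Groth.Agent.MorLib
  Groth.Agent.MorLib.Desc

namespace Groth.Agent.ConsPropLib

universe u

/-- Quasi-affine morphisms, as a morphism property. -/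
def qa : MorphismProperty Scheme.{u} := fun _ _ f => MoreMor.IsQuasiAffineHom f

instance hasAffineProperty_qa :
    HasAffineProperty qa.{u} (fun X _ _ _ => X.IsQuasiAffine) where
  eq_targetAffineLocally' := by
    ext X Y f
    refine ⟨fun h U => h.2 U.1 U.2, fun h => ⟨?_, fun V hV => h ⟨V, hV⟩⟩⟩
    refine quasiCompact_iff_forall_isAffineOpen.mpr fun U hU => ?_
    haveI : (f ⁻¹ᵁ U : Scheme.{u}).IsQuasiAffine := h ⟨U, hU⟩
    exact isCompact_iff_compactSpace.mpr (show CompactSpace ↥(f ⁻¹ᵁ U : Scheme.{u}) from inferInstance)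
  isLocal_affineProperty := by
    constructor
    · apply AffineTargetMorphismProperty.respectsIso_mk
      · intro X Y Z e _ _ H
        haveI : Y.IsQuasiAffine := H
        exact IQA.qa_of_iso e
      · exact fun _ _ _ => id
    · intro X Y _ f r H
      haveI : X.IsQuasiAffine := H
      haveI : (((⊤ : X.Opens)) : Scheme.{u}).IsQuasiAffine := IQA.qa_of_iso X.topIso
      refine IQA.qa_of_le le_top ?_
      rw [Scheme.preimage_basicOpen]
      exact isCompact_basicOpen _ isCompact_univ _
    · intro X Y _ f S hS hS'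
      have hS2 : Ideal.map f.appTop.hom (Ideal.span S) = ⊤ := by rw [hS, Ideal.map_top]
      rw [Ideal.map_span] at hS2
      have hcov : ⨆ r : S, f ⁻¹ᵁ Y.basicOpen r.1 = ⊤ := by
        rw [← Scheme.Hom.preimage_iSup, show (⨆ r : S, Y.basicOpen r.1) = ⊤ by
          simpa [iSup_subtype] using iSup_basicOpen_of_span_eq_top (X := Y) ⊤ S hS, Scheme.Hom.preimage_top]
      haveI : ∀ r : S, (f ⁻¹ᵁ Y.basicOpen r.1 : Scheme.{u}).IsQuasiAffine := hS'
      haveI : CompactSpace X := by
        rw [← isCompact_univ_iff, ← Opens.coe_top (α := X), ← hcov, Opens.coe_iSup]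
        exact isCompact_iUnion fun r => isCompact_iff_compactSpace.mpr
          (show CompactSpace ↥(f ⁻¹ᵁ Y.basicOpen r.1 : Scheme.{u}) from inferInstance)
      refine IQA.qa_of_basicOpen_cover X fun x => ?_
      obtain ⟨r, hr⟩ := Opens.mem_iSup.1 (hcov.ge (Set.mem_univ x))
      refine ⟨f.appTop r.1, by rwa [← Scheme.preimage_basicOpen_top], ?_⟩
      rw [← Scheme.preimage_basicOpen_top]
      infer_instance

theorem qa_iff_of_isAffine {X Y : Scheme.{u}} [IsAffine Y] (f : X ⟶ Y) : qa f ↔ X.IsQuasiAffine :=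
  HasAffineProperty.iff_of_isAffine (P := qa)

instance isStableUnderBaseChange_qa : MorphismProperty.IsStableUnderBaseChange qa.{u} := by
  haveI := (hasAffineProperty_qa.{u}).isLocal_affineProperty.1
  apply HasAffineProperty.isStableUnderBaseChange
  apply AffineTargetMorphismProperty.IsStableUnderBaseChange.mk
  introv _ _ hg
  haveI : Y.IsQuasiAffine := hg
  haveI : IsAffineHom (pullback.snd f g) := MorphismProperty.pullback_snd _ _ (isAffineHom_of_isAffine f)
  exact Scheme.IsQuasiAffine.of_isAffineHom (pullback.snd f g)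

instance isZariskiLocalAtTarget_qa : IsZariskiLocalAtTarget qa.{u} := inferInstance

theorem core_qa : Core qa.{u} (⊤ : MorphismProperty Scheme.{u}) := by
  intro I _ _ D c hc hD i hi X₀ f₀ _ _ _ h
  haveI : ∀ {i j : I} (f : i ⟶ j), IsAffineHom (D.map f) := fun {i j} f => hD i j f
  haveI : IsAffineHom (c.π.app i) := isAffineHom_π_app D c hc i
  haveI : IsAffine c.pt := isAffine_of_isAffineHom (c.π.app i)
  haveI : IsAffine (((Functor.const I).obj c.pt).obj i) := ‹IsAffine c.pt›
  have hX := IsPullback.of_hasPullback f₀ (c.π.app i)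
  haveI : (BC.cone D f₀ hX).pt.IsQuasiAffine := (qa_iff_of_isAffine (pullback.snd f₀ (c.π.app i))).1 h
  obtain ⟨j, hj⟩ := Scheme.exists_isQuasiAffine_of_isLimit (BC.diag D f₀) (BC.cone D f₀ hX)
    (BC.isLimitCone D f₀ hX hc)
  haveI : IsAffine (D.obj j.left) := isAffine_of_isAffineHom (D.map j.hom)
  exact ⟨j.left, j.hom, (qa_iff_of_isAffine _).2 hj⟩

set_option backward.isDefEq.respectTransparency.types false in
set_option backward.isDefEq.respectTransparency false in
/-- A quasi-compact quasi-separated scheme over an affine base that becomes quasi-affine after a faithfully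
flat affine base change is quasi-affine. -/
theorem isQuasiAffine_of_faithfullyFlat {R S : CommRingCat.{u}} {Y : Scheme.{u}} (φ : R ⟶ S) (g : Y ⟶ Spec R)
    [Flat (Spec.map φ)] [Surjective (Spec.map φ)] [CompactSpace Y] [QuasiSeparatedSpace Y]
    [(pullback (Spec.map φ) g).IsQuasiAffine] : Y.IsQuasiAffine := by
  have hq : (@Surjective ⊓ @Flat ⊓ @QuasiCompact : MorphismProperty Scheme.{u}) (Spec.map φ) :=
    ⟨⟨inferInstance, inferInstance⟩, inferInstance⟩
  let a := Y.toSpecΓ
  let b : Spec Γ(Y, ⊤) ⟶ Spec R := Spec.map ((Scheme.ΓSpecIso R).inv ≫ g.appTop)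
  have hab : a ≫ b = g := by
    simp only [a, b, Spec.map_comp]
    rw [← Category.assoc, ← Scheme.toSpecΓ_naturality, Category.assoc, ← SpecMap_ΓSpecIso_hom, ← Spec.map_comp]
    simp
  let q := pullback.snd (Spec.map φ) b
  let m : pullback (Spec.map φ) g ⟶ pullback (Spec.map φ) b :=
    pullback.lift (pullback.fst _ _) (pullback.snd _ _ ≫ a) (by rw [Category.assoc, hab, pullback.condition])
  have sqT : IsPullback q (pullback.fst (Spec.map φ) b) b (Spec.map φ) := (IsPullback.of_hasPullback _ _).flip
  have sqP : IsPullback (pullback.snd (Spec.map φ) g) (pullback.fst (Spec.map φ) g) g (Spec.map φ) :=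
    (IsPullback.of_hasPullback _ _).flip
  have poP := (isIso_pushoutSection_iff sqP (US := ⊤) (UT := ⊤) (UX := ⊤) (UY := ⊤) (by simp) (by simp)
    (by simp)).mp (isIso_pushoutSection_of_isQuasiSeparated_of_flat_right sqP _ _ _
      (isAffineOpen_top _) (isAffineOpen_top _) (by simpa using CompactSpace.isCompact_univ)
      (by simpa using isQuasiSeparated_univ))
  have poT := (isIso_pushoutSection_iff sqT (US := ⊤) (UT := ⊤) (UX := ⊤) (UY := ⊤) (by simp) (by simp)
    (by simp)).mp (isIso_pushoutSection_of_isAffineOpen sqT _ _ _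
      (isAffineOpen_top _) (isAffineOpen_top _) (isAffineOpen_top _))
  simp only [Scheme.Hom.appLE, TopologicalSpace.Opens.map_top, homOfLE_refl, op_id, CategoryTheory.Functor.map_id, Category.comp_id] at poP poT
  have : IsIso a.appTop := by simp only [a, Scheme.toSpecΓ_appTop]; infer_instance
  have hm : IsIso m.appTop := by
    have poP' : IsPushout b.appTop (Spec.map φ).appTop (a.appTop ≫ (pullback.snd (Spec.map φ) g).appTop)
        (pullback.fst (Spec.map φ) g).appTop := by
      refine poP.of_iso (Iso.refl _) (asIso a.appTop).symm (Iso.refl _) (Iso.refl _) ?_ (by simp) (by simp) (by simp)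
      simp only [Iso.symm_hom, asIso_inv, Iso.refl_hom, Category.id_comp, IsIso.comp_inv_eq]
      exact (congrArg Scheme.Hom.appTop hab).symm.trans (Scheme.Hom.comp_appTop a b)
    have : m.appTop = (poT.isoIsPushout _ _ poP').hom := by
      apply poT.hom_ext <;> simp only [IsPushout.inl_isoIsPushout_hom, IsPushout.inr_isoIsPushout_hom,
        ← Scheme.Hom.comp_appTop] <;> congr 1 <;> simp [m, q]
    rw [this]; infer_instance
  haveI : IsAffine (pullback (Spec.map φ) b) := inferInstance
  haveI hopen : IsOpenImmersion m := by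
    have : m = (pullback (Spec.map φ) g).toSpecΓ ≫ Spec.map m.appTop ≫ (pullback (Spec.map φ) b).isoSpec.inv := by
      rw [← Category.assoc, ← Scheme.toSpecΓ_naturality, Category.assoc, Scheme.toSpecΓ_isoSpec_inv, Category.comp_id]
    rw [this]; infer_instance
  have sq : IsPullback (pullback.snd (Spec.map φ) g) m a q := by
    refine IsPullback.of_bot ?_ (by simp [m, q]) sqT
    rw [hab, show m ≫ pullback.fst (Spec.map φ) b = pullback.fst (Spec.map φ) g by simp [m]]
    exact sqP
  haveI : IsOpenImmersion a := MorphismProperty.of_isPullback_of_descendsAlong (P := @IsOpenImmersion)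
    (Q := (@Surjective ⊓ @Flat ⊓ @QuasiCompact : MorphismProperty Scheme.{u})) sq.flip
    (MorphismProperty.pullback_snd _ _ hq) hopen
  exact Scheme.IsQuasiAffine.of_isImmersion a

theorem quasiSeparated_of_qa {X Y : Scheme.{u}} (f : X ⟶ Y) (h : qa f) : QuasiSeparated f := by
  refine IsZariskiLocalAtTarget.of_iSup_eq_top (P := @QuasiSeparated) (fun U : Y.affineOpens => U.1)
    (iSup_affineOpens_eq_top Y) fun U => ?_
  haveI : IsAffine (U.1 : Scheme.{u}) := U.2
  haveI : (f ⁻¹ᵁ U.1 : Scheme.{u}).IsQuasiAffine := h.2 U.1 U.2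
  exact QuasiSeparated.of_quasiSeparatedSpace _

theorem fpqc_qa :
    qa.{u}.DescendsAlong (@Surjective ⊓ @Flat ⊓ @QuasiCompact : MorphismProperty Scheme.{u}) := by
  have := EtFound.fpqc_quasiCompact.{u}
  have := EtFound.fpqc_quasiSeparated.{u}
  apply IsZariskiLocalAtTarget.descendsAlong_inf_quasiCompact
  · rw [inf_comm]
    exact inf_le_inf le_rfl (IsLocalIso.le_of_isZariskiLocalAtSource _)
  intro R S Y φ g h hfst
  obtain ⟨_, _⟩ := h
  have hq : (@Surjective ⊓ @Flat ⊓ @QuasiCompact : MorphismProperty Scheme.{u}) (Spec.map φ) :=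
    ⟨⟨inferInstance, inferInstance⟩, inferInstance⟩
  have : QuasiCompact g := MorphismProperty.of_pullback_fst_of_descendsAlong (P := @QuasiCompact) hq hfst.1
  have : QuasiSeparated g := MorphismProperty.of_pullback_fst_of_descendsAlong (P := @QuasiSeparated) hq
    (quasiSeparated_of_qa _ hfst)
  have : CompactSpace Y := (quasiCompact_iff_compactSpace g).mp inferInstance
  have : QuasiSeparatedSpace Y := (quasiSeparated_iff_quasiSeparatedSpace g).mp inferInstance
  haveI : (pullback (Spec.map φ) g).IsQuasiAffine := (qa_iff_of_isAffine (pullback.fst (Spec.map φ) g)).1 hfst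
  exact (qa_iff_of_isAffine g).2 (isQuasiAffine_of_faithfullyFlat φ g)

theorem isIndConsMor_qa : ConsProp.IsIndConsMor.{u} (fun X Y _T (f : X ⟶ Y) _ => MoreMor.IsQuasiAffineHom f) :=
  isIndConsMor_of_core (Q := qa) (Q' := ⊤) core_qa (fun _ _ => trivial) (fpqcDescends_of_descendsAlong fpqc_qa)

end Groth.Agent.ConsPropLib
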