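import Mathlib.AlgebraicGeometry.Limits
import Mathlib.AlgebraicGeometry.Cover.Open
import Mathlib.AlgebraicGeometry.PullbackCarrier
import Mathlib.AlgebraicGeometry.Morphisms.UnderlyingMap

/-!
# Gluing two schemes along open subschemes, and base change
-/

set_option autoImplicit false
set_option linter.style.haveILetI false

open CategoryTheory CategoryTheory.Limits AlgebraicGeometry Topology

namespace Groth.Agent.ConsPropLib

universe u

/-- The union of two schemes along a common open subscheme. -/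
theorem exists_union {Z U V : Scheme.{u}} (a : Z ⟶ U) (b : Z ⟶ V) [IsOpenImmersion a] [IsOpenImmersion b] :
    ∃ (P : Scheme.{u}) (iU : U ⟶ P) (iV : V ⟶ P), IsOpenImmersion iU ∧ IsOpenImmersion iV ∧
      IsPushout a b iU iV ∧ (∀ p : P, (∃ x, iU x = p) ∨ ∃ y, iV y = p) ∧
      ∀ x y, iU x = iV y → ∃ z, a z = x ∧ b z = y := by
  refine ⟨pushout a b, pushout.inl a b, pushout.inr a b,
    inferInstanceAs (IsOpenImmersion (colimit.ι (span a b) WalkingSpan.left)),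
    inferInstanceAs (IsOpenImmersion (colimit.ι (span a b) WalkingSpan.right)),
    IsPushout.of_hasPushout a b, fun p => ?_, fun x y h => ?_⟩
  · obtain ⟨k, xk, hk⟩ := Scheme.IsLocallyDirected.ι_jointly_surjective (span a b) p
    rcases k with (_ | _ | _)
    · refine .inl ⟨a xk, ?_⟩
      rw [← hk, ← colimit.w (span a b) WalkingSpan.Hom.fst]
      rfl
    · exact .inl ⟨xk, hk⟩
    · exact .inr ⟨xk, hk⟩
  · obtain ⟨k, fi, fj, z, hi, hj⟩ := (Scheme.IsLocallyDirected.ι_eq_ι_iff (span a b)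
      (i := WalkingSpan.left) (j := WalkingSpan.right)).1 h
    rcases k with (_ | _ | _)
    · cases fi
      cases fj
      exact ⟨z, hi, hj⟩
    · exact nomatch fj
    · exact nomatch fi

/-- Morphisms glue along two opens. -/
theorem exists_hom_of_cover {X Y : Scheme.{u}} (U V : X.Opens) (hcov : ∀ x, x ∈ U ∨ x ∈ V)
    (f₁ : (U : Scheme.{u}) ⟶ Y) (f₂ : (V : Scheme.{u}) ⟶ Y)
    (h : X.homOfLE (inf_le_left : U ⊓ V ≤ U) ≫ f₁ = X.homOfLE (inf_le_right : U ⊓ V ≤ V) ≫ f₂) :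
    ∃ g : X ⟶ Y, U.ι ≫ g = f₁ ∧ V.ι ≫ g = f₂ := by
  let W : ULift.{u} Bool → X.Opens := fun b => bif b.down then U else V
  have hW : iSup W = ⊤ := eq_top_iff.2 fun x _ => by
    rcases hcov x with hx | hx
    · exact TopologicalSpace.Opens.mem_iSup.2 ⟨⟨true⟩, hx⟩
    · exact TopologicalSpace.Opens.mem_iSup.2 ⟨⟨false⟩, hx⟩
  let 𝒰 : X.OpenCover := X.openCoverOfIsOpenCover W hW
  let φ : ∀ b : ULift.{u} Bool, (W b : Scheme.{u}) ⟶ Y := fun b => match b with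
    | ⟨true⟩ => f₁
    | ⟨false⟩ => f₂
  have key : ∀ {P : Scheme.{u}} (p : P ⟶ (U : Scheme.{u})) (q : P ⟶ (V : Scheme.{u})), p ≫ U.ι = q ≫ V.ι →
      p ≫ f₁ = q ≫ f₂ := fun {P} p q e => by
    have hr : Set.range (p ≫ U.ι) ⊆ Set.range (U ⊓ V : X.Opens).ι := by
      rw [Scheme.Opens.range_ι]
      rintro _ ⟨t, rfl⟩
      exact ⟨(p t).2, e ▸ (q t).2⟩
    let l := IsOpenImmersion.lift (U ⊓ V : X.Opens).ι (p ≫ U.ι) hr
    have hl : l ≫ (U ⊓ V : X.Opens).ι = p ≫ U.ι := IsOpenImmersion.lift_fac _ _ _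
    have h1 : l ≫ X.homOfLE (inf_le_left : U ⊓ V ≤ U) = p := by
      rw [← cancel_mono U.ι, Category.assoc, Scheme.homOfLE_ι, hl]
    have h2 : l ≫ X.homOfLE (inf_le_right : U ⊓ V ≤ V) = q := by
      rw [← cancel_mono V.ι, Category.assoc, Scheme.homOfLE_ι, hl, e]
    rw [← h1, ← h2, Category.assoc, Category.assoc, h]
  refine ⟨𝒰.glueMorphisms φ ?_, 𝒰.ι_glueMorphisms φ _ ⟨true⟩, 𝒰.ι_glueMorphisms φ _ ⟨false⟩⟩
  rintro ⟨_ | _⟩ ⟨_ | _⟩
  · exact congrArg (· ≫ f₂) ((cancel_mono V.ι).1 pullback.condition)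
  · exact (key _ _ pullback.condition.symm).symm
  · exact key _ _ pullback.condition
  · exact congrArg (· ≫ f₁) ((cancel_mono U.ι).1 pullback.condition)

/-- Being cartesian is checked on two opens. -/
theorem isPullback_union {X T Z S Ui Vi : Scheme.{u}} {g : X ⟶ Z} {f : X ⟶ T} {z : Z ⟶ S} {π : T ⟶ S}
    (w : g ≫ z = f ≫ π) (iU : Ui ⟶ Z) (iV : Vi ⟶ Z) [IsOpenImmersion iU] [IsOpenImmersion iV]
    (hcov : ∀ p : Z, (∃ x, iU x = p) ∨ ∃ y, iV y = p) (U V : X.Opens)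
    (gu : (U : Scheme.{u}) ⟶ Ui) (gv : (V : Scheme.{u}) ⟶ Vi)
    (hu : gu ≫ iU = U.ι ≫ g) (hv : gv ≫ iV = V.ι ≫ g)
    (sqU : IsPullback gu (U.ι ≫ f) (iU ≫ z) π) (sqV : IsPullback gv (V.ι ≫ f) (iV ≫ z) π)
    (hU : ∀ x, g x ∈ Set.range iU → x ∈ U) (hV : ∀ x, g x ∈ Set.range iV → x ∈ V) :
    IsPullback g f z π := by
  let ℓ := pullback.lift g f w
  have h₁ : ℓ ≫ pullback.fst z π = g := pullback.lift_fst _ _ _
  have loc : ∀ {Wi : Scheme.{u}} (i : Wi ⟶ Z) [IsOpenImmersion i] (W : X.Opens) (gw : (W : Scheme.{u}) ⟶ Wi),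
      gw ≫ i = W.ι ≫ g → IsPullback gw (W.ι ≫ f) (i ≫ z) π → (∀ x, g x ∈ Set.range i → x ∈ W) →
      IsOpenImmersion (W.ι ≫ ℓ) ∧ (∀ x, g x ∈ Set.range i → x ∈ W) ∧
        Set.range (W.ι ≫ ℓ) = (pullback.fst z π) ⁻¹' Set.range i := by
    intro Wi i _ W gw hw sq hW
    let m : pullback (i ≫ z) π ⟶ pullback z π := pullback.map (i ≫ z) π z π i (𝟙 _) (𝟙 _) (by simp) (by simp)
    have e : W.ι ≫ ℓ = sq.isoPullback.hom ≫ m := by
      apply pullback.hom_ext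
      · rw [Category.assoc, h₁, Category.assoc, pullback.lift_fst, sq.isoPullback_hom_fst_assoc, hw]
      · rw [Category.assoc, pullback.lift_snd, Category.assoc, pullback.lift_snd, Category.comp_id,
          sq.isoPullback_hom_snd]
    haveI : IsOpenImmersion m := inferInstance
    refine ⟨e ▸ inferInstance, hW, ?_⟩
    rw [e, Scheme.Hom.comp_base, TopCat.coe_comp, Set.range_comp,
      (show Set.range sq.isoPullback.hom = Set.univ from sq.isoPullback.hom.homeomorph.surjective.range_eq),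
      Set.image_univ, Scheme.Pullback.range_map]
    simp
  obtain ⟨oU, mU, rU⟩ := loc iU U gu hu sqU hU
  obtain ⟨oV, mV, rV⟩ := loc iV V gv hv sqV hV
  have hg : ∀ x, g x = pullback.fst z π (ℓ x) := fun x => by rw [← Scheme.Hom.comp_apply, h₁]
  have hinj : Function.Injective ℓ := fun x y e => by
    have eg : g x = g y := by rw [hg, hg, e]
    rcases hcov (g x) with ⟨p, hp⟩ | ⟨p, hp⟩
    · exact congrArg U.ι ((U.ι ≫ ℓ).isOpenEmbedding.injective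
        (a₁ := ⟨x, hU x ⟨p, hp⟩⟩) (a₂ := ⟨y, hU y ⟨p, hp.trans eg⟩⟩) e)
    · exact congrArg V.ι ((V.ι ≫ ℓ).isOpenEmbedding.injective
        (a₁ := ⟨x, hV x ⟨p, hp⟩⟩) (a₂ := ⟨y, hV y ⟨p, hp.trans eg⟩⟩) e)
  have hcovX : ∀ x, x ∈ U ∨ x ∈ V := fun x => (hcov (g x)).imp (fun ⟨p, hp⟩ => hU x ⟨p, hp⟩) fun ⟨p, hp⟩ => hV x ⟨p, hp⟩
  have hopen : IsOpenMap ℓ := fun O hO => by
    have : ℓ '' O = (U.ι ≫ ℓ) '' (U.ι ⁻¹' O) ∪ (V.ι ≫ ℓ) '' (V.ι ⁻¹' O) := by
      ext p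
      constructor
      · rintro ⟨x, hx, rfl⟩
        exact (hcovX x).imp (fun h => ⟨⟨x, h⟩, hx, rfl⟩) fun h => ⟨⟨x, h⟩, hx, rfl⟩
      · rintro (⟨x, hx, rfl⟩ | ⟨x, hx, rfl⟩) <;> exact ⟨_, hx, rfl⟩
    rw [this]
    exact ((U.ι ≫ ℓ).isOpenEmbedding.isOpenMap _ (hO.preimage U.ι.continuous)).union
      ((V.ι ≫ ℓ).isOpenEmbedding.isOpenMap _ (hO.preimage V.ι.continuous))
  haveI : IsOpenImmersion ℓ := by
    haveI : ∀ x, IsIso (ℓ.stalkMap x) := fun x => by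
      have key : ∀ (W : X.Opens), IsOpenImmersion (W.ι ≫ ℓ) → ∀ w : (W : Scheme.{u}), IsIso (ℓ.stalkMap (W.ι w)) :=
        fun W hW w => by
          haveI := hW
          have h2 : IsIso (ℓ.stalkMap (W.ι w) ≫ W.ι.stalkMap w) := by
            rw [← Scheme.Hom.stalkMap_comp]
            exact (IsOpenImmersion.iff_isIso_stalkMap.1 hW).2 w
          exact IsIso.of_isIso_comp_right (ℓ.stalkMap (W.ι w)) (W.ι.stalkMap w)
      rcases hcovX x with h | h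
      · exact key U oU ⟨x, h⟩
      · exact key V oV ⟨x, h⟩
    exact IsOpenImmersion.of_isIso_stalkMap _ (IsOpenEmbedding.of_continuous_injective_isOpenMap ℓ.continuous hinj hopen)
  haveI : Surjective ℓ := ⟨fun p => by
    rcases hcov (pullback.fst z π p) with ⟨q, hq⟩ | ⟨q, hq⟩
    · obtain ⟨w, rfl⟩ := rU.ge ⟨q, hq⟩
      exact ⟨_, rfl⟩
    · obtain ⟨w, rfl⟩ := rV.ge ⟨q, hq⟩
      exact ⟨_, rfl⟩⟩
  haveI : Epi ℓ.base := (TopCat.epi_iff_surjective _).2 ℓ.surjective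
  haveI : IsIso ℓ := (isIso_iff_isOpenImmersion_and_epi_base ℓ).2 ⟨inferInstance, inferInstance⟩
  exact IsPullback.of_iso_pullback ⟨w⟩ (asIso ℓ) h₁ (pullback.lift_snd _ _ _)

end Groth.Agent.ConsPropLib
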