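import Mathlib.Topology.QuasiSeparated
import Mathlib.Topology.Spectral.Prespectral

/-!
# Quasi-separatedness of a union of two opens
-/

set_option autoImplicit false

open TopologicalSpace Topology

namespace Groth.Agent.ConsPropLib

universe u

variable {α : Type u} [TopologicalSpace α] [PrespectralSpace α]

theorem quasiSeparatedSpace_union {P Q : Set α} (hP : IsOpen P) (hQ : IsOpen Q)
    (hcov : ∀ x, x ∈ P ∨ x ∈ Q) (hPqs : IsQuasiSeparated P) (hQqs : IsQuasiSeparated Q)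
    (hPQ : IsCompact (P ∩ Q)) : QuasiSeparatedSpace α := by
  have key : ∀ (P Q : Set α), IsOpen P → IsOpen Q → (∀ x, x ∈ P ∨ x ∈ Q) → IsQuasiSeparated Q →
      IsCompact (P ∩ Q) → ∀ A : Set α, IsOpen A → IsCompact A → IsCompact (A ∩ P) := by
    intro P Q hP hQ hcov hQqs hPQ A hA hAc
    have : ∀ x ∈ A, ∃ K : Set α, IsOpen K ∧ IsCompact K ∧ x ∈ K ∧ K ⊆ A ∧ (K ⊆ P ∨ K ⊆ Q) := fun x hx => by
      rcases hcov x with h | h
      · obtain ⟨K, hK, hxK, hKsub⟩ := PrespectralSpace.isTopologicalBasis.exists_subset_of_mem_open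
          (show x ∈ A ∩ P from ⟨hx, h⟩) (hA.inter hP)
        exact ⟨K, hK.1, hK.2, hxK, hKsub.trans Set.inter_subset_left, .inl (hKsub.trans Set.inter_subset_right)⟩
      · obtain ⟨K, hK, hxK, hKsub⟩ := PrespectralSpace.isTopologicalBasis.exists_subset_of_mem_open
          (show x ∈ A ∩ Q from ⟨hx, h⟩) (hA.inter hQ)
        exact ⟨K, hK.1, hK.2, hxK, hKsub.trans Set.inter_subset_left, .inr (hKsub.trans Set.inter_subset_right)⟩
    choose K hKo hKc hxK hKA hKPQ using this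
    obtain ⟨t, ht⟩ := hAc.elim_finite_subcover (fun x : A => K x x.2) (fun x => hKo x x.2)
      (fun x hx => Set.mem_iUnion.2 ⟨⟨x, hx⟩, hxK x hx⟩)
    have he : A ∩ P = ⋃ x ∈ t, K x.1 x.2 ∩ P := Set.Subset.antisymm
      (fun z hz => by
        obtain ⟨x, hx, hzx⟩ := Set.mem_iUnion₂.1 (ht hz.1)
        exact Set.mem_iUnion₂.2 ⟨x, hx, hzx, hz.2⟩)
      (Set.iUnion₂_subset fun x _ => Set.inter_subset_inter_left _ (hKA _ _))
    rw [he]
    refine t.finite_toSet.isCompact_biUnion fun x _ => ?_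
    rcases hKPQ x x.2 with h | h
    · rw [Set.inter_eq_left.2 h]; exact hKc _ _
    · rw [show K x.1 x.2 ∩ P = K x.1 x.2 ∩ (P ∩ Q) from
        Set.ext fun z => ⟨fun hz => ⟨hz.1, hz.2, h hz.1⟩, fun hz => ⟨hz.1, hz.2.1⟩⟩]
      exact hQqs _ _ h (hKo _ _) (hKc _ _) Set.inter_subset_right (hP.inter hQ) hPQ
  refine ⟨fun A B hA hAc hB hBc => ?_⟩
  have hAP := key P Q hP hQ hcov hQqs hPQ
  have hAQ := key Q P hQ hP (fun x => (hcov x).symm) hPqs (by rwa [Set.inter_comm])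
  have he : A ∩ B = ((A ∩ P) ∩ (B ∩ P)) ∪ ((A ∩ Q) ∩ (B ∩ Q)) := by
    ext z
    exact ⟨fun hz => (hcov z).imp (fun h => ⟨⟨hz.1, h⟩, hz.2, h⟩) (fun h => ⟨⟨hz.1, h⟩, hz.2, h⟩),
      fun hz => hz.elim (fun h => ⟨h.1.1, h.2.1⟩) fun h => ⟨h.1.1, h.2.1⟩⟩
  rw [he]
  exact (hPqs _ _ Set.inter_subset_right (hA.inter hP) (hAP A hA hAc) Set.inter_subset_right
      (hB.inter hP) (hAP B hB hBc)).union
    (hQqs _ _ Set.inter_subset_right (hA.inter hQ) (hAQ A hA hAc) Set.inter_subset_right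
      (hB.inter hQ) (hAQ B hB hBc))

end Groth.Agent.ConsPropLib
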