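import Groth.Agent.ConsPropLib.Model
import Groth.Agent.ConsPropLib.Union
import Groth.Agent.ConsPropLib.UnionQS
import Groth.Agent.S9218
import Groth.Agent.S4805
import Mathlib.RingTheory.Extension.Presentation.Core

/-!
# Finitely presented schemes over a limit descend to a stage
-/

set_option autoImplicit false
set_option linter.style.haveILetI false

open CategoryTheory CategoryTheory.Limits AlgebraicGeometry Groth.Agent.MorLib

namespace Groth.Agent.ConsPropLib

universe u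

/-! ### Generalities on models -/

section

variable {I : Type u} [SmallCategory I] {D : I ⥤ Scheme.{u}} {c : Cone D}
  {X : Scheme.{u}} {f : X ⟶ c.pt} {i : I} {Xi : Scheme.{u}} {fi : Xi ⟶ D.obj i} {g : X ⟶ Xi}

/-- The model restricted to an open immersion. -/
theorem IsModel.restrict_hom (h : IsModel f i fi g) [QuasiSeparatedSpace (D.obj i)]
    {Y : Scheme.{u}} (a : Y ⟶ X) [IsOpenImmersion a] {W : Xi.Opens} (hW : IsCompact (W : Set Xi))
    (e : g ⁻¹ᵁ W = a.opensRange) :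
    ∃ gW : Y ⟶ (W : Scheme.{u}), gW ≫ W.ι = a ≫ g ∧ IsModel (a ≫ f) i (W.ι ≫ fi) gW := by
  haveI := h.lfp; haveI := h.qc; haveI := h.qs
  haveI := h.quasiSeparatedSpace
  haveI : CompactSpace (W : Scheme.{u}) := isCompact_iff_compactSpace.1 hW
  have hr : Set.range (a ≫ g) ⊆ Set.range W.ι := by
    rw [Scheme.Opens.range_ι]
    rintro _ ⟨y, rfl⟩
    have : a y ∈ g ⁻¹ᵁ W := e ▸ ⟨y, rfl⟩
    exact this
  let gW := IsOpenImmersion.lift W.ι (a ≫ g) hr
  have hgW : gW ≫ W.ι = a ≫ g := IsOpenImmersion.lift_fac _ _ _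
  refine ⟨gW, hgW, inferInstance, quasiCompact_of_compactSpace _, inferInstance, ?_⟩
  exact (IsOpenImmersion.isPullback gW a W.ι g hgW.symm (by rw [Scheme.Opens.opensRange_ι, e])).paste_vert h.sq

theorem HasModel.of_eq {f' : X ⟶ c.pt} (h : HasModel f) (e : f = f') : HasModel f' := e ▸ h

end

/-! ### The affine case -/

/-- A finitely presented algebra whose coefficients come from `R₀` is a pushout from `R₀`. -/
theorem exists_isPushout_of_coeffs {R₀ R S : CommRingCat.{u}} (φ : R₀ ⟶ R) (ψ : R ⟶ S) {ι σ : Type}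
    [Finite ι] [Finite σ] (P : letI := ψ.hom.toAlgebra; Algebra.Presentation R S ι σ)
    (h : letI := ψ.hom.toAlgebra; P.coeffs ⊆ Set.range φ.hom) :
    ∃ (S₀ : CommRingCat.{u}) (χ : R₀ ⟶ S₀) (ρ : S₀ ⟶ S), χ.hom.FinitePresentation ∧
      IsPushout φ χ ψ ρ := by
  letI := ψ.hom.toAlgebra
  letI : Algebra R₀ R := φ.hom.toAlgebra
  letI : Algebra R₀ S := (ψ.hom.comp φ.hom).toAlgebra
  haveI : IsScalarTower R₀ R S := IsScalarTower.of_algebraMap_eq fun _ => rfl
  haveI : P.HasCoeffs R₀ := ⟨h⟩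
  let e := P.tensorModelOfHasCoeffsEquiv R₀
  refine ⟨CommRingCat.of (P.ModelOfHasCoeffs R₀), CommRingCat.ofHom (algebraMap R₀ _),
    CommRingCat.ofHom (e.toRingHom.comp Algebra.TensorProduct.includeRight.toRingHom),
    RingHom.finitePresentation_algebraMap.2 inferInstance, ?_⟩
  refine (CommRingCat.isPushout_tensorProduct R₀ R (P.ModelOfHasCoeffs R₀)).of_iso
    (Iso.refl _) (Iso.refl _) (Iso.refl _) e.toRingEquiv.toCommRingCatIso ?_ ?_ ?_ ?_
  · rfl
  · rfl
  · ext r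
    exact e.commutes r
  · rfl

/-- The affine case. -/
theorem hasModel_of_isAffine {J : Type u} [SmallCategory J] [IsCofiltered J] {E : J ⥤ Scheme.{u}}
    {e : Cone E} (he : IsLimit e) [∀ j, IsAffine (E.obj j)] {U : Scheme.{u}} [IsAffine U] (h : U ⟶ e.pt)
    [LocallyOfFinitePresentation h] : HasModel h := by
  classical
  haveI : IsAffine e.pt := Scheme.isAffine_of_isLimit _ he
  have hfp : h.appTop.hom.FinitePresentation :=
    (HasRingHomProperty.iff_of_isAffine (P := @LocallyOfFinitePresentation)).1 inferInstance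
  letI := h.appTop.hom.toAlgebra
  haveI : Algebra.FinitePresentation Γ(e.pt, ⊤) Γ(U, ⊤) := hfp
  let P := Algebra.Presentation.ofFinitePresentation Γ(e.pt, ⊤) Γ(U, ⊤)
  have lift : ∀ r : Γ(e.pt, ⊤), ∃ (i : J) (t : Γ(E.obj i, ⊤)), (e.π.app i).appTop t = r :=
    fun r => exists_appTop_π_eq_of_isAffine_of_isLimit _ _ he r
  choose st t ht using lift
  obtain ⟨j, hj⟩ := IsCofiltered.inf_objs_exists (P.finite_coeffs.toFinset.image st)
  have hcoe : P.coeffs ⊆ Set.range (e.π.app j).appTop.hom := fun r hr => by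
    let φ := (@hj (st r) (Finset.mem_image.2 ⟨r, P.finite_coeffs.mem_toFinset.2 hr, rfl⟩)).some
    refine ⟨(E.map φ).appTop (t r), ?_⟩
    have := ht r
    rw [← e.w φ] at this
    simpa [-Cone.w] using this
  obtain ⟨S₀, χ, ρ, hχ, hpo⟩ := exists_isPushout_of_coeffs (e.π.app j).appTop h.appTop P hcoe
  haveI : LocallyOfFinitePresentation (Spec.map χ) :=
    (HasRingHomProperty.Spec_iff (P := @LocallyOfFinitePresentation)).2 hχ
  let π : e.pt ⟶ E.obj j := e.π.app j
  have sq : IsPullback (U.toSpecΓ ≫ Spec.map ρ) h (Spec.map χ ≫ (E.obj j).isoSpec.inv) π :=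
    (isPullback_SpecMap_of_isPushout _ _ _ _ hpo).flip.of_iso U.isoSpec.symm (Iso.refl _) e.pt.isoSpec.symm
      (E.obj j).isoSpec.symm (by simp [Scheme.isoSpec_hom]) (by
        rw [Iso.symm_hom, Iso.symm_hom, Scheme.isoSpec_inv_naturality])
      (by simp) (Scheme.isoSpec_inv_naturality π)
  exact ⟨j, Spec S₀, _, _, inferInstance, inferInstance, inferInstance, sq⟩

section

variable {I : Type u} [SmallCategory I] [IsCofiltered I] {D : I ⥤ Scheme.{u}} {c : Cone D} (hc : IsLimit c)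
  [∀ {i j} (f : i ⟶ j), IsAffineHom (D.map f)] [∀ i, CompactSpace (D.obj i)]
  [∀ i, QuasiSeparatedSpace (D.obj i)]
  {X : Scheme.{u}} {f : X ⟶ c.pt}

include hc

set_option backward.isDefEq.respectTransparency.types false in
/-- The local case. -/
theorem hasModel_of_le [LocallyOfFinitePresentation f] {U : X.Opens} (hU : IsAffineOpen U) {i : I}
    {V : (D.obj i).Opens} (hV : IsAffineOpen V) (hUV : U ≤ f ⁻¹ᵁ c.π.app i ⁻¹ᵁ V) :
    HasModel (U.ι ≫ f) := by
  haveI : ∀ j : Over i, IsAffine ((opensDiagram D i V).obj j) := fun j => hV.preimage _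
  haveI : IsAffine (U : Scheme.{u}) := hU
  let V' : c.pt.Opens := c.π.app i ⁻¹ᵁ V
  haveI : IsOpenImmersion (c.π.app i ⁻¹ᵁ V).ι := inferInstanceAs (IsOpenImmersion V'.ι)
  let h : (U : Scheme.{u}) ⟶ (opensCone D c i V).pt := f.resLE (c.π.app i ⁻¹ᵁ V) U hUV
  haveI : LocallyOfFinitePresentation h := IsZariskiLocalAtSource.resLE hUV inferInstance
  obtain ⟨j, Z, z, gz, hm⟩ := hasModel_of_isAffine (isLimitOpensCone D c hc i V) h
  haveI := hm.lfp; haveI := hm.qc; haveI := hm.qs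
  haveI : CompactSpace Z := hm.compactSpace
  haveI : QuasiSeparatedSpace Z := hm.quasiSeparatedSpace
  let Vj : (D.obj j.left).Opens := D.map j.hom ⁻¹ᵁ V
  let πj : c.pt ⟶ D.obj j.left := c.π.app j.left
  have hle : V' ≤ πj ⁻¹ᵁ Vj := by
    show c.π.app i ⁻¹ᵁ V ≤ c.π.app j.left ⁻¹ᵁ D.map j.hom ⁻¹ᵁ V
    rw [← Scheme.Hom.comp_preimage, c.w]
  have key : IsPullback (πj.resLE Vj V' hle) V'.ι Vj.ι πj := by
    refine IsOpenImmersion.isPullback _ _ _ _ (Scheme.Hom.resLE_comp_ι _ _).symm ?_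
    rw [Scheme.Opens.opensRange_ι, Scheme.Opens.opensRange_ι]
    show c.π.app j.left ⁻¹ᵁ D.map j.hom ⁻¹ᵁ V = c.π.app i ⁻¹ᵁ V
    rw [← Scheme.Hom.comp_preimage, c.w]
  let z' : Z ⟶ (Vj : Scheme.{u}) := z
  haveI : LocallyOfFinitePresentation z' := hm.lfp
  let h' : (U : Scheme.{u}) ⟶ (V' : Scheme.{u}) := f.resLE V' U hUV
  have sq0 : IsPullback gz h' z' (πj.resLE Vj V' hle) := hm.sq
  refine ⟨j.left, Z, z' ≫ Vj.ι, gz, inferInstance, quasiCompact_of_compactSpace _, inferInstance, ?_⟩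
  have := sq0.paste_vert key
  rwa [Scheme.Hom.resLE_comp_ι] at this

/-- An open of the source comes from a later stage. -/
theorem IsModel.exists_open {i : I} {Xi : Scheme.{u}} {fi : Xi ⟶ D.obj i} {g : X ⟶ Xi}
    (h : IsModel f i fi g) (U : X.Opens) (hU : IsCompact (U : Set X)) :
    ∃ (j : I) (φ : j ⟶ i) (W : (pullback fi (D.map φ)).Opens),
      IsCompact (W : Set (pullback fi (D.map φ) : Scheme.{u})) ∧ h.push φ ⁻¹ᵁ W = U := by
  haveI := h.compactSpace
  haveI := h.quasiSeparatedSpace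
  obtain ⟨j, W, hW, e⟩ := exists_preimage_eq (BC.diag D fi) (BC.cone D fi h.sq)
    (BC.isLimitCone D fi h.sq hc) U hU
  exact ⟨j.left, j.hom, W, hW, e⟩

/-- Two models of the same morphism agree at a later stage. -/
theorem exists_iso_models {W : Scheme.{u}} {h : W ⟶ c.pt} {i : I} {A B : Scheme.{u}} {a : A ⟶ D.obj i}
    {b : B ⟶ D.obj i} {ga : W ⟶ A} {gb : W ⟶ B} (ha : IsModel h i a ga) (hb : IsModel h i b gb) :
    ∃ (j : I) (ψ : j ⟶ i) (θ : pullback a (D.map ψ) ≅ pullback b (D.map ψ)),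
      θ.hom ≫ pullback.snd b (D.map ψ) = pullback.snd a (D.map ψ) ∧ ha.push ψ ≫ θ.hom = hb.push ψ := by
  haveI := ha.lfp; haveI := hb.lfp
  haveI := ha.compactSpace; haveI := hb.compactSpace
  haveI := ha.quasiSeparatedSpace; haveI := hb.quasiSeparatedSpace
  haveI : ∀ (i j : I) (f : i ⟶ j), IsAffineHom (D.map f) := fun _ _ f => inferInstance
  obtain ⟨j, φ, fj, sA, sB, hfj, hA1, hA2, hB1, hB2, hs⟩ :=
    Groth.Agent.S9218.result D c hc i a b ga h ha.sq gb h hb.sq (𝟙 W) (Category.id_comp _)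
  rw [Category.id_comp] at hs
  have eA : sA = ha.push φ := pullback.hom_ext (hA1.trans (ha.push_fst φ).symm) (hA2.trans (ha.push_snd φ).symm)
  have eB : sB = hb.push φ := pullback.hom_ext (hB1.trans (hb.push_fst φ).symm) (hB2.trans (hb.push_snd φ).symm)
  subst eA eB
  have hX : IsPullback (ha.push φ) (𝟙 W) fj (hb.push φ) := by
    refine IsPullback.of_bot ?_ hs (hb.pushed φ).sq
    rw [Category.id_comp, hfj]
    exact (ha.pushed φ).sq
  haveI := (ha.pushed φ).lfp; haveI := (ha.pushed φ).qc; haveI := (ha.pushed φ).qs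
  haveI := (hb.pushed φ).lfp; haveI := (hb.pushed φ).qc; haveI := (hb.pushed φ).qs
  haveI : LocallyOfFinitePresentation (fj ≫ pullback.snd b (D.map φ)) := hfj ▸ inferInstance
  haveI : QuasiCompact (fj ≫ pullback.snd b (D.map φ)) := hfj ▸ inferInstance
  haveI : QuasiSeparated (fj ≫ pullback.snd b (D.map φ)) := hfj ▸ inferInstance
  obtain ⟨k, φ', Xk, Yk, fk, gk, pY, pX, hY', hX', hiso⟩ :=
    Groth.Agent.S4805.result D c hc j fj (pullback.snd b (D.map φ)) (𝟙 W) h (hb.push φ) (ha.push φ)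
      (hb.pushed φ).sq hX
  have sqB : IsPullback (pY ≫ pullback.fst b (D.map φ)) gk b (D.map (φ' ≫ φ)) := by
    rw [D.map_comp]
    exact hY'.paste_horiz (IsPullback.of_hasPullback b (D.map φ))
  have sqA : IsPullback (pX ≫ pullback.fst a (D.map φ)) (fk ≫ gk) a (D.map (φ' ≫ φ)) := by
    rw [D.map_comp]
    have := hX'.paste_vert hY'
    rw [hfj] at this
    exact this.paste_horiz (IsPullback.of_hasPullback a (D.map φ))
  let θ := sqA.isoPullback.symm ≪≫ asIso fk ≪≫ sqB.isoPullback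
  have hθ : θ.hom ≫ pullback.snd b (D.map (φ' ≫ φ)) = pullback.snd a (D.map (φ' ≫ φ)) := by
    simp only [θ, Iso.trans_hom, Iso.symm_hom, asIso_hom, Category.assoc, IsPullback.isoPullback_hom_snd,
      IsPullback.isoPullback_inv_snd]
  refine ⟨k, φ' ≫ φ, θ, hθ, pullback.hom_ext ?_ ?_⟩
  · let l : W ⟶ Xk := ha.push (φ' ≫ φ) ≫ sqA.isoPullback.inv
    have hl : l ≫ pX = ha.push φ := by
      apply pullback.hom_ext
      · simp only [l, Category.assoc, IsPullback.isoPullback_inv_fst]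
        rw [ha.push_fst, ha.push_fst]
      · rw [ha.push_snd, Category.assoc, ← hfj, reassoc_of% hX'.w, hY'.w]
        simp only [l, Category.assoc]
        rw [← Category.assoc fk gk, IsPullback.isoPullback_inv_snd_assoc, reassoc_of% ha.push_snd, c.w]
    rw [hb.push_fst]
    simp only [θ, Iso.trans_hom, Iso.symm_hom, asIso_hom, Category.assoc, IsPullback.isoPullback_hom_fst]
    rw [← reassoc_of% hX'.w, ← hb.push_fst φ, ← hs, Category.assoc, ← hl]
    simp only [l, Category.assoc]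
  · rw [Category.assoc, hθ, ha.push_snd, hb.push_snd]

/-- The union of two opens with models has a model. -/
theorem hasModel_union [CompactSpace X] [QuasiSeparatedSpace X] (U V : X.Opens) (hcov : ∀ x, x ∈ U ∨ x ∈ V)
    (hUc : IsCompact (U : Set X)) (hVc : IsCompact (V : Set X))
    (hU : HasModel (U.ι ≫ f)) (hV : HasModel (V.ι ≫ f)) : HasModel f := by
  obtain ⟨i₁, A₀, a₀, ga₀, hA₀⟩ := hU
  obtain ⟨i₂, B₀, b₀, gb₀, hB₀⟩ := hV
  obtain ⟨i, φ₁, φ₂, -⟩ := IsCofilteredOrEmpty.cone_objs i₁ i₂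
  have hA₁ := hA₀.pushed φ₁
  have hB₁ := hB₀.pushed φ₂
  obtain ⟨i', ψ₁, WA', hWA', eA'⟩ := hA₁.exists_open hc (U.ι ⁻¹ᵁ V)
    (U.ι.isOpenEmbedding.toIsEmbedding.isInducing.isCompact_iff.2 (by
      rw [show U.ι '' (U.ι ⁻¹ᵁ V : Set (U : Scheme.{u})) = (U : Set X) ∩ V by
        rw [show ((U.ι ⁻¹ᵁ V : (U : Scheme.{u}).Opens) : Set (U : Scheme.{u})) = U.ι ⁻¹' V from rfl,
          Set.image_preimage_eq_range_inter, Scheme.Opens.range_ι]]
      exact hUc.inter_of_isOpen hVc U.2 V.2))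
  obtain ⟨n, ψ₂, WB, hWB, eB⟩ := (hB₁.pushed ψ₁).exists_open hc (V.ι ⁻¹ᵁ U)
    (V.ι.isOpenEmbedding.toIsEmbedding.isInducing.isCompact_iff.2 (by
      rw [show V.ι '' (V.ι ⁻¹ᵁ U : Set (V : Scheme.{u})) = (V : Set X) ∩ U by
        rw [show ((V.ι ⁻¹ᵁ U : (V : Scheme.{u}).Opens) : Set (V : Scheme.{u})) = V.ι ⁻¹' U from rfl,
          Set.image_preimage_eq_range_inter, Scheme.Opens.range_ι]]
      exact hVc.inter_of_isOpen hUc V.2 U.2))
  have hA := (hA₁.pushed ψ₁).pushed ψ₂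
  have hB := (hB₁.pushed ψ₁).pushed ψ₂
  revert hA hB
  generalize hga : (hA₁.pushed ψ₁).push ψ₂ = ga
  generalize hgb : (hB₁.pushed ψ₁).push ψ₂ = gb
  intro hA hB
  rw [hgb] at eB
  let WA := pullback.fst (pullback.snd (pullback.snd a₀ (D.map φ₁)) (D.map ψ₁)) (D.map ψ₂) ⁻¹ᵁ WA'
  have hWA : IsCompact (WA : Set (pullback (pullback.snd (pullback.snd a₀ (D.map φ₁)) (D.map ψ₁)) (D.map ψ₂) :
      Scheme.{u})) := QuasiCompact.isCompact_preimage
    (f := pullback.fst (pullback.snd (pullback.snd a₀ (D.map φ₁)) (D.map ψ₁)) (D.map ψ₂)) _ WA'.2 hWA'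
  have eA : ga ⁻¹ᵁ WA = U.ι ⁻¹ᵁ V := by
    rw [← Scheme.Hom.comp_preimage, ← hga, IsModel.push_fst, eA']
  revert WA
  generalize pullback.snd (pullback.snd (pullback.snd a₀ (D.map φ₁)) (D.map ψ₁)) (D.map ψ₂) = fa at hA ⊢
  generalize pullback.snd (pullback.snd (pullback.snd b₀ (D.map φ₂)) (D.map ψ₁)) (D.map ψ₂) = fb at hB ⊢
  intro WA hWA eA
  clear eA' hWA' hga hgb hA₁ hB₁ hA₀ hB₀
  let W : X.Opens := U ⊓ V
  let aW : (W : Scheme.{u}) ⟶ U := X.homOfLE inf_le_left
  let bW : (W : Scheme.{u}) ⟶ V := X.homOfLE inf_le_right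
  have raW : aW.opensRange = U.ι ⁻¹ᵁ V := by
    rw [Scheme.opensRange_homOfLE]
    exact TopologicalSpace.Opens.ext (Set.ext fun y => ⟨fun h => h.2, fun h => ⟨y.2, h⟩⟩)
  have rbW : bW.opensRange = V.ι ⁻¹ᵁ U := by
    rw [Scheme.opensRange_homOfLE]
    exact TopologicalSpace.Opens.ext (Set.ext fun y => ⟨fun h => h.1, fun h => ⟨h, y.2⟩⟩)
  obtain ⟨gWA, hgWA, mA⟩ := hA.restrict_hom aW hWA (eA.trans raW.symm)
  obtain ⟨gWB, hgWB, mB⟩ := hB.restrict_hom bW hWB (eB.trans rbW.symm)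
  have eh : bW ≫ V.ι ≫ f = aW ≫ U.ι ≫ f := by simp [aW, bW]
  rw [eh] at mB
  obtain ⟨k, ψ, θ, hθ, hθ'⟩ := exists_iso_models hc mA mB
  let mapA : pullback (WA.ι ≫ fa) (D.map ψ) ⟶ pullback fa (D.map ψ) :=
    pullback.map _ _ _ _ WA.ι (𝟙 _) (𝟙 _) (by simp) (by simp)
  let mapB : pullback (WB.ι ≫ fb) (D.map ψ) ⟶ pullback fb (D.map ψ) :=
    pullback.map _ _ _ _ WB.ι (𝟙 _) (𝟙 _) (by simp) (by simp)
  haveI : IsOpenImmersion mapA := inferInstance
  haveI : IsOpenImmersion mapB := inferInstance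
  haveI : IsOpenImmersion (θ.hom ≫ mapB) := inferInstance
  obtain ⟨P, iU, iV, _, _, hpo, hP, hint⟩ := exists_union mapA (θ.hom ≫ mapB)
  have wd : mapA ≫ pullback.snd fa (D.map ψ) = (θ.hom ≫ mapB) ≫ pullback.snd fb (D.map ψ) := by
    rw [Category.assoc]
    simp only [mapA, mapB, pullback.lift_snd, Category.comp_id, hθ]
  let fP : P ⟶ D.obj k := hpo.desc (pullback.snd fa (D.map ψ)) (pullback.snd fb (D.map ψ)) wd
  have hfU : iU ≫ fP = pullback.snd fa (D.map ψ) := hpo.inl_desc _ _ _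
  have hfV : iV ≫ fP = pullback.snd fb (D.map ψ) := hpo.inr_desc _ _ _
  have ca : aW ≫ hA.push ψ = mA.push ψ ≫ mapA := by
    apply pullback.hom_ext
    · simp only [mapA, Category.assoc, pullback.lift_fst]
      rw [hA.push_fst, reassoc_of% mA.push_fst, hgWA]
    · simp only [mapA, Category.assoc, pullback.lift_snd, Category.comp_id]
      rw [hA.push_snd, mA.push_snd, Category.assoc, Category.assoc, Category.assoc]
  have cb : bW ≫ hB.push ψ = mB.push ψ ≫ mapB := by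
    apply pullback.hom_ext
    · simp only [mapB, Category.assoc, pullback.lift_fst]
      rw [hB.push_fst, reassoc_of% mB.push_fst, hgWB]
    · simp only [mapB, Category.assoc, pullback.lift_snd, Category.comp_id]
      rw [hB.push_snd, mB.push_snd, ← eh, Category.assoc, Category.assoc, Category.assoc]
  obtain ⟨g, hgU, hgV⟩ := exists_hom_of_cover U V hcov (hA.push ψ ≫ iU) (hB.push ψ ≫ iV) (by
    show aW ≫ hA.push ψ ≫ iU = bW ≫ hB.push ψ ≫ iV
    rw [reassoc_of% ca, reassoc_of% cb, ← hθ', Category.assoc, hpo.w, Category.assoc])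
  haveI : LocallyOfFinitePresentation (pullback.snd fa (D.map ψ)) := (hA.pushed ψ).lfp
  haveI : LocallyOfFinitePresentation (pullback.snd fb (D.map ψ)) := (hB.pushed ψ).lfp
  haveI : CompactSpace (pullback fa (D.map ψ) : Scheme.{u}) := (hA.pushed ψ).compactSpace
  haveI : CompactSpace (pullback fb (D.map ψ) : Scheme.{u}) := (hB.pushed ψ).compactSpace
  haveI : CompactSpace (pullback (WA.ι ≫ fa) (D.map ψ) : Scheme.{u}) := (mA.pushed ψ).compactSpace
  haveI : QuasiSeparatedSpace (pullback fa (D.map ψ) : Scheme.{u}) := (hA.pushed ψ).quasiSeparatedSpace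
  haveI : QuasiSeparatedSpace (pullback fb (D.map ψ) : Scheme.{u}) := (hB.pushed ψ).quasiSeparatedSpace
  have hcovP : (Set.univ : Set P) = Set.range iU ∪ Set.range iV :=
    (Set.eq_univ_of_forall fun p => (hP p).imp id id).symm
  haveI : CompactSpace P := ⟨hcovP ▸ (isCompact_range iU.continuous).union (isCompact_range iV.continuous)⟩
  have hUV : Set.range iU ∩ Set.range iV = Set.range (mapA ≫ iU) := by
    ext p
    refine ⟨?_, fun ⟨z, hz⟩ => ⟨⟨mapA z, hz⟩, ⟨(θ.hom ≫ mapB) z, ?_⟩⟩⟩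
    · rintro ⟨⟨x, rfl⟩, ⟨y, hy⟩⟩
      obtain ⟨z, hz, -⟩ := hint x y hy.symm
      exact ⟨z, congrArg iU hz⟩
    · rw [← hz, ← Scheme.Hom.comp_apply, ← hpo.w]
  haveI : QuasiSeparatedSpace P := quasiSeparatedSpace_union iU.opensRange.2 iV.opensRange.2 hP
    (isQuasiSeparated_univ.image_of_isEmbedding iU.isOpenEmbedding.toIsEmbedding |> fun h => by
      rwa [Set.image_univ] at h)
    (isQuasiSeparated_univ.image_of_isEmbedding iV.isOpenEmbedding.toIsEmbedding |> fun h => by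
      rwa [Set.image_univ] at h)
    (show IsCompact (Set.range iU ∩ Set.range iV) from hUV ▸ isCompact_range (mapA ≫ iU).continuous)
  have w : g ≫ fP = f ≫ c.π.app k := by
    refine Scheme.Cover.hom_ext (X.openCoverOfIsOpenCover (fun b : ULift.{u} Bool => bif b.down then U else V)
      (eq_top_iff.2 fun x _ => (hcov x).elim (fun h => TopologicalSpace.Opens.mem_iSup.2 ⟨⟨true⟩, h⟩)
        fun h => TopologicalSpace.Opens.mem_iSup.2 ⟨⟨false⟩, h⟩)) _ _ ?_
    rintro ⟨_ | _⟩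
    · show V.ι ≫ g ≫ fP = V.ι ≫ f ≫ c.π.app k
      rw [reassoc_of% hgV, hfV, hB.push_snd, Category.assoc]
    · show U.ι ≫ g ≫ fP = U.ι ≫ f ≫ c.π.app k
      rw [reassoc_of% hgU, hfU, hA.push_snd, Category.assoc]
  refine ⟨k, P, fP, g, ?_, quasiCompact_of_compactSpace _, inferInstance, ?_⟩
  · refine (IsZariskiLocalAtSource.iff_of_iSup_eq_top (P := @LocallyOfFinitePresentation)
      (fun b : Bool => bif b then iU.opensRange else iV.opensRange) ?_).2 ?_
    · exact eq_top_iff.2 fun p _ => (hP p).elim (fun h => TopologicalSpace.Opens.mem_iSup.2 ⟨true, h⟩)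
        fun h => TopologicalSpace.Opens.mem_iSup.2 ⟨false, h⟩
    · rintro (_ | _)
      · show LocallyOfFinitePresentation (iV.opensRange.ι ≫ fP)
        rw [← iV.isoOpensRange_inv_comp, Category.assoc, hfV]
        infer_instance
      · show LocallyOfFinitePresentation (iU.opensRange.ι ≫ fP)
        rw [← iU.isoOpensRange_inv_comp, Category.assoc, hfU]
        infer_instance
  · refine isPullback_union w iU iV hP U V (hA.push ψ) (hB.push ψ) hgU.symm hgV.symm
      (hfU.symm ▸ (hA.pushed ψ).sq) (hfV.symm ▸ (hB.pushed ψ).sq) ?_ ?_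
    · rintro x ⟨y, hy⟩
      refine (hcov x).elim id fun hx => ?_
      have : iV (hB.push ψ ⟨x, hx⟩) = iU y := by
        rw [hy, ← Scheme.Hom.comp_apply, ← hgV]
        rfl
      obtain ⟨z, -, hz⟩ := hint y _ this.symm
      have hmem : gb ⟨x, hx⟩ ∈ WB := by
        rw [← hB.push_fst ψ, Scheme.Hom.comp_apply, ← hz, ← Scheme.Hom.comp_apply]
        simp only [mapB, Category.assoc, pullback.lift_fst]
        exact ((θ.hom ≫ pullback.fst (WB.ι ≫ fb) (D.map ψ)) z).2
      exact eB.le hmem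
    · rintro x ⟨y, hy⟩
      refine (hcov x).symm.elim id fun hx => ?_
      have : iU (hA.push ψ ⟨x, hx⟩) = iV y := by
        rw [hy, ← Scheme.Hom.comp_apply, ← hgU]
        rfl
      obtain ⟨z, hz, -⟩ := hint _ y this
      have hmem : ga ⟨x, hx⟩ ∈ WA := by
        rw [← hA.push_fst ψ, Scheme.Hom.comp_apply, ← hz, ← Scheme.Hom.comp_apply]
        simp only [mapA, pullback.lift_fst]
        exact (pullback.fst (WA.ι ≫ fa) (D.map ψ) z).2
      exact eA.le hmem

/-- A morphism of finite presentation to the limit has a model at some stage. -/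
theorem hasModel (f : X ⟶ c.pt) [LocallyOfFinitePresentation f] [QuasiCompact f] [QuasiSeparated f] :
    HasModel f := by
  classical
  haveI := Scheme.compactSpace_of_isLimit _ _ hc
  obtain ⟨i₀⟩ := IsCofiltered.nonempty (C := I)
  haveI := isAffineHom_π_app _ _ hc i₀
  haveI : QuasiSeparatedSpace c.pt := quasiSeparatedSpace_of_quasiSeparated (c.π.app i₀)
  haveI : CompactSpace X := QuasiCompact.compactSpace_of_compactSpace f
  haveI : QuasiSeparatedSpace X := quasiSeparatedSpace_of_quasiSeparated f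
  have small : ∀ x : X, ∃ U : X.Opens, IsAffineOpen U ∧ x ∈ U ∧ HasModel (U.ι ≫ f) := fun x => by
    obtain ⟨_, ⟨V, hV : IsAffineOpen V, rfl⟩, hxV, -⟩ :=
      (D.obj i₀).isBasis_affineOpens.exists_subset_of_mem_open (Set.mem_univ (c.π.app i₀ (f x))) isOpen_univ
    obtain ⟨_, ⟨U, hU : IsAffineOpen U, rfl⟩, hxU, hUV⟩ :=
      X.isBasis_affineOpens.exists_subset_of_mem_open (show x ∈ f ⁻¹ᵁ c.π.app i₀ ⁻¹ᵁ V from hxV)
        (f ⁻¹ᵁ c.π.app i₀ ⁻¹ᵁ V).2
    exact ⟨U, hU, hxU, hasModel_of_le hc hU hV hUV⟩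
  choose U hUa hxU hUm using small
  obtain ⟨t, ht⟩ := isCompact_univ.elim_finite_subcover (fun x => (U x : Set X)) (fun x => (U x).2)
    (fun x _ => Set.mem_iUnion.2 ⟨x, hxU x⟩)
  have key : ∀ s : Finset X, IsCompact ((s.sup U : X.Opens) : Set X) ∧ HasModel ((s.sup U).ι ≫ f) := by
    intro s
    induction s using Finset.induction_on with
    | empty =>
      obtain ⟨_, ⟨V, hV : IsAffineOpen V, rfl⟩, -⟩ :=
        (show ∃ W : Set (D.obj i₀), W ∈ {(W : Set (D.obj i₀)) | W ∈ (D.obj i₀).affineOpens} ∧ True from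
          ⟨_, ⟨⊥, isAffineOpen_bot _, rfl⟩, trivial⟩)
      rw [Finset.sup_empty]
      exact ⟨isCompact_empty, hasModel_of_le hc (isAffineOpen_bot _) hV bot_le⟩
    | insert a s ha ih =>
      rw [Finset.sup_insert]
      let T : X.Opens := U a ⊔ s.sup U
      have hTc : IsCompact (T : Set X) := (hUa a).isCompact.union ih.1
      haveI : CompactSpace (T : Scheme.{u}) := isCompact_iff_compactSpace.1 hTc
      haveI : QuasiSeparatedSpace (T : Scheme.{u}) :=
        (isQuasiSeparated_iff_quasiSeparatedSpace _ T.2).mp (.of_quasiSeparatedSpace _)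
      refine ⟨hTc, ?_⟩
      have res : ∀ O : X.Opens, O ≤ T → IsCompact (O : Set X) → HasModel (O.ι ≫ f) →
          IsCompact ((T.ι ⁻¹ᵁ O : (T : Scheme.{u}).Opens) : Set (T : Scheme.{u})) ∧
            HasModel ((T.ι ⁻¹ᵁ O).ι ≫ T.ι ≫ f) := by
        intro O hO hOc hm
        have hr : (T.ι ''ᵁ (T.ι ⁻¹ᵁ O)) = O := by
          rw [Scheme.Hom.image_preimage_eq_opensRange_inf, Scheme.Opens.opensRange_ι, inf_eq_right.2 hO]
        let e := T.ι.isoImage (T.ι ⁻¹ᵁ O) ≪≫ X.isoOfEq hr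
        refine ⟨T.ι.isOpenEmbedding.toIsEmbedding.isInducing.isCompact_iff.2 ?_, hm.of_iso e ?_⟩
        · rw [← Scheme.Hom.coe_image, hr]
          exact hOc
        · simp [e]
      obtain ⟨h₁, m₁⟩ := res (U a) le_sup_left (hUa a).isCompact (hUm a)
      obtain ⟨h₂, m₂⟩ := res (s.sup U) le_sup_right ih.1 ih.2
      exact hasModel_union hc _ _ (fun x => TopologicalSpace.Opens.mem_sup.1 x.2) h₁ h₂ m₁ m₂
  have htop : t.sup U = ⊤ := eq_top_iff.2 fun x _ => by
    obtain ⟨y, hy, hxy⟩ := Set.mem_iUnion₂.1 (ht (Set.mem_univ x))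
    exact Finset.le_sup (f := U) hy hxy
  refine (key t).2.of_iso (X.topIso.symm ≪≫ X.isoOfEq htop.symm) ?_
  simp [← Scheme.topIso_hom]

end

end Groth.Agent.ConsPropLib
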