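import Groth.Agent.ConsPropLib.Cores

/-!
# "There is a morphism with property `Q` over some extension field" is ind-constructible (EGA IV 9.3.4)
-/

set_option autoImplicit false
set_option linter.style.haveILetI false

open CategoryTheory CategoryTheory.Limits AlgebraicGeometry Groth.Agent.MorLib Groth.Agent.MorLib.Desc

namespace Groth.Agent.ConsPropLib

universe u

namespace AlgApprox

variable {A B : CommRingCat.{u}} (φ : A ⟶ B)

/-- The finitely generated subalgebra generated by a finite set. -/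
noncomputable def adj (s : Finset B) : Subalgebra φ.hom.range B := Algebra.adjoin φ.hom.range (s : Set B)

theorem adj_mono {s t : Finset B} (h : s ≤ t) : adj φ s ≤ adj φ t :=
  Algebra.adjoin_mono (Finset.coe_subset.2 h)

/-- The system of finitely generated subalgebras. -/
noncomputable def rings : Finset B ⥤ CommRingCat.{u} where
  obj s := CommRingCat.of (adj φ s)
  map {s t} h := CommRingCat.ofHom (Subalgebra.inclusion (adj_mono φ (leOfHom h))).toRingHom

/-- The cocone into `B`. -/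
noncomputable def cocone : Cocone (rings φ) where
  pt := B
  ι := { app := fun s => CommRingCat.ofHom (adj φ s).val.toRingHom }

/-- The structure maps. -/
noncomputable def str (s : Finset B) : A ⟶ (rings φ).obj s :=
  CommRingCat.ofHom ((algebraMap φ.hom.range (adj φ s)).comp φ.hom.rangeRestrict)

theorem finiteType_str (s : Finset B) : (str φ s).hom.FiniteType := by
  haveI : Algebra.FiniteType φ.hom.range (adj φ s) := Algebra.FiniteType.adjoin_of_finite s.finite_toSet
  exact (RingHom.finiteType_algebraMap.2 this).comp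
    (RingHom.FiniteType.of_surjective _ φ.hom.rangeRestrict_surjective)

/-- `B` is the colimit. -/
noncomputable def isColimit : IsColimit (cocone φ) := by
  classical
  haveI : ReflectsColimit (rings φ) (forget CommRingCat.{u}) := reflectsColimit_of_reflectsIsomorphisms _ _
  refine isColimitOfReflects (forget CommRingCat.{u}) ?_
  refine Types.FilteredColimit.isColimitOf' _ _ (fun z => ?_) fun s x y h => ?_
  · exact ⟨{z}, ⟨z, Algebra.subset_adjoin (Finset.mem_singleton_self z)⟩, rfl⟩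
  · refine ⟨s, 𝟙 s, ?_⟩
    exact congrArg _ (Subtype.ext h)

end AlgApprox

open AlgApprox in
/-- An affine scheme over an affine scheme is a limit of schemes of finite type over it. -/
theorem exists_finiteType_limit {T V : Scheme.{u}} [IsAffine T] [IsAffine V] (f : T ⟶ V) :
    ∃ (I : Type u) (_ : SmallCategory I) (_ : IsCofiltered I) (D : I ⥤ Scheme.{u}) (c : Cone D)
      (_ : IsLimit c) (e : c.pt ≅ T) (t : D ⟶ (Functor.const I).obj V), (∀ i, IsAffine (D.obj i)) ∧
      (∀ i, LocallyOfFiniteType (t.app i)) ∧ ∀ i, c.π.app i ≫ t.app i = e.hom ≫ f := by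
  let φ := f.appTop
  let t : (rings φ).op ⋙ Scheme.Spec ⟶ (Functor.const (Finset Γ(T, ⊤))ᵒᵖ).obj V :=
    { app := fun i => Spec.map (str φ i.unop) ≫ V.isoSpec.inv
      naturality := fun i j a => by
        show Spec.map ((rings φ).map a.unop) ≫ _ = (_ ≫ _) ≫ 𝟙 _
        rw [← Spec.map_comp_assoc, Category.comp_id]
        rfl }
  refine ⟨_, inferInstance, inferInstance, _, Scheme.Spec.mapCone (cocone φ).op,
    isLimitOfPreserves Scheme.Spec (isColimit φ).op, T.isoSpec.symm, t, fun i => ?_, fun i => ?_, fun i => ?_⟩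
  · exact isAffine_Spec ((rings φ).obj i.unop)
  · haveI : LocallyOfFiniteType (Spec.map (str φ i.unop)) :=
      (HasRingHomProperty.Spec_iff (P := @LocallyOfFiniteType)).2 (finiteType_str φ i.unop)
    exact MorphismProperty.comp_mem _ _ _ ‹LocallyOfFiniteType (Spec.map (str φ i.unop))› inferInstance
  · show Spec.map _ ≫ Spec.map (str φ i.unop) ≫ V.isoSpec.inv = T.isoSpec.inv ≫ f
    rw [← Spec.map_comp_assoc, ← Scheme.isoSpec_inv_naturality]
    rfl

/-- Some extension field admits a morphism with the property `Q` between the base changes. -/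
def ExistsHom (Q : MorphismProperty Scheme.{u}) : ∀ ⦃X Y T : Scheme.{u}⦄, (X ⟶ T) → (Y ⟶ T) → Prop :=
  fun X Y T gX gY => ∃ (T' X' Y' : Scheme.{u}) (h : T' ⟶ T) (gX' : X' ⟶ T') (gY' : Y' ⟶ T')
    (eX : X' ⟶ X) (eY : Y' ⟶ Y), IsIntegral T' ∧ Subsingleton ↥T' ∧
      IsPullback eX gX' gX h ∧ IsPullback eY gY' gY h ∧ ∃ g : X' ⟶ Y', g ≫ gY' = gX' ∧ Q g

variable {Q : MorphismProperty Scheme.{u}}

/-- Witnesses restrict to extensions of the witnessing field. -/
theorem ExistsHom.mk_of [Q.IsStableUnderBaseChange] {X Y T : Scheme.{u}} {gX : X ⟶ T} {gY : Y ⟶ T}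
    {T₁ X₁ Y₁ : Scheme.{u}} {h₁ : T₁ ⟶ T} {gX₁ : X₁ ⟶ T₁} {gY₁ : Y₁ ⟶ T₁} {eX : X₁ ⟶ X} {eY : Y₁ ⟶ Y}
    (sX : IsPullback eX gX₁ gX h₁) (sY : IsPullback eY gY₁ gY h₁) {g : X₁ ⟶ Y₁} (hg : g ≫ gY₁ = gX₁)
    (hQ : Q g) {T₂ : Scheme.{u}} [IsIntegral T₂] [Subsingleton T₂] (a : T₂ ⟶ T₁)
    {X' Y' T' : Scheme.{u}} {gX' : X' ⟶ T'} {gY' : Y' ⟶ T'} {eX' : X' ⟶ X} {eY' : Y' ⟶ Y} {h : T' ⟶ T}
    (sX' : IsPullback eX' gX' gX h) (sY' : IsPullback eY' gY' gY h) (b : T₂ ⟶ T') (w : a ≫ h₁ = b ≫ h) :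
    ExistsHom Q gX' gY' := by
  subst hg
  obtain ⟨g₂, sq, hc⟩ := exists_hom_baseChange g gY₁ a
  have sX₂ := (IsPullback.of_hasPullback (g ≫ gY₁) a).paste_horiz sX
  have sY₂ := (IsPullback.of_hasPullback gY₁ a).paste_horiz sY
  rw [w] at sX₂ sY₂
  exact ⟨T₂, _, _, b, pullback.snd (g ≫ gY₁) a, pullback.snd gY₁ a,
    sX'.lift _ (pullback.snd (g ≫ gY₁) a ≫ b) (sX₂.w.trans (Category.assoc _ _ _).symm),
    sY'.lift _ (pullback.snd gY₁ a ≫ b) (sY₂.w.trans (Category.assoc _ _ _).symm),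
    inferInstance, inferInstance,
    IsPullback.of_right (by rw [sX'.lift_fst]; exact sX₂) (sX'.lift_snd _ _ _) sX',
    IsPullback.of_right (by rw [sY'.lift_fst]; exact sY₂) (sY'.lift_snd _ _ _) sY',
    g₂, hc, MorphismProperty.of_isPullback sq hQ⟩

theorem isFieldStablePair_existsHom [Q.IsStableUnderBaseChange] :
    ConsPropPair.IsFieldStablePair (ExistsHom Q) := by
  intro X X' Y Y' T T' gX gY gX' gY' eX eY h _ _ _ _ _ _ _ _ sX sY
  constructor
  · rintro ⟨T₁, X₁, Y₁, h₁, gX₁, gY₁, eX₁, eY₁, hi, hs, sX₁, sY₁, g, hg, hQ⟩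
    haveI := surjective_of_point h
    obtain ⟨t'⟩ : Nonempty T' := inferInstance
    obtain ⟨t₁⟩ : Nonempty T₁ := inferInstance
    obtain ⟨z, -, -⟩ := Scheme.Pullback.exists_preimage_pullback (f := h₁) (g := h) t₁ t' (Subsingleton.elim _ _)
    let W : Scheme.{u} := Spec ((pullback h₁ h).residueField z)
    haveI : IsIntegral W := inferInstanceAs (IsIntegral (Spec _))
    haveI : Subsingleton ↥W := inferInstanceAs (Subsingleton ↥(Spec ((pullback h₁ h).residueField z)))
    exact ExistsHom.mk_of sX₁ sY₁ hg hQ ((pullback h₁ h).fromSpecResidueField z ≫ pullback.fst h₁ h)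
      (T₂ := W) sX sY ((pullback h₁ h).fromSpecResidueField z ≫ pullback.snd h₁ h)
      (by rw [Category.assoc, pullback.condition, Category.assoc])
  · rintro ⟨T₁, X₁, Y₁, h₁, gX₁, gY₁, eX₁, eY₁, hi, hs, sX₁, sY₁, g, hg, hQ⟩
    exact ⟨T₁, X₁, Y₁, h₁ ≫ h, gX₁, gY₁, eX₁ ≫ eX, eY₁ ≫ eY, hi, hs, sX₁.paste_horiz sX,
      sY₁.paste_horiz sY, g, hg, hQ⟩

/-- The main criterion. -/
theorem isIndConsPair_existsHom [Q.IsStableUnderBaseChange] [Q.RespectsIso] [IsZariskiLocalAtTarget Q]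
    {Q' : MorphismProperty Scheme.{u}} [Q'.IsStableUnderBaseChange] [Q'.RespectsIso]
    (hcore : Core Q Q') (hQ' : ∀ {X Y : Scheme.{u}} (f : X ⟶ Y), LocallyOfFinitePresentation f → Q' f) :
    ConsPropPair.IsIndConsPair (ExistsHom Q) := by
  refine ⟨isFieldStablePair_existsHom, fun X Y S u v _ _ _ _ _ _ hη => ?_⟩
  obtain ⟨T₁, X₁, Y₁, h₁, gX₁, gY₁, eX₁, eY₁, hi, hsub, sX₁, sY₁, g, hg, hQg⟩ := hη
  haveI := isAffine_point T₁
  let η := genericPoint S
  let F : T₁ ⟶ S := h₁ ≫ S.fromSpecResidueField η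
  have sX : IsPullback (eX₁ ≫ u.fiberι η) gX₁ u F := sX₁.paste_horiz (IsPullback.of_hasPullback _ _)
  have sY : IsPullback (eY₁ ≫ v.fiberι η) gY₁ v F := sY₁.paste_horiz (IsPullback.of_hasPullback _ _)
  have hFη : ∀ x, F x = η := fun x => by
    rw [Scheme.Hom.comp_apply, Scheme.fromSpecResidueField_apply]
  obtain ⟨_, ⟨V₀, hV₀, rfl⟩, hηV, -⟩ :=
    S.isBasis_affineOpens.exists_subset_of_mem_open (Set.mem_univ η) isOpen_univ
  let V : S.Opens := V₀
  haveI : IsAffine (V : Scheme.{u}) := hV₀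
  haveI : IsLocallyNoetherian (V : Scheme.{u}) := inferInstance
  let FV : T₁ ⟶ (V : Scheme.{u}) := IsOpenImmersion.lift V.ι F (by
    rw [Scheme.Opens.range_ι]; rintro _ ⟨x, rfl⟩; rw [hFη]; exact hηV)
  obtain ⟨I, _, _, D, c, hc, e, t, hA, ht, htc⟩ := exists_finiteType_limit FV
  haveI := hA
  haveI : ∀ {i j : I} (f : i ⟶ j), IsAffineHom (D.map f) := fun f => isAffineHom_of_isAffine _
  haveI : ∀ (i j : I) (f : i ⟶ j), IsAffineHom (D.map f) := fun i j f => isAffineHom_of_isAffine _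
  obtain ⟨i⟩ := IsCofiltered.nonempty (C := I)
  let τ : ∀ j, D.obj j ⟶ S := fun j => t.app j ≫ V.ι
  have hτw : ∀ {j k : I} (φ : j ⟶ k), D.map φ ≫ τ k = τ j := fun {j k} φ => by
    have := t.naturality φ
    simp only [Functor.const_obj_map] at this
    show D.map φ ≫ t.app k ≫ V.ι = t.app j ≫ V.ι
    rw [reassoc_of% this]
    exact congrArg (t.app j ≫ ·) (Category.id_comp _)
  have hτc : ∀ j, c.π.app j ≫ τ j = e.hom ≫ F := fun j => by
    show c.π.app j ≫ t.app j ≫ V.ι = _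
    rw [reassoc_of% htc j, IsOpenImmersion.lift_fac]
  haveI : ∀ j, LocallyOfFiniteType (τ j) := fun j =>
    MorphismProperty.comp_mem _ _ _ (ht j) inferInstance
  haveI : ∀ j, IsLocallyNoetherian (D.obj j) := fun j => LocallyOfFiniteType.isLocallyNoetherian (τ j)
  haveI : ∀ j, IsNoetherian (D.obj j) := fun j => {}
  -- the families over the first stage
  let xi : pullback u (τ i) ⟶ D.obj i := pullback.snd u (τ i)
  let yi : pullback v (τ i) ⟶ D.obj i := pullback.snd v (τ i)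
  haveI : LocallyOfFinitePresentation xi := inferInstance
  haveI : LocallyOfFinitePresentation yi := inferInstance
  haveI : CompactSpace ↥(pullback u (τ i)) := QuasiCompact.compactSpace_of_compactSpace xi
  haveI : CompactSpace ↥(pullback v (τ i)) := QuasiCompact.compactSpace_of_compactSpace yi
  haveI : IsLocallyNoetherian (pullback u (τ i)) := LocallyOfFiniteType.isLocallyNoetherian xi
  haveI : IsLocallyNoetherian (pullback v (τ i)) := LocallyOfFiniteType.isLocallyNoetherian yi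
  let pi : c.pt ⟶ D.obj i := c.π.app i
  have sXc : IsPullback (eX₁ ≫ u.fiberι η) (gX₁ ≫ e.inv) u (pi ≫ τ i) := by
    rw [hτc]
    exact sX.of_iso (Iso.refl _) (Iso.refl _) e.symm (Iso.refl _) (by simp) (by simp) (by simp) (by simp)
  have sYc : IsPullback (eY₁ ≫ v.fiberι η) (gY₁ ≫ e.inv) v (pi ≫ τ i) := by
    rw [hτc]
    exact sY.of_iso (Iso.refl _) (Iso.refl _) e.symm (Iso.refl _) (by simp) (by simp) (by simp) (by simp)
  obtain ⟨qhX, hX⟩ : ∃ q, IsPullback q (gX₁ ≫ e.inv) xi pi :=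
    ⟨(IsPullback.of_hasPullback u (τ i)).lift _ ((gX₁ ≫ e.inv) ≫ pi) (sXc.w.trans (Category.assoc _ _ _).symm),
      IsPullback.of_right (by rw [IsPullback.lift_fst]; exact sXc) (IsPullback.lift_snd _ _ _ _)
      (IsPullback.of_hasPullback u (τ i))⟩
  obtain ⟨qhY, hY⟩ : ∃ q, IsPullback q (gY₁ ≫ e.inv) yi pi :=
    ⟨(IsPullback.of_hasPullback v (τ i)).lift _ ((gY₁ ≫ e.inv) ≫ pi) (sYc.w.trans (Category.assoc _ _ _).symm),
      IsPullback.of_right (by rw [IsPullback.lift_fst]; exact sYc) (IsPullback.lift_snd _ _ _ _)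
      (IsPullback.of_hasPullback v (τ i))⟩
  obtain ⟨j, φ, gj, sA, sB, hgj, hA1, hA2, hB1, hB2, hs⟩ :=
    Groth.Agent.S9218.result D c hc i xi yi _ _ hX _ _ hY g (by rw [← Category.assoc, hg])
  have mX : IsModel (gX₁ ≫ e.inv) i xi _ := ⟨inferInstance, inferInstance, inferInstance, hX⟩
  have mY : IsModel (gY₁ ≫ e.inv) i yi _ := ⟨inferInstance, inferInstance, inferInstance, hY⟩
  have eA : sA = mX.push φ := pullback.hom_ext (hA1.trans (mX.push_fst φ).symm) (hA2.trans (mX.push_snd φ).symm)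
  have eB : sB = mY.push φ := pullback.hom_ext (hB1.trans (mY.push_fst φ).symm) (hB2.trans (mY.push_snd φ).symm)
  subst eA eB
  have sqg : IsPullback (mX.push φ) g gj (mY.push φ) := by
    refine IsPullback.of_bot ?_ hs (mY.pushed φ).sq
    rw [hgj, ← Category.assoc, hg]
    exact (mX.pushed φ).sq
  haveI := (mX.pushed φ).lfp; haveI := (mX.pushed φ).qc; haveI := (mX.pushed φ).qs
  haveI := (mY.pushed φ).lfp; haveI := (mY.pushed φ).qc; haveI := (mY.pushed φ).qs
  haveI : LocallyOfFinitePresentation (gj ≫ pullback.snd yi (D.map φ)) := by rw [hgj]; infer_instance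
  haveI : QuasiCompact (gj ≫ pullback.snd yi (D.map φ)) := by rw [hgj]; infer_instance
  haveI : QuasiSeparated (gj ≫ pullback.snd yi (D.map φ)) := by rw [hgj]; infer_instance
  haveI : LocallyOfFinitePresentation gj :=
    Groth.Agent.AlgSpPts.locallyOfFinitePresentation_of_comp gj (pullback.snd yi (D.map φ))
  haveI : QuasiCompact gj := QuasiCompact.of_comp gj (pullback.snd yi (D.map φ))
  haveI : QuasiSeparated gj := QuasiSeparated.of_comp gj (pullback.snd yi (D.map φ))
  haveI : CompactSpace ↥(pullback yi (D.map φ)) := (mY.pushed φ).compactSpace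
  obtain ⟨k, ψ, Xk, Yk, gk, gYk, pY, pX, sYk, sXk, hQk⟩ := descend₂ D c hc (P := Q) (Q := Q') hcore gj
    (pullback.snd yi (D.map φ)) (hQ' gj inferInstance) g _ _ _ (mY.pushed φ).sq sqg hQg
  obtain ⟨qtX, tX⟩ : ∃ q, IsPullback q (gk ≫ gYk) u (τ k) := by
    have := sXk.paste_vert sYk
    rw [hgj] at this
    have := (this.paste_horiz (IsPullback.of_hasPullback xi (D.map φ))).paste_horiz
      (IsPullback.of_hasPullback u (τ i))
    rw [← D.map_comp, hτw] at this
    exact ⟨_, this⟩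
  obtain ⟨qtY, tY⟩ : ∃ q, IsPullback q gYk v (τ k) := by
    have := (sYk.paste_horiz (IsPullback.of_hasPullback yi (D.map φ))).paste_horiz
      (IsPullback.of_hasPullback v (τ i))
    rw [← D.map_comp, hτw] at this
    exact ⟨_, this⟩
  have hsubset : Set.range (τ k) ⊆ ConsPropPair.locusPair (ExistsHom Q) u v := by
    rintro _ ⟨z, rfl⟩
    let W : Scheme.{u} := Spec ((D.obj k).residueField z)
    haveI : IsIntegral W := inferInstanceAs (IsIntegral (Spec _))
    haveI : Subsingleton ↥W := inferInstanceAs (Subsingleton ↥(Spec ((D.obj k).residueField z)))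
    exact ExistsHom.mk_of tX tY rfl hQk (T₂ := W) ((D.obj k).fromSpecResidueField z)
      (IsPullback.of_hasPullback u (S.fromSpecResidueField (τ k z)))
      (IsPullback.of_hasPullback v (S.fromSpecResidueField (τ k z)))
      (Spec.map ((τ k).residueFieldMap z)) (Scheme.Hom.SpecMap_residueFieldMap_fromSpecResidueField _ _).symm
  have hηk : η ∈ Set.range (τ k) := by
    obtain ⟨x⟩ : Nonempty T₁ := inferInstance
    refine ⟨c.π.app k (e.inv x), ?_⟩
    rw [← Scheme.Hom.comp_apply, hτc, ← Scheme.Hom.comp_apply, e.inv_hom_id_assoc, hFη]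
  haveI : CompactSpace ↥(D.obj k) := inferInstance
  haveI : QuasiCompact (τ k) := quasiCompact_of_compactSpace _
  haveI : LocallyOfFinitePresentation (τ k) := inferInstance
  have hcons : Topology.IsConstructible (Set.range (τ k)) := by
    rw [← Set.image_univ]
    exact (τ k).isConstructible_image Topology.IsConstructible.univ
  exact ⟨η, interior_mono hsubset (mem_interior_iff_mem_nhds.2 (FibDim.mem_nhds_of_generizations
    hcons.isLocallyConstructible (y := η) fun s hs =>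
      (hs.antisymm ((genericPoint_spec S).specializes (Set.mem_univ _))).eq.symm ▸ hηk))⟩

end Groth.Agent.ConsPropLib

namespace Groth.Agent.ConsPropLib

universe v

/-- A relation agreeing with an ind-constructible one on algebraic schemes is ind-constructible. -/
theorem isIndConsPair_congr {P P' : ∀ ⦃X Y T : Scheme.{v}⦄, (X ⟶ T) → (Y ⟶ T) → Prop}
    (h : ConsPropPair.IsIndConsPair P)
    (e : ∀ ⦃X Y T : Scheme.{v}⦄ (gX : X ⟶ T) (gY : Y ⟶ T), IsIntegral T → Subsingleton ↥T →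
      LocallyOfFiniteType gX → QuasiCompact gX → LocallyOfFiniteType gY → QuasiCompact gY →
      (P gX gY ↔ P' gX gY)) : ConsPropPair.IsIndConsPair P' := by
  refine ⟨fun X X' Y Y' T T' gX gY gX' gY' eX eY h' _ _ _ _ _ _ _ _ sX sY => ?_,
    fun X Y S u v _ _ _ _ _ _ hη => ?_⟩
  · rw [← e gX gY ‹_› ‹_› ‹_› ‹_› ‹_› ‹_›, ← e gX' gY' ‹_› ‹_› (MorphismProperty.of_isPullback sX ‹_›)
      (MorphismProperty.of_isPullback sX ‹_›) (MorphismProperty.of_isPullback sY ‹_›)
      (MorphismProperty.of_isPullback sY ‹_›)]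
    exact h.1 gX gY gX' gY' eX eY h' sX sY
  · have key : ConsPropPair.locusPair P u v = ConsPropPair.locusPair P' u v := Set.ext fun s =>
      e (u.fiberToSpecResidueField s) (v.fiberToSpecResidueField s) inferInstance inferInstance
        inferInstance inferInstance inferInstance inferInstance
    rw [← key] at hη ⊢
    exact h.2 u v hη

theorem existsHom_congr {Q Q' : MorphismProperty Scheme.{v}}
    (h : ∀ {X Y : Scheme.{v}} (f : X ⟶ Y), LocallyOfFiniteType f → QuasiCompact f → (Q f ↔ Q' f))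
    {X Y T : Scheme.{v}} {gX : X ⟶ T} {gY : Y ⟶ T} [IsIntegral T] [Subsingleton ↥T]
    [LocallyOfFiniteType gX] [QuasiCompact gX] [LocallyOfFiniteType gY] [QuasiCompact gY] :
    ExistsHom Q gX gY ↔ ExistsHom Q' gX gY := by
  have key : ∀ {T₁ X₁ Y₁ : Scheme.{v}} {h₁ : T₁ ⟶ T} {gX₁ : X₁ ⟶ T₁} {gY₁ : Y₁ ⟶ T₁} {eX : X₁ ⟶ X}
      {eY : Y₁ ⟶ Y}, IsIntegral T₁ → Subsingleton ↥T₁ → IsPullback eX gX₁ gX h₁ → IsPullback eY gY₁ gY h₁ →
      ∀ g : X₁ ⟶ Y₁, g ≫ gY₁ = gX₁ → (Q g ↔ Q' g) := by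
    intro T₁ X₁ Y₁ h₁ gX₁ gY₁ eX eY hi hs sX sY g hg
    haveI := isLocallyNoetherian_point T₁
    haveI : LocallyOfFiniteType gX₁ := MorphismProperty.of_isPullback sX ‹_›
    haveI : QuasiCompact gX₁ := MorphismProperty.of_isPullback sX ‹_›
    haveI : LocallyOfFiniteType gY₁ := MorphismProperty.of_isPullback sY ‹_›
    haveI : IsLocallyNoetherian Y₁ := LocallyOfFiniteType.isLocallyNoetherian gY₁
    haveI : LocallyOfFiniteType (g ≫ gY₁) := hg ▸ inferInstance
    haveI : QuasiCompact (g ≫ gY₁) := hg ▸ inferInstance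
    exact h g (locallyOfFiniteType_of_comp g gY₁) (QuasiCompact.of_comp g gY₁)
  constructor <;> rintro ⟨T₁, X₁, Y₁, h₁, gX₁, gY₁, eX, eY, hi, hs, sX, sY, g, hg, hQ⟩
  · exact ⟨T₁, X₁, Y₁, h₁, gX₁, gY₁, eX, eY, hi, hs, sX, sY, g, hg, (key hi hs sX sY g hg).1 hQ⟩
  · exact ⟨T₁, X₁, Y₁, h₁, gX₁, gY₁, eX, eY, hi, hs, sX, sY, g, hg, (key hi hs sX sY g hg).2 hQ⟩

end Groth.Agent.ConsPropLib
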