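import Groth.Agent.ConsPropLib.FibreIso

/-!
# Loci of immersions and open immersions in families (EGA IV 9.6.1)
-/

set_option autoImplicit false
set_option linter.style.haveILetI false

open CategoryTheory CategoryTheory.Limits AlgebraicGeometry Topology Groth.Agent.SpecLib
  Groth.Agent.MorLib

namespace Groth.Agent.ConsPropLib

universe u

variable {X Y S : Scheme.{u}}

theorem universallyOpen_point {T T' : Scheme.{u}} [IsIntegral T] [Subsingleton T] (h : T' ⟶ T) :
    UniversallyOpen h := by
  haveI := isAffine_point T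
  letI := (isField_of_isIntegral_of_subsingleton T).toField
  haveI : UniversallyOpen (h ≫ T.isoSpec.hom) := VarGeom.universallyOpen_of_field (k := Γ(T, ⊤)) _
  rwa [MorphismProperty.cancel_right_of_respectsIso @UniversallyOpen] at this

/-- An immersion with closed range in an open containing its range is a closed immersion there. -/
theorem isImmersion_iff_restrict (f : X ⟶ Y) (O : Y.Opens) (h₁ : Set.range f ⊆ O)
    (h₂ : IsClosed (O.ι ⁻¹' Set.range f)) : IsImmersion f ↔ IsClosedImmersion (f ∣_ O) := by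
  constructor
  · intro h
    haveI : IsImmersion (f ∣_ O) := MorphismProperty.of_isPullback (isPullback_morphismRestrict f O).flip h
    apply IsClosedImmersion.of_isPreimmersion
    rwa [range_f' (isPullback_morphismRestrict f O).flip]
  · intro h
    have e : f ⁻¹ᵁ O = ⊤ := top_le_iff.1 fun x _ => h₁ ⟨x, rfl⟩
    haveI : IsIso (f ⁻¹ᵁ O).ι := by rw [e]; exact inferInstanceAs (IsIso X.topIso.hom)
    haveI : IsImmersion ((f ⁻¹ᵁ O).ι ≫ f) := by rw [← morphismRestrict_ι]; infer_instance
    rwa [MorphismProperty.cancel_left_of_respectsIso @IsImmersion] at this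

theorem isOpenImmersion_iff_restrict (f : X ⟶ Y) (O : Y.Opens) (h : Set.range f = O) :
    IsOpenImmersion f ↔ IsIso (f ∣_ O) := by
  constructor
  · intro hf
    haveI : IsOpenImmersion (f ∣_ O) := MorphismProperty.of_isPullback (isPullback_morphismRestrict f O).flip hf
    refine (isIso_iff_isOpenImmersion_and_surjective _).2 ⟨inferInstance, ⟨?_⟩⟩
    rw [← Set.range_eq_univ, range_f' (isPullback_morphismRestrict f O).flip, h]
    exact Set.eq_univ_of_forall fun y => y.2
  · intro hf
    have e : f ⁻¹ᵁ O = ⊤ := top_le_iff.1 fun x _ => h.le ⟨x, rfl⟩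
    haveI : IsIso (f ⁻¹ᵁ O).ι := by rw [e]; exact inferInstanceAs (IsIso X.topIso.hom)
    haveI : IsOpenImmersion ((f ⁻¹ᵁ O).ι ≫ f) := by rw [← morphismRestrict_ι]; infer_instance
    rwa [MorphismProperty.cancel_left_of_respectsIso @IsOpenImmersion] at this

theorem restrict_fiberMap_iff (P : MorphismProperty Scheme.{u}) [P.RespectsIso] (f : X ⟶ Y) (g : Y ⟶ S) (s : S)
    (O : Y.Opens) :
    P (MoreMor.fiberMap (f ∣_ O) (O.ι ≫ g) s) ↔ P (MoreMor.fiberMap f g s ∣_ (g.fiberι s ⁻¹ᵁ O)) := by
  let e : (O.ι ≫ g).fiber s ⟶ g.fiber s := MoreMor.fiberMap O.ι g s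
  have se : IsPullback ((O.ι ≫ g).fiberι s) e O.ι (g.fiberι s) := isPullback_fiberMap O.ι g s
  haveI : IsOpenImmersion e := MorphismProperty.of_isPullback se inferInstance
  have he : e.opensRange = g.fiberι s ⁻¹ᵁ O := TopologicalSpace.Opens.ext (by
    show Set.range e = _
    rw [range_f' se, Scheme.Opens.range_ι]
    rfl)
  rw [← P.arrow_mk_iso_iff (morphismRestrictEq (MoreMor.fiberMap f g s) he),
    P.arrow_mk_iso_iff (morphismRestrictOpensRange (MoreMor.fiberMap f g s) e)]
  have h1 := (isPullback_fiberMap (f ∣_ O) (O.ι ≫ g) s).paste_horiz (isPullback_morphismRestrict f O).flip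
  have h2 := (IsPullback.of_hasPullback (MoreMor.fiberMap f g s) e).paste_horiz (isPullback_fiberMap f g s)
  rw [se.w] at h1
  exact ⟨Desc.of_two P h1 h2, Desc.of_two P h2 h1⟩

theorem fpqc_surjective_isQuotientMap {Y' T T' : Scheme.{u}} {g : Y ⟶ T} {g' : Y' ⟶ T'} {eY : Y' ⟶ Y}
    {h : T' ⟶ T} [IsIntegral T] [Subsingleton T] [Nonempty T'] (sq : IsPullback eY g' g h) :
    Surjective eY ∧ IsOpenMap eY := by
  haveI := surjective_of_point h
  haveI := universallyOpen_point h
  haveI : UniversallyOpen eY := MorphismProperty.of_isPullback sq.flip inferInstance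
  exact ⟨MorphismProperty.of_isPullback sq.flip inferInstance, eY.isOpenMap⟩

theorem isLocallyClosed_preimage_iff {α β : Type*} [TopologicalSpace α] [TopologicalSpace β] {e : α → β}
    (ho : IsOpenMap e) (hc : Continuous e) (hs : Function.Surjective e) (s : Set β) :
    IsLocallyClosed (e ⁻¹' s) ↔ IsLocallyClosed s := by
  rw [isLocallyClosed_iff_isClosed, isLocallyClosed_iff_isClosed,
    ← ho.preimage_closure_eq_closure_preimage hc, ← Set.preimage_sdiff,
    (ho.isQuotientMap hc hs).isClosed_preimage]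

/-- Immersions descend along extensions of the base field. -/
theorem isFieldStableMor_isImmersion :
    ConsProp.IsFieldStableMor.{u} (fun X Y _T (f : X ⟶ Y) _ => IsImmersion f) := by
  intro X X' Y Y' T T' f g f' g' eX eY h _ _ _ _ _ _ _ _ sqY sqX
  refine ⟨fun hf => MorphismProperty.of_isPullback sqX hf, fun hf => ?_⟩
  obtain ⟨hs, ho⟩ := fpqc_surjective_isQuotientMap sqY
  have hlc : IsLocallyClosed (Set.range f) := by
    rw [← isLocallyClosed_preimage_iff ho eY.continuous eY.surjective, ← range_f' sqX]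
    haveI : IsImmersion f' := hf
    exact f'.isLocallyClosed_range
  let O : Y.Opens := ⟨(closure (Set.range f) \ Set.range f)ᶜ, ((isLocallyClosed_iff_isClosed _).1 hlc).isOpen_compl⟩
  have h₁ : Set.range f ⊆ O := fun y hy h => h.2 hy
  have h₂ : IsClosed (O.ι ⁻¹' Set.range f) := by
    convert (isClosed_closure (s := Set.range f)).preimage O.ι.continuous using 1
    exact Set.Subset.antisymm (fun z hz => subset_closure hz) fun z hz => by_contra fun hn => z.2 ⟨hz, hn⟩
  rw [isImmersion_iff_restrict f O h₁ h₂]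
  obtain ⟨qX, sq⟩ : ∃ qX : (f' ⁻¹ᵁ (eY ⁻¹ᵁ O) : Scheme.{u}) ⟶ f ⁻¹ᵁ O,
      IsPullback qX (f' ∣_ eY ⁻¹ᵁ O) (f ∣_ O) (eY ∣_ O) := by
    have h1 := (isPullback_morphismRestrict f' (eY ⁻¹ᵁ O)).flip.paste_horiz sqX
    rw [← morphismRestrict_ι eY O] at h1
    have hX := (isPullback_morphismRestrict f O).flip
    exact ⟨hX.lift _ (f' ∣_ (eY ⁻¹ᵁ O) ≫ eY ∣_ O) (h1.w.trans (Category.assoc _ _ _).symm),
      IsPullback.of_right (by rw [hX.lift_fst]; exact h1) (hX.lift_snd _ _ _) hX⟩
  have h₂' : IsClosed ((eY ⁻¹ᵁ O).ι ⁻¹' Set.range f') := by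
    rw [range_f' sqX]
    convert h₂.preimage (eY ∣_ O).continuous using 1
    rw [← Set.preimage_comp, ← Set.preimage_comp, ← TopCat.coe_comp, ← TopCat.coe_comp,
      ← Scheme.Hom.comp_base, ← Scheme.Hom.comp_base, morphismRestrict_ι]
  have hci : IsClosedImmersion (f' ∣_ eY ⁻¹ᵁ O) :=
    (isImmersion_iff_restrict f' (eY ⁻¹ᵁ O) (by rw [range_f' sqX]; exact Set.preimage_mono h₁) h₂').1 hf
  haveI := flat_point h
  haveI := surjective_of_point h
  haveI := isAffine_point T
  haveI := isAffine_point T'
  haveI : QuasiCompact h := inferInstance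
  haveI : Flat eY := MorphismProperty.of_isPullback sqY.flip ‹_›
  haveI : Surjective eY := hs
  haveI : QuasiCompact eY := MorphismProperty.of_isPullback sqY.flip ‹_›
  haveI := isLocallyNoetherian_point T
  haveI : IsLocallyNoetherian Y := LocallyOfFiniteType.isLocallyNoetherian g
  haveI : CompactSpace Y := QuasiCompact.compactSpace_of_compactSpace g
  haveI : AlgebraicGeometry.IsNoetherian Y := {}
  haveI : LocallyOfFiniteType f := locallyOfFiniteType_of_comp f g
  haveI : QuasiCompact f := QuasiCompact.of_comp f g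
  have hY : IsPullback (eY ∣_ O) (eY ⁻¹ᵁ O).ι O.ι eY := isPullback_morphismRestrict eY O
  exact fpqcDescends_of_descendsAlong EtFound.fpqc_isClosedImmersion sq
    (MorphismProperty.of_isPullback hY.flip ‹Surjective eY›) (MorphismProperty.of_isPullback hY.flip ‹Flat eY›)
    (MorphismProperty.of_isPullback hY.flip ‹QuasiCompact eY›) inferInstance inferInstance hci

/-- Sets avoiding each other on the generic fibre have this property near it. -/
theorem exists_nhd_inter_closure [IsIntegral S] [IsNoetherian S] (g : Y ⟶ S) [LocallyOfFiniteType g]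
    [QuasiCompact g] {A R : Set Y} (hA : IsConstructible A) (hR : IsConstructible R)
    (h : Disjoint (g.fiberι (genericPoint S) ⁻¹' R) (closure (g.fiberι (genericPoint S) ⁻¹' A))) :
    ∃ W : Set S, IsOpen W ∧ genericPoint S ∈ W ∧ ∀ y ∈ R, g y ∈ W → y ∉ closure A := by
  haveI : IsLocallyNoetherian Y := LocallyOfFiniteType.isLocallyNoetherian g
  haveI : CompactSpace Y := QuasiCompact.compactSpace_of_compactSpace g
  haveI : AlgebraicGeometry.IsNoetherian Y := {}
  obtain ⟨W, hW, hη, hk⟩ := image_avoid g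
    (hR.inter (SpecLib.isConstructible_of_isClosed (isClosed_closure (s := A)))) fun y hy e => by
      obtain ⟨z, hz, hzy⟩ := (ProConsLib.consClosed_of_isConstructible hA).exists_specializes_of_mem_closure hy.2
      have hzη : g z = genericPoint S :=
        (((hzy.map g.continuous).trans (specializes_of_eq e)).antisymm
          ((genericPoint_spec S).specializes (Set.mem_univ _))).eq
      obtain ⟨z', rfl⟩ := (g.range_fiberι (genericPoint S)).ge hzη
      obtain ⟨y', rfl⟩ := (g.range_fiberι (genericPoint S)).ge e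
      exact Set.disjoint_left.1 h hy.1
        (((g.fiberι _).isEmbedding.isInducing.specializes_iff.1 hzy).mem_closed isClosed_closure (subset_closure hz))
  exact ⟨W, hW, hη, fun y hy hyW hc => hk y ⟨hy, hc⟩ hyW⟩

theorem isConstructible_range_of_finiteType [IsNoetherian S] (f : X ⟶ Y) (g : Y ⟶ S) [LocallyOfFiniteType g]
    [QuasiCompact g] [LocallyOfFiniteType f] [QuasiCompact f] : IsConstructible (Set.range f) := by
  haveI : IsLocallyNoetherian Y := LocallyOfFiniteType.isLocallyNoetherian g
  haveI : CompactSpace Y := QuasiCompact.compactSpace_of_compactSpace g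
  haveI : AlgebraicGeometry.IsNoetherian Y := {}
  haveI : LocallyOfFinitePresentation f := inferInstance
  rw [← Set.image_univ]
  exact f.isConstructible_image IsConstructible.univ

/-- EGA IV 9.6.1: immersions. -/
theorem isConsMor_isImmersion : ConsProp.IsConsMor.{u} (fun X Y _T (f : X ⟶ Y) _ => IsImmersion f) := by
  refine ⟨isFieldStableMor_isImmersion, fun X Y S f g _ _ _ _ _ _ => ?_⟩
  let L : Set S := {s | IsImmersion (MoreMor.fiberMap f g s)}
  change (interior L).Nonempty ∨ (interior Lᶜ).Nonempty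
  haveI : IsLocallyNoetherian Y := LocallyOfFiniteType.isLocallyNoetherian g
  haveI : CompactSpace Y := QuasiCompact.compactSpace_of_compactSpace g
  haveI : AlgebraicGeometry.IsNoetherian Y := {}
  haveI : LocallyOfFiniteType f := locallyOfFiniteType_of_comp f g
  haveI : QuasiCompact f := QuasiCompact.of_comp f g
  let η := genericPoint S
  have hR := isConstructible_range_of_finiteType f g
  let R : Set Y := Set.range f
  by_cases hlc : IsLocallyClosed (g.fiberι η ⁻¹' R)
  swap
  · refine .inr ((nhd_generic (A := _) (isConstructible_setsLocus stable_lc dichotomy_lc g hR hR).compl hlc).mono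
      (interior_mono fun s hs hs' => (show ¬ IsLocallyClosed (g.fiberι s ⁻¹' R) from hs) ?_))
    haveI : IsImmersion (MoreMor.fiberMap f g s) := hs'
    rw [← range_f' (isPullback_fiberMap f g s)]
    exact (MoreMor.fiberMap f g s).isLocallyClosed_range
  let A : Set Y := closure R \ R
  have hA : IsConstructible A := (SpecLib.isConstructible_of_isClosed isClosed_closure).sdiff hR
  have hd : Disjoint (g.fiberι η ⁻¹' R) (closure (g.fiberι η ⁻¹' A)) := by
    refine Set.disjoint_left.2 fun w hw hc => ?_
    have h1 : g.fiberι η ⁻¹' A ⊆ closure (g.fiberι η ⁻¹' R) \ g.fiberι η ⁻¹' R := fun v hv => ⟨by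
      obtain ⟨z, hz, hzv⟩ := (ProConsLib.consClosed_of_isConstructible hR).exists_specializes_of_mem_closure hv.1
      have hzη : g z = η :=
        (((hzv.map g.continuous).trans (specializes_of_eq ((g.range_fiberι η).le ⟨v, rfl⟩))).antisymm
          ((genericPoint_spec S).specializes (Set.mem_univ _))).eq
      obtain ⟨z', rfl⟩ := (g.range_fiberι η).ge hzη
      exact ((g.fiberι η).isEmbedding.isInducing.specializes_iff.1 hzv).mem_closed isClosed_closure
        (subset_closure hz), hv.2⟩
    exact ((closure_minimal h1 ((isLocallyClosed_iff_isClosed _).1 hlc)) hc).2 hw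
  obtain ⟨W, hW, hηW, hk⟩ := exists_nhd_inter_closure g hA hR hd
  let O : Y.Opens := ⟨(closure A)ᶜ, isClosed_closure.isOpen_compl⟩
  haveI : LocallyOfFiniteType (f ∣_ O) := inferInstance
  haveI : QuasiCompact (O.ι ≫ g) := inferInstance
  haveI : LocallyOfFiniteType ((f ∣_ O) ≫ O.ι ≫ g) := inferInstance
  haveI : QuasiCompact ((f ∣_ O) ≫ O.ι ≫ g) := inferInstance
  let L' := ConsProp.locusMor (fun X Y _T (f : X ⟶ Y) _ => IsClosedImmersion f) (f ∣_ O) (O.ι ≫ g)
  have hL : ∀ s ∈ W, s ∈ L ↔ s ∈ L' := fun s hs => by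
    let f' := MoreMor.fiberMap f g s
    have hgs : ∀ w, g (g.fiberι s w) = s := fun w => (g.range_fiberι s).le ⟨w, rfl⟩
    have h₁ : Set.range f' ⊆ (g.fiberι s ⁻¹ᵁ O : Set _) := fun w hw =>
      hk _ ((range_f' (isPullback_fiberMap f g s)).le hw) ((hgs w).symm ▸ hs)
    have h₂ : IsClosed ((g.fiberι s ⁻¹ᵁ O).ι ⁻¹' Set.range f') := by
      rw [range_f' (isPullback_fiberMap f g s)]
      convert (isClosed_closure (s := R)).preimage ((g.fiberι s ⁻¹ᵁ O).ι ≫ g.fiberι s).continuous using 1
      exact Set.Subset.antisymm (fun z hz => subset_closure hz) fun z hz => by_contra fun hn =>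
        z.2 (subset_closure ⟨hz, hn⟩)
    exact (isImmersion_iff_restrict f' _ h₁ h₂).trans (restrict_fiberMap_iff @IsClosedImmersion f g s O).symm
  have hL' : IsConstructible L' := isConstructible_locusMor isConsMor_isClosedImmersion _ _
  by_cases hη : η ∈ L'
  · exact .inl ((nhd_generic ((SpecLib.isConstructible_of_isOpen hW).inter hL') ⟨hηW, hη⟩).mono
      (interior_mono fun s hs => (hL s hs.1).2 hs.2))
  · exact .inr ((nhd_generic ((SpecLib.isConstructible_of_isOpen hW).inter hL'.compl) ⟨hηW, hη⟩).mono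
      (interior_mono fun s hs h => hs.2 ((hL s hs.1).1 h)))

/-- EGA IV 9.6.1: open immersions. -/
theorem isConsMor_isOpenImmersion : ConsProp.IsConsMor.{u} (fun X Y _T (f : X ⟶ Y) _ => IsOpenImmersion f) := by
  refine ⟨isFieldStableMor_of_descends (Q := @IsOpenImmersion) (fpqcDescends_of_descendsAlong inferInstance),
    fun X Y S f g _ _ _ _ _ _ => ?_⟩
  let L : Set S := {s | IsOpenImmersion (MoreMor.fiberMap f g s)}
  change (interior L).Nonempty ∨ (interior Lᶜ).Nonempty
  haveI : IsLocallyNoetherian Y := LocallyOfFiniteType.isLocallyNoetherian g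
  haveI : CompactSpace Y := QuasiCompact.compactSpace_of_compactSpace g
  haveI : AlgebraicGeometry.IsNoetherian Y := {}
  haveI : LocallyOfFiniteType f := locallyOfFiniteType_of_comp f g
  haveI : QuasiCompact f := QuasiCompact.of_comp f g
  let η := genericPoint S
  have hR := isConstructible_range_of_finiteType f g
  let R : Set Y := Set.range f
  by_cases ho : IsClosed (g.fiberι η ⁻¹' Rᶜ)
  swap
  · refine .inr ((nhd_generic (A := _) (isConstructible_setsLocus stable_closed dichotomy_closed g hR.compl hR.compl).compl ho).mono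
      (interior_mono fun s hs hs' => (show ¬ IsClosed (g.fiberι s ⁻¹' Rᶜ) from hs) ?_))
    haveI : IsOpenImmersion (MoreMor.fiberMap f g s) := hs'
    rw [Set.preimage_compl, ← range_f' (isPullback_fiberMap f g s)]
    exact (MoreMor.fiberMap f g s).isOpenEmbedding.isOpen_range.isClosed_compl
  obtain ⟨W, hW, hηW, hk⟩ := exists_nhd_inter_closure g hR.compl hR
    (Set.disjoint_left.2 fun w hw hc => (ho.closure_eq.le hc) hw)
  let O : Y.Opens := ⟨(closure Rᶜ)ᶜ, isClosed_closure.isOpen_compl⟩
  haveI : LocallyOfFiniteType (f ∣_ O) := inferInstance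
  haveI : QuasiCompact (O.ι ≫ g) := inferInstance
  haveI : LocallyOfFiniteType ((f ∣_ O) ≫ O.ι ≫ g) := inferInstance
  haveI : QuasiCompact ((f ∣_ O) ≫ O.ι ≫ g) := inferInstance
  let L' := ConsProp.locusMor (fun X Y _T (f : X ⟶ Y) _ => IsIso f) (f ∣_ O) (O.ι ≫ g)
  have hL : ∀ s ∈ W, s ∈ L ↔ s ∈ L' := fun s hs => by
    let f' := MoreMor.fiberMap f g s
    have hgs : ∀ w, g (g.fiberι s w) = s := fun w => (g.range_fiberι s).le ⟨w, rfl⟩
    have h₁ : Set.range f' = (g.fiberι s ⁻¹ᵁ O : Set _) := by
      rw [range_f' (isPullback_fiberMap f g s)]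
      exact Set.Subset.antisymm (fun w hw => hk _ hw ((hgs w).symm ▸ hs)) fun w hw =>
        by_contra fun hn => hw (subset_closure hn)
    exact (isOpenImmersion_iff_restrict f' _ h₁).trans
      (restrict_fiberMap_iff (MorphismProperty.isomorphisms Scheme.{u}) f g s O).symm
  have hL' : IsConstructible L' := isConstructible_locusMor isConsMor_isIso _ _
  by_cases hη : η ∈ L'
  · exact .inl ((nhd_generic ((SpecLib.isConstructible_of_isOpen hW).inter hL') ⟨hηW, hη⟩).mono
      (interior_mono fun s hs => (hL s hs.1).2 hs.2))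
  · exact .inr ((nhd_generic ((SpecLib.isConstructible_of_isOpen hW).inter hL'.compl) ⟨hηW, hη⟩).mono
      (interior_mono fun s hs h => hs.2 ((hL s hs.1).1 h)))

end Groth.Agent.ConsPropLib
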