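import Groth.Agent.GenFree.Basic
import Mathlib

/-!
# A finite algebra map is generically bijective on fibres or generically not
-/

set_option autoImplicit false
set_option linter.style.haveILetI false

open TensorProduct Groth.Agent.GenFree

namespace Groth.Agent.ConsPropLib

universe u

variable {R : Type u} [CommRing R] {f : R}

theorem gfree_of_equiv {M N : Type u} [AddCommGroup M] [Module R M] [AddCommGroup N] [Module R N]
    (e : M ≃ₗ[R] N) (h : GFree R f M) : GFree R f N := by
  obtain ⟨ι, φ, hφ, hr⟩ := h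
  refine ⟨ι, e.toLinearMap.comp φ, e.injective.comp hφ, fun n => ?_⟩
  obtain ⟨k, c, hc⟩ := hr (e.symm n)
  exact ⟨k, c, by simp [hc]⟩

theorem gfree_of_torsion {M : Type u} [AddCommGroup M] [Module R M] (h : ∀ m : M, ∃ n : ℕ, f ^ n • m = 0) :
    GFree R f M := by
  refine ⟨PEmpty, 0, fun x y _ => Subsingleton.elim x y, fun m => ?_⟩
  obtain ⟨n, hn⟩ := h m
  exact ⟨n, 0, by simp [hn]⟩

variable {k : Type u} [CommRing k] [Algebra R k]

/-- Tensoring with an algebra in which `f` is invertible keeps an injection with `f`-generically free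
cokernel injective. -/
theorem lTensor_injective_of_gfree {A B : Type u} [AddCommGroup A] [Module R A] [AddCommGroup B] [Module R B]
    (j : A →ₗ[R] B) (hj : Function.Injective j) (hu : IsUnit (algebraMap R k f))
    (h : GFree R f (B ⧸ LinearMap.range j)) : Function.Injective (j.lTensor k) := by
  obtain ⟨ι, φ, hφ, hr⟩ := h
  let q := (LinearMap.range j).mkQ
  let ψ : (ι →₀ R) →ₗ[R] B :=
    Finsupp.linearCombination R fun i => Function.surjInv (LinearMap.range j).mkQ_surjective (φ (Finsupp.single i 1))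
  have hψ : ∀ c, q (ψ c) = φ c := fun c => LinearMap.congr_fun (f := q ∘ₗ ψ) (g := φ)
    (Finsupp.lhom_ext' fun i => LinearMap.ext_ring (by
      simpa [ψ, q] using Function.surjInv_eq (LinearMap.range j).mkQ_surjective (φ (Finsupp.single i 1)))) c
  have hex : ∀ b, ∃ p : ℕ × A × (ι →₀ R), f ^ p.1 • b = j p.2.1 + ψ p.2.2 := fun b => by
    obtain ⟨n, c, hc⟩ := hr (q b)
    obtain ⟨a, ha⟩ : f ^ n • b - ψ c ∈ LinearMap.range j :=
      (Submodule.Quotient.eq _).1 (show q (f ^ n • b) = q (ψ c) by rw [map_smul, ← hc, hψ])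
    exact ⟨⟨n, a, c⟩, eq_add_of_sub_eq ha.symm⟩
  choose p hp using hex
  let v : k := ↑hu.unit⁻¹
  have hv : algebraMap R k f * v = 1 := hu.mul_val_inv
  let r : B → k ⊗[R] A := fun b => (v ^ (p b).1) ⊗ₜ[R] (p b).2.1
  have key : ∀ b n a c, f ^ n • b = j a + ψ c → r b = (v ^ n) ⊗ₜ[R] a := fun b n a c h1 => by
    have h2 := hp b
    set m := (p b).1
    set a' := (p b).2.1
    set c' := (p b).2.2
    have h3 : j (f ^ m • a) + ψ (f ^ m • c) = j (f ^ n • a') + ψ (f ^ n • c') := by
      rw [map_smul, map_smul, map_smul, map_smul, ← smul_add, ← smul_add, ← h1, ← h2, smul_comm]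
    have hc : f ^ m • c = f ^ n • c' := hφ (by
      rw [← hψ, ← hψ]
      have := congrArg q h3
      rwa [map_add, map_add, show q (j (f ^ m • a)) = 0 from (Submodule.Quotient.mk_eq_zero _).2 ⟨_, rfl⟩,
        show q (j (f ^ n • a')) = 0 from (Submodule.Quotient.mk_eq_zero _).2 ⟨_, rfl⟩, zero_add, zero_add] at this)
    rw [hc, add_left_inj] at h3
    have h4 : ∀ (i l : ℕ) (x : A), (v ^ (i + l)) ⊗ₜ[R] (f ^ l • x) = (v ^ i) ⊗ₜ[R] x := fun i l x => by
      rw [tmul_smul, smul_tmul', Algebra.smul_def, map_pow, pow_add, mul_left_comm, ← mul_pow, hv, one_pow,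
        mul_one]
    show (v ^ m) ⊗ₜ[R] a' = _
    rw [← h4 m n a', ← h4 n m a, add_comm n m, hj h3]
  have radd : ∀ x y, r (x + y) = r x + r y := fun x y => by
    have h4 : ∀ (z : B) (l : ℕ), r z = (v ^ ((p z).1 + l)) ⊗ₜ[R] (f ^ l • (p z).2.1) := fun z l =>
      key z _ _ (f ^ l • (p z).2.2) (by rw [pow_add, mul_comm, mul_smul, hp, smul_add, map_smul, map_smul])
    rw [h4 x (p y).1, h4 y (p x).1, add_comm (p y).1 (p x).1, ← tmul_add]
    refine key _ _ _ (f ^ (p y).1 • (p x).2.2 + f ^ (p x).1 • (p y).2.2) ?_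
    rw [map_add, map_add, map_smul, map_smul, map_smul, map_smul, smul_add, pow_add, mul_smul, mul_smul,
      smul_comm (f ^ (p x).1) (f ^ (p y).1) x, hp x, hp y, smul_add, smul_add]
    abel
  have rsmul : ∀ (a : R) x, r (a • x) = a • r x := fun a x => by
    show _ = a • ((v ^ (p x).1) ⊗ₜ[R] (p x).2.1)
    rw [← tmul_smul]
    exact key _ _ _ (a • (p x).2.2) (by rw [smul_comm, hp, smul_add, map_smul, map_smul])
  let rl : B →ₗ[R] k ⊗[R] A := { toFun := r, map_add' := radd, map_smul' := rsmul }
  let L : k ⊗[R] B →ₗ[k] k ⊗[R] A := rl.liftBaseChange k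
  refine Function.LeftInverse.injective (g := L) fun z => ?_
  induction z with
  | zero => rw [map_zero, map_zero]
  | add x y hx hy => rw [map_add, map_add, hx, hy]
  | tmul z a =>
    rw [LinearMap.lTensor_tmul, LinearMap.liftBaseChange_tmul]
    show z • r (j a) = z ⊗ₜ[R] a
    rw [key (j a) 0 a 0 (by simp), pow_zero, smul_tmul', smul_eq_mul, mul_one]

theorem subsingleton_tensor_of_torsion {M : Type u} [AddCommGroup M] [Module R M]
    (hu : IsUnit (algebraMap R k f)) (h : ∀ m : M, ∃ n : ℕ, f ^ n • m = 0) : Subsingleton (k ⊗[R] M) := by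
  refine subsingleton_of_forall_eq 0 fun z => ?_
  induction z with
  | zero => rfl
  | add x y hx hy => rw [hx, hy, add_zero]
  | tmul z m =>
    obtain ⟨n, hn⟩ := h m
    have h1 : (z * ↑(hu.unit⁻¹ ^ n)) ⊗ₜ[R] (f ^ n • m) = z ⊗ₜ[R] m := by
      rw [tmul_smul, smul_tmul', Algebra.smul_def, map_pow, mul_left_comm, Units.val_pow_eq_pow_val,
        ← mul_pow, hu.mul_val_inv, one_pow, mul_one]
    rw [← h1, hn, tmul_zero]

/-- A generically free module is torsion or has nonzero fibres. -/
theorem gfree_dichotomy {M : Type u} [AddCommGroup M] [Module R M] (h : GFree R f M) :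
    (∀ m : M, ∃ n : ℕ, f ^ n • m = 0) ∨
      ∀ (k : Type u) [CommRing k] [Algebra R k] [Nontrivial k], IsUnit (algebraMap R k f) → Nontrivial (k ⊗[R] M) := by
  obtain ⟨ι, φ, hφ, hr⟩ := h
  rcases isEmpty_or_nonempty ι with he | hne
  · refine .inl fun m => ?_
    obtain ⟨n, c, hc⟩ := hr m
    exact ⟨n, by rw [← hc, Subsingleton.elim c 0, map_zero]⟩
  · refine .inr fun k _ _ _ hu => ?_
    have hi : Function.Injective (φ.lTensor k) := lTensor_injective_of_gfree φ hφ hu (gfree_of_torsion fun m => by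
      obtain ⟨m, rfl⟩ := (LinearMap.range φ).mkQ_surjective m
      obtain ⟨n, hn⟩ := hr m
      exact ⟨n, by rw [← map_smul]; exact (Submodule.Quotient.mk_eq_zero _).2 hn⟩)
    classical
    haveI : Nontrivial (ι →₀ k) := inferInstance
    haveI : Nontrivial (k ⊗[R] (ι →₀ R)) := (TensorProduct.finsuppScalarRight R R k ι).toEquiv.nontrivial
    exact hi.nontrivial

/-- A finite map of algebras of finite type over a noetherian domain is bijective on all fibres over some
nonempty basic open, or on none. -/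
theorem exists_lTensor_bijective_dichotomy [IsDomain R] [IsNoetherianRing R] (C B : Type u) [CommRing C]
    [CommRing B] [Algebra R C] [Algebra C B] [Algebra R B] [IsScalarTower R C B] [Algebra.FiniteType R C]
    [Module.Finite C B] :
    ∃ f : R, f ≠ 0 ∧
      ((∀ (k : Type u) [CommRing k] [Algebra R k], IsUnit (algebraMap R k f) →
          Function.Bijective (((Algebra.linearMap C B).restrictScalars R).lTensor k)) ∨
       ∀ (k : Type u) [CommRing k] [Algebra R k] [Nontrivial k], IsUnit (algebraMap R k f) →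
          ¬ Function.Bijective (((Algebra.linearMap C B).restrictScalars R).lTensor k)) := by
  haveI : IsNoetherianRing C := Algebra.FiniteType.isNoetherianRing R C
  let ψ := Algebra.linearMap C B
  obtain ⟨f₁, h₁, g₁⟩ := exists_gfree (R := R) (M := LinearMap.ker ψ) C
  obtain ⟨f₂, h₂, g₂⟩ := exists_gfree (R := R) (M := C ⧸ LinearMap.ker ψ) C
  obtain ⟨f₃, h₃, g₃⟩ := exists_gfree (R := R) (M := B ⧸ LinearMap.range ψ) C
  let f := f₁ * f₂ * f₃
  refine ⟨f, mul_ne_zero (mul_ne_zero h₁ h₂) h₃, ?_⟩
  let ρ := ψ.restrictScalars R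
  have gK : GFree R f (LinearMap.ker ρ) :=
    gfree_of_equiv (LinearEquiv.ofEq ((LinearMap.ker ψ).restrictScalars R) _ rfl)
      (g₁.of_dvd ⟨f₂ * f₃, mul_assoc _ _ _⟩ : GFree R f ((LinearMap.ker ψ).restrictScalars R))
  have gI : GFree R f (C ⧸ LinearMap.ker ρ) :=
    gfree_of_equiv ((Submodule.Quotient.restrictScalarsEquiv R (LinearMap.ker ψ)).symm)
      (g₂.of_dvd ((dvd_mul_left f₂ f₁).mul_right f₃))
  have gM : GFree R f (B ⧸ LinearMap.range ρ) :=
    gfree_of_equiv ((Submodule.Quotient.restrictScalarsEquiv R (LinearMap.range ψ)).symm)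
      (g₃.of_dvd (dvd_mul_left f₃ _))
  have hker : ∀ (k : Type u) [CommRing k] [Algebra R k], IsUnit (algebraMap R k f) →
      Function.Injective ((LinearMap.ker ρ).subtype.lTensor k) := fun k _ _ hu =>
    lTensor_injective_of_gfree _ Subtype.val_injective hu
      (gfree_of_equiv (Submodule.quotEquivOfEq _ _ (LinearMap.ker ρ).range_subtype.symm) gI)
  have hzero : ∀ (k : Type u) [CommRing k] [Algebra R k] (z : k ⊗[R] LinearMap.ker ρ),
      ρ.lTensor k ((LinearMap.ker ρ).subtype.lTensor k z) = 0 := fun k _ _ z => by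
    rw [← LinearMap.comp_apply, ← LinearMap.lTensor_comp, ρ.comp_ker_subtype, LinearMap.lTensor_zero,
      LinearMap.zero_apply]
  rcases gfree_dichotomy gK with tK | nK
  · rcases gfree_dichotomy gM with tM | nM
    · refine .inl fun k _ _ hu => ⟨?_, fun y => ?_⟩
      · let π := ρ.rangeRestrict
        have e : ρ = (LinearMap.range ρ).subtype ∘ₗ π := (LinearMap.subtype_comp_codRestrict _ _ _).symm
        have h2 : Function.Injective ((LinearMap.range ρ).subtype.lTensor k) :=
          lTensor_injective_of_gfree _ Subtype.val_injective hu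
            (gfree_of_equiv (Submodule.quotEquivOfEq _ _ (LinearMap.range ρ).range_subtype.symm) gM)
        show Function.Injective (ρ.lTensor k)
        rw [e, LinearMap.lTensor_comp]
        refine h2.comp ((injective_iff_map_eq_zero _).2 fun z hz => ?_)
        obtain ⟨w, rfl⟩ := (lTensor_exact k (LinearMap.exact_subtype_ker_map π) ρ.surjective_rangeRestrict z).1 hz
        haveI := subsingleton_tensor_of_torsion (k := k) hu (M := LinearMap.ker π) (fun m => by
          obtain ⟨n, hn⟩ := tK ⟨m, ρ.ker_rangeRestrict.le m.2⟩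
          exact ⟨n, Subtype.ext (show (f ^ n • (m : C)) = 0 from congrArg Subtype.val hn)⟩)
        rw [Subsingleton.elim w 0, map_zero]
      · haveI := subsingleton_tensor_of_torsion (k := k) hu tM
        exact (lTensor_exact k (LinearMap.exact_map_mkQ_range ρ) (LinearMap.range ρ).mkQ_surjective y).1
          (Subsingleton.elim _ _)
    · refine .inr fun k _ _ _ hu hb => ?_
      haveI := nM k hu
      refine not_subsingleton (k ⊗[R] (B ⧸ LinearMap.range ρ)) (subsingleton_of_forall_eq 0 fun z => ?_)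
      obtain ⟨y, rfl⟩ := LinearMap.lTensor_surjective k (LinearMap.range ρ).mkQ_surjective z
      exact (lTensor_exact k (LinearMap.exact_map_mkQ_range ρ) (LinearMap.range ρ).mkQ_surjective y).2 (hb.2 y)
  · refine .inr fun k _ _ _ hu hb => ?_
    haveI := nK k hu
    refine not_subsingleton (k ⊗[R] LinearMap.ker ρ) (subsingleton_of_forall_eq 0 fun z => hker k hu ?_)
    rw [map_zero]
    exact hb.1 ((hzero k z).trans (map_zero _).symm)

end Groth.Agent.ConsPropLib
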