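import Groth.Agent.ConsPropLib.FibreTop

/-!
# Density, closedness, openness and local closedness in fibres are constructible (EGA IV 9.5.3, 9.5.4)
-/

set_option autoImplicit false
set_option linter.style.haveILetI false

open CategoryTheory CategoryTheory.Limits AlgebraicGeometry Topology

namespace Groth.Agent.ConsPropLib

universe u

/-- Where `Z` is dense in `Z'` on the fibres. -/
def denseLocus : ∀ ⦃X S : Scheme.{u}⦄, (X ⟶ S) → Set X → Set X → Set S :=
  fun _ _ f Z Z' => {s | Z' ∩ f ⁻¹' {s} ⊆ closure (Z ∩ f ⁻¹' {s})}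

/-- Where `Z` is closed in the fibre. -/
def closedLocus : ∀ ⦃X S : Scheme.{u}⦄, (X ⟶ S) → Set X → Set X → Set S :=
  fun _ _ f Z _ => {s | IsClosed (f.fiberι s ⁻¹' Z)}

/-- Where `Z` is locally closed in the fibre. -/
def lcLocus : ∀ ⦃X S : Scheme.{u}⦄, (X ⟶ S) → Set X → Set X → Set S :=
  fun _ _ f Z _ => {s | IsLocallyClosed (f.fiberι s ⁻¹' Z)}

theorem isLocallyClosed_iff_isClosed {α : Type*} [TopologicalSpace α] (A : Set α) :
    IsLocallyClosed A ↔ IsClosed (closure A \ A) := by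
  rw [isLocallyClosed_iff_isOpen_coborder, coborder, isOpen_compl_iff]

theorem fiber_preimage {X X' S S' : Scheme.{u}} {f : X ⟶ S} {f' : X' ⟶ S'} {p : X' ⟶ X} {h : S' ⟶ S}
    (s' : S') {e : f'.fiber s' ⟶ f.fiber (h s')} (he : f'.fiberι s' ≫ p = e ≫ f.fiberι (h s')) (Z : Set X) :
    f'.fiberι s' ⁻¹' (p ⁻¹' Z) = e ⁻¹' (f.fiberι (h s') ⁻¹' Z) := by
  rw [← Set.preimage_comp, ← TopCat.coe_comp, ← Scheme.Hom.comp_base, he, Scheme.Hom.comp_base,
    TopCat.coe_comp, Set.preimage_comp]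

theorem stable_dense : SetsStable.{u} denseLocus := by
  intro X X' S S' f f' p h Z Z' sq
  ext s'
  obtain ⟨e, hs, ho, he⟩ := exists_fibre_openSurjective sq s'
  simp only [denseLocus, Set.mem_setOf_eq, Set.mem_preimage]
  rw [dense_iff_fiber, dense_iff_fiber, fiber_preimage s' he, fiber_preimage s' he,
    ← ho.preimage_closure_eq_closure_preimage e.continuous, e.surjective.preimage_subset_preimage_iff]

theorem stable_closed : SetsStable.{u} closedLocus := by
  intro X X' S S' f f' p h Z Z' sq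
  ext s'
  obtain ⟨e, hs, ho, he⟩ := exists_fibre_openSurjective sq s'
  show IsClosed _ ↔ IsClosed _
  rw [fiber_preimage s' he, (ho.isQuotientMap e.continuous e.surjective).isClosed_preimage]

theorem stable_lc : SetsStable.{u} lcLocus := by
  intro X X' S S' f f' p h Z Z' sq
  ext s'
  obtain ⟨e, hs, ho, he⟩ := exists_fibre_openSurjective sq s'
  show IsLocallyClosed _ ↔ IsLocallyClosed _
  rw [isLocallyClosed_iff_isClosed, isLocallyClosed_iff_isClosed, fiber_preimage s' he,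
    ← ho.preimage_closure_eq_closure_preimage e.continuous, ← Set.preimage_sdiff,
    (ho.isQuotientMap e.continuous e.surjective).isClosed_preimage]

section

variable {X S : Scheme.{u}} (f : X ⟶ S)

theorem closure_fiber (Z : Set X) (s : S) :
    closure (f.fiberι s ⁻¹' Z) = f.fiberι s ⁻¹' closure (Z ∩ f ⁻¹' {s}) := by
  rw [(f.fiberι s).isEmbedding.isInducing.closure_eq_preimage_closure_image, Set.image_preimage_eq_inter_range,
    Scheme.Hom.range_fiberι]

theorem fiber_eq_of_eq {A B : Set X} {s : S} (h : A ∩ f ⁻¹' {s} = B ∩ f ⁻¹' {s}) :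
    f.fiberι s ⁻¹' A = f.fiberι s ⁻¹' B := by
  ext w
  have hw : f.fiberι s w ∈ f ⁻¹' {s} := (f.range_fiberι s).le ⟨w, rfl⟩
  exact ⟨fun hx => (h.le ⟨hx, hw⟩).1, fun hx => (h.ge ⟨hx, hw⟩).1⟩

theorem not_isClosed_fiber {A : Set X} {s : S} {y : X} (hy : y ∈ closure (A ∩ f ⁻¹' {s})) (hys : f y = s)
    (hyA : y ∉ A) : ¬ IsClosed (f.fiberι s ⁻¹' A) := fun hc => by
  obtain ⟨w, rfl⟩ : y ∈ Set.range (f.fiberι s) := (f.range_fiberι s).ge hys
  exact hyA (hc.closure_eq.le ((closure_fiber f A s).ge hy))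

end

theorem dichotomy_dense : SetsDichotomy.{u} denseLocus := by
  intro X S f _ _ _ _ Z Z' hZ hZ'
  haveI : IsLocallyNoetherian X := LocallyOfFiniteType.isLocallyNoetherian f
  haveI : CompactSpace X := QuasiCompact.compactSpace_of_compactSpace f
  haveI : IsNoetherian X := {}
  by_cases h : Z' ∩ f ⁻¹' {genericPoint S} ⊆ closure (Z ∩ f ⁻¹' {genericPoint S})
  · obtain ⟨W, hW, hη, hk⟩ := exists_nhd_dense f hZ hZ' h
    exact .inl ⟨_, interior_maximal (t := W) (fun s hs => hk s hs) hW hη⟩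
  · obtain ⟨z, ⟨hzZ, hzη⟩, hz⟩ := Set.not_subset.1 h
    let O : Set X := (closure (Z ∩ f ⁻¹' {genericPoint S}))ᶜ
    have hO : IsConstructible O := SpecLib.isConstructible_of_isOpen isClosed_closure.isOpen_compl
    obtain ⟨W₁, o₁, η₁, k₁⟩ := image_avoid f (hO.inter hZ) fun x hx e => hx.1 (subset_closure ⟨hx.2, e⟩)
    obtain ⟨W₂, o₂, η₂, k₂⟩ := image_meet f (hO.inter hZ') (show z ∈ O ∩ Z' from ⟨hz, hzZ⟩) hzη
    refine .inr ⟨_, interior_maximal (t := W₁ ∩ W₂) (s := (denseLocus f Z Z')ᶜ) (fun s hs hd => ?_)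
      (o₁.inter o₂) ⟨η₁, η₂⟩⟩
    obtain ⟨y, ⟨hyO, hyZ⟩, hys⟩ := k₂ s hs.2
    obtain ⟨x, hxO, hxZ, hxs⟩ := mem_closure_iff.1 (hd ⟨hyZ, hys⟩) O isClosed_closure.isOpen_compl hyO
    exact k₁ x ⟨hxO, hxZ⟩ (show f x ∈ W₁ from (show f x = s from hxs).symm ▸ hs.1)

theorem dichotomy_closed : SetsDichotomy.{u} closedLocus := by
  intro X S f _ _ _ _ Z Z' hZ _
  haveI : IsLocallyNoetherian X := LocallyOfFiniteType.isLocallyNoetherian f
  haveI : CompactSpace X := QuasiCompact.compactSpace_of_compactSpace f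
  haveI : IsNoetherian X := {}
  by_cases h : closure (Z ∩ f ⁻¹' {genericPoint S}) ∩ f ⁻¹' {genericPoint S} ⊆ Z
  · obtain ⟨W, hW, hη, hk⟩ := exists_nhd_eq_on_fibres f hZ
      (SpecLib.isConstructible_of_isClosed (isClosed_closure (s := Z ∩ f ⁻¹' {genericPoint S})))
      (Set.Subset.antisymm (fun x hx => ⟨subset_closure hx, hx.2⟩) fun x hx => ⟨h hx, hx.2⟩)
    refine .inl ⟨_, interior_maximal (t := W) (s := closedLocus f Z Z') (fun s hs => ?_) hW hη⟩
    show IsClosed _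
    rw [fiber_eq_of_eq f (hk s hs)]
    exact isClosed_closure.preimage (f.fiberι s).continuous
  · obtain ⟨y, ⟨hyc, hyη⟩, hyZ⟩ := Set.not_subset.1 h
    obtain ⟨O, hO, hyO, hsub⟩ := exists_open_closure_subset hZ.compl hyZ
    have hA : IsConstructible (O ∩ closure {y}) :=
      (SpecLib.isConstructible_of_isOpen hO).inter (SpecLib.isConstructible_of_isClosed isClosed_closure)
    obtain ⟨W₁, o₁, η₁, k₁⟩ := image_meet f hA (show y ∈ O ∩ closure {y} from ⟨hyO, subset_closure rfl⟩) hyη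
    obtain ⟨W₂, o₂, η₂, k₂⟩ := exists_nhd_dense f hZ hA
      (fun x hx => closure_minimal (Set.singleton_subset_iff.2 hyc) isClosed_closure hx.1.2)
    refine .inr ⟨_, interior_maximal (t := W₁ ∩ W₂) (s := (closedLocus f Z Z')ᶜ) (fun s hs hc => ?_)
      (o₁.inter o₂) ⟨η₁, η₂⟩⟩
    obtain ⟨x, hx, hxs⟩ := k₁ s hs.1
    exact not_isClosed_fiber f (k₂ s hs.2 ⟨hx, hxs⟩) hxs (hsub hx) hc

theorem dichotomy_lc : SetsDichotomy.{u} lcLocus := by
  intro X S f _ _ _ _ Z Z' hZ _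
  haveI : IsLocallyNoetherian X := LocallyOfFiniteType.isLocallyNoetherian f
  haveI : CompactSpace X := QuasiCompact.compactSpace_of_compactSpace f
  haveI : IsNoetherian X := {}
  let C : Set X := closure (Z ∩ f ⁻¹' {genericPoint S})
  have hC : IsConstructible C := SpecLib.isConstructible_of_isClosed isClosed_closure
  let E : Set X := closure ((C \ Z) ∩ f ⁻¹' {genericPoint S})
  have hE : IsConstructible E := SpecLib.isConstructible_of_isClosed isClosed_closure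
  by_cases h : Z ∩ f ⁻¹' {genericPoint S} ⊆ Eᶜ
  · obtain ⟨W, hW, hη, hk⟩ := exists_nhd_eq_on_fibres f hZ (hE.compl.inter hC)
      (Set.Subset.antisymm (fun x hx => ⟨⟨h hx, subset_closure hx⟩, hx.2⟩)
        fun x hx => ⟨by_contra fun hxZ => hx.1.1 (subset_closure ⟨⟨hx.1.2, hxZ⟩, hx.2⟩), hx.2⟩)
    refine .inl ⟨_, interior_maximal (t := W) (s := lcLocus f Z Z') (fun s hs => ?_) hW hη⟩
    show IsLocallyClosed _
    rw [fiber_eq_of_eq f (hk s hs)]
    exact IsLocallyClosed.preimage ⟨Eᶜ, C, isClosed_closure.isOpen_compl, isClosed_closure, rfl⟩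
      (f.fiberι s).continuous
  · obtain ⟨y, ⟨hyZ, hyη⟩, hyE⟩ := Set.not_subset.1 h
    obtain ⟨O, hO, hyO, hsub⟩ := exists_open_closure_subset hZ hyZ
    have hA : IsConstructible (O ∩ closure {y}) :=
      (SpecLib.isConstructible_of_isOpen hO).inter (SpecLib.isConstructible_of_isClosed isClosed_closure)
    obtain ⟨W₁, o₁, η₁, k₁⟩ := image_meet f hA (show y ∈ O ∩ closure {y} from ⟨hyO, subset_closure rfl⟩) hyη
    obtain ⟨W₂, o₂, η₂, k₂⟩ := exists_nhd_dense f (hC.sdiff hZ) hA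
      (fun x hx => closure_minimal (Set.singleton_subset_iff.2 (not_not.1 hyE)) isClosed_closure hx.1.2)
    obtain ⟨W₃, o₃, η₃, k₃⟩ := exists_nhd_dense f hZ hC (fun x hx => hx.1)
    refine .inr ⟨_, interior_maximal (t := W₁ ∩ W₂ ∩ W₃) (s := (lcLocus f Z Z')ᶜ) (fun s hs hc => ?_)
      ((o₁.inter o₂).inter o₃) ⟨⟨η₁, η₂⟩, η₃⟩⟩
    obtain ⟨x, hx, hxs⟩ := k₁ s hs.1.1
    have hc' : IsClosed (f.fiberι s ⁻¹' (closure (Z ∩ f ⁻¹' {s}) \ Z)) := by
      have := (isLocallyClosed_iff_isClosed _).1 hc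
      rwa [closure_fiber, ← Set.preimage_sdiff] at this
    refine not_isClosed_fiber f (closure_mono ?_ (k₂ s hs.1.2 ⟨hx, hxs⟩)) hxs (fun h' => h'.2 (hsub hx)) hc'
    exact fun z hz => ⟨⟨k₃ s hs.2 ⟨hz.1.1, hz.2⟩, hz.1.2⟩, hz.2⟩

theorem dominant_fiberMap_iff {X Y S : Scheme.{u}} (f : X ⟶ Y) (g : Y ⟶ S) (s : S) :
    IsDominant (MoreMor.fiberMap f g s) ↔ s ∈ denseLocus g (Set.range f) Set.univ := by
  simp only [denseLocus, Set.mem_setOf_eq]
  rw [dense_iff_fiber, Set.preimage_univ, ← range_f' (isPullback_fiberMap f g s)]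
  exact ⟨fun h w _ => h.denseRange w, fun h => ⟨fun w => h (Set.mem_univ w)⟩⟩

end Groth.Agent.ConsPropLib
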