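import Groth.Agent.ConsPropLib.ExistsHom

/-!
# Properties of morphisms which descend along limits and fpqc coverings hold on ind-constructible loci
(EGA IV 9.6.1, positive side)
-/

set_option autoImplicit false
set_option linter.style.haveILetI false

open CategoryTheory CategoryTheory.Limits AlgebraicGeometry Topology Groth.Agent.SpecLib
  Groth.Agent.MorLib Groth.Agent.MorLib.Desc

namespace Groth.Agent.ConsPropLib

universe u

variable {Q : MorphismProperty Scheme.{u}}

/-- `Q` descends along faithfully flat quasi-compact morphisms, for morphisms of finite type. -/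
def FpqcDescends (Q : MorphismProperty Scheme.{u}) : Prop :=
  ∀ ⦃X X' Y Y' : Scheme.{u}⦄ ⦃f : X ⟶ Y⦄ ⦃f' : X' ⟶ Y'⦄ ⦃eX : X' ⟶ X⦄ ⦃eY : Y' ⟶ Y⦄,
    IsPullback eX f' f eY → Surjective eY → Flat eY → QuasiCompact eY →
    LocallyOfFiniteType f → QuasiCompact f → Q f' → Q f

theorem fpqcDescends_of_descendsAlong
    (h : Q.DescendsAlong (@Surjective ⊓ @Flat ⊓ @QuasiCompact : MorphismProperty Scheme.{u})) :
    FpqcDescends Q := fun _ _ _ _ _ _ _ _ sq h1 h2 h3 _ _ hf =>
  MorphismProperty.of_isPullback_of_descendsAlong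
    (Q := (@Surjective ⊓ @Flat ⊓ @QuasiCompact : MorphismProperty Scheme.{u})) sq.flip ⟨⟨h1, h2⟩, h3⟩ hf

theorem FpqcDescends.inf {Q' : MorphismProperty Scheme.{u}} (h : FpqcDescends Q) (h' : FpqcDescends Q') :
    FpqcDescends (Q ⊓ Q') := fun _ _ _ _ _ _ _ _ sq h1 h2 h3 h4 h5 hf =>
  ⟨h sq h1 h2 h3 h4 h5 hf.1, h' sq h1 h2 h3 h4 h5 hf.2⟩

theorem isFieldStableMor_of_descends [Q.IsStableUnderBaseChange] (hd : FpqcDescends Q) :
    ConsProp.IsFieldStableMor (fun X Y _T (f : X ⟶ Y) _ => Q f) := by
  intro X X' Y Y' T T' f g f' g' eX eY h _ _ _ _ _ _ _ _ sqY sqX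
  haveI := surjective_of_point h
  haveI := flat_point h
  haveI := isAffine_point T
  haveI := isAffine_point T'
  haveI : QuasiCompact h := inferInstance
  haveI : Surjective eY := MorphismProperty.of_isPullback sqY.flip ‹_›
  haveI : Flat eY := MorphismProperty.of_isPullback sqY.flip ‹_›
  haveI : QuasiCompact eY := MorphismProperty.of_isPullback sqY.flip ‹_›
  haveI := isLocallyNoetherian_point T
  haveI : IsLocallyNoetherian Y := LocallyOfFiniteType.isLocallyNoetherian g
  haveI : LocallyOfFiniteType f := locallyOfFiniteType_of_comp f g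
  haveI : QuasiCompact f := QuasiCompact.of_comp f g
  exact ⟨fun hf => MorphismProperty.of_isPullback sqX hf,
    fun hf' => hd sqX ‹_› ‹_› ‹_› ‹_› ‹_› hf'⟩

/-- The positive side of EGA IV 9.6.1. -/
theorem isIndConsMor_of_core [Q.IsStableUnderBaseChange] [Q.RespectsIso] [IsZariskiLocalAtTarget Q]
    {Q' : MorphismProperty Scheme.{u}} [Q'.IsStableUnderBaseChange] [Q'.RespectsIso]
    (hcore : Core Q Q') (hQ' : ∀ {X Y : Scheme.{u}} (f : X ⟶ Y), LocallyOfFinitePresentation f → Q' f)
    (hd : FpqcDescends Q) :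
    ConsProp.IsIndConsMor (fun X Y _T (f : X ⟶ Y) _ => Q f) := by
  refine ⟨isFieldStableMor_of_descends hd, fun X Y S f g _ _ _ _ _ _ hη => ?_⟩
  let η := genericPoint S
  haveI : IsLocallyNoetherian Y := LocallyOfFiniteType.isLocallyNoetherian g
  haveI : LocallyOfFiniteType f := locallyOfFiniteType_of_comp f g
  haveI : QuasiCompact f := QuasiCompact.of_comp f g
  obtain ⟨_, ⟨V₀, hV₀, rfl⟩, hηV, -⟩ :=
    S.isBasis_affineOpens.exists_subset_of_mem_open (Set.mem_univ η) isOpen_univ
  let V : S.Opens := V₀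
  haveI : IsAffine (V : Scheme.{u}) := hV₀
  haveI : IsLocallyNoetherian (V : Scheme.{u}) := inferInstance
  let F : Spec (S.residueField η) ⟶ S := S.fromSpecResidueField η
  let FV : Spec (S.residueField η) ⟶ (V : Scheme.{u}) := IsOpenImmersion.lift V.ι F (by
    rw [Scheme.Opens.range_ι]; rintro _ ⟨x, rfl⟩
    show F x ∈ V
    rw [Scheme.fromSpecResidueField_apply]; exact hηV)
  obtain ⟨I, _, _, D, c, hc, e, t, hA, ht, htc⟩ := exists_finiteType_limit FV
  haveI := hA
  haveI : ∀ {i j : I} (f : i ⟶ j), IsAffineHom (D.map f) := fun f => isAffineHom_of_isAffine _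
  obtain ⟨i⟩ := IsCofiltered.nonempty (C := I)
  let τ : ∀ j, D.obj j ⟶ S := fun j => t.app j ≫ V.ι
  have hτw : ∀ {j k : I} (φ : j ⟶ k), D.map φ ≫ τ k = τ j := fun {j k} φ => by
    have := t.naturality φ
    simp only [Functor.const_obj_map] at this
    show D.map φ ≫ t.app k ≫ V.ι = t.app j ≫ V.ι
    rw [reassoc_of% this]
    exact congrArg (t.app j ≫ ·) (Category.id_comp _)
  have hτc : ∀ j, c.π.app j ≫ τ j = e.hom ≫ F := fun j => by
    show c.π.app j ≫ t.app j ≫ V.ι = _
    rw [reassoc_of% htc j, IsOpenImmersion.lift_fac]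
  haveI : ∀ j, LocallyOfFiniteType (τ j) := fun j =>
    MorphismProperty.comp_mem _ _ _ (ht j) inferInstance
  haveI : ∀ j, IsLocallyNoetherian (D.obj j) := fun j => LocallyOfFiniteType.isLocallyNoetherian (τ j)
  haveI : ∀ j, IsNoetherian (D.obj j) := fun j => {}
  -- the morphism over the first stage
  let gi : pullback g (τ i) ⟶ D.obj i := pullback.snd g (τ i)
  let fi : pullback f (pullback.fst g (τ i)) ⟶ pullback g (τ i) := pullback.snd f (pullback.fst g (τ i))
  haveI : IsLocallyNoetherian (pullback g (τ i)) := LocallyOfFiniteType.isLocallyNoetherian gi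
  haveI : CompactSpace ↥(pullback g (τ i)) := QuasiCompact.compactSpace_of_compactSpace gi
  haveI : IsLocallyNoetherian (pullback f (pullback.fst g (τ i))) :=
    LocallyOfFiniteType.isLocallyNoetherian fi
  haveI : LocallyOfFinitePresentation fi := inferInstance
  haveI : QuasiSeparated fi := inferInstance
  let pi : c.pt ⟶ D.obj i := c.π.app i
  have sY : IsPullback (g.fiberι η) (g.fiberToSpecResidueField η ≫ e.inv) g (pi ≫ τ i) := by
    rw [hτc]
    exact (IsPullback.of_hasPullback g F).of_iso (Iso.refl _) (Iso.refl _) e.symm (Iso.refl _)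
      (Category.id_comp _).symm (Category.id_comp _).symm (by simp) (by simp [F])
  let qY := (IsPullback.of_hasPullback g (τ i)).lift _ ((g.fiberToSpecResidueField η ≫ e.inv) ≫ pi)
      (sY.w.trans (Category.assoc _ _ _).symm)
  have hqY : qY ≫ pullback.fst g (τ i) = g.fiberι η := IsPullback.lift_fst _ _ _ _
  have hY : IsPullback qY (g.fiberToSpecResidueField η ≫ e.inv) gi pi :=
    IsPullback.of_right (by rw [hqY]; exact sY) (IsPullback.lift_snd _ _ _ _)
      (IsPullback.of_hasPullback g (τ i))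
  obtain ⟨qX, hX⟩ : ∃ q, IsPullback q (MoreMor.fiberMap f g η) fi qY := by
    have h0 := isPullback_fiberMap f g η
    rw [← hqY] at h0
    exact ⟨(IsPullback.of_hasPullback f (pullback.fst g (τ i))).lift _ (MoreMor.fiberMap f g η ≫ qY)
      (h0.w.trans (Category.assoc _ _ _).symm),
      IsPullback.of_right (by rw [IsPullback.lift_fst]; exact h0) (IsPullback.lift_snd _ _ _ _)
        (IsPullback.of_hasPullback f (pullback.fst g (τ i)))⟩
  obtain ⟨k, ψ, Xk, Yk, fk, gk, pY, pX, sYk, sXk, hQk⟩ :=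
    descend₂ D c hc (P := Q) (Q := Q') hcore fi gi (hQ' fi inferInstance) _ _ qY qX hY hX hη
  have tY : IsPullback (pY ≫ pullback.fst g (τ i)) gk g (τ k) := by
    rw [← hτw ψ]
    exact sYk.paste_horiz (IsPullback.of_hasPullback g (τ i))
  have tX : IsPullback (pX ≫ pullback.fst f (pullback.fst g (τ i))) fk f (pY ≫ pullback.fst g (τ i)) :=
    sXk.paste_horiz (IsPullback.of_hasPullback f (pullback.fst g (τ i)))
  let L := ConsProp.locusMor (fun X Y _T (f : X ⟶ Y) _ => Q f) f g
  have hsubset : Set.range (τ k) ⊆ L := by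
    rintro _ ⟨z, rfl⟩
    show z ∈ τ k ⁻¹' L
    rw [← locusMor_preimage (isFieldStableMor_of_descends hd) tY tX]
    exact MorphismProperty.of_isPullback (isPullback_fiberMap fk gk z) hQk
  have hηk : η ∈ Set.range (τ k) := by
    obtain ⟨x⟩ : Nonempty (Spec (S.residueField η)) := inferInstance
    refine ⟨c.π.app k (e.inv x), ?_⟩
    rw [← Scheme.Hom.comp_apply, hτc, ← Scheme.Hom.comp_apply, e.inv_hom_id_assoc,
      Scheme.fromSpecResidueField_apply]
  haveI : QuasiCompact (τ k) := quasiCompact_of_compactSpace _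
  haveI : LocallyOfFinitePresentation (τ k) := inferInstance
  have hcons : Topology.IsConstructible (Set.range (τ k)) := by
    rw [← Set.image_univ]
    exact (τ k).isConstructible_image Topology.IsConstructible.univ
  exact ⟨η, interior_mono hsubset (mem_interior_iff_mem_nhds.2 (FibDim.mem_nhds_of_generizations
    hcons.isLocallyConstructible (y := η) fun s hs =>
      (hs.antisymm ((genericPoint_spec S).specializes (Set.mem_univ _))).eq.symm ▸ hηk))⟩

end Groth.Agent.ConsPropLib
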