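import Groth.Agent.ConsPropLib.FibreLoci
import Groth.Agent.ConsPropLib.FibreMor
import Groth.Agent.MorLib.UnramLocus
import Groth.Agent.EtFound.Descent

/-!
# Loci of separated morphisms and of monomorphisms in families (EGA IV 9.6.1)
-/

set_option autoImplicit false
set_option linter.style.haveILetI false

open CategoryTheory CategoryTheory.Limits AlgebraicGeometry Topology Groth.Agent.SpecLib
  Groth.Agent.MorLib

namespace Groth.Agent.ConsPropLib

universe u

variable {X Y S : Scheme.{u}}

/-- The diagonal of a base change is a base change of the diagonal. -/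
theorem exists_diagonal_baseChange {X' Y' : Scheme.{u}} {f : X ⟶ Y} {f' : X' ⟶ Y'} {eX : X' ⟶ X}
    {eY : Y' ⟶ Y} (sq : IsPullback eX f' f eY) :
    ∃ m : pullback f' f' ⟶ pullback f f,
      IsPullback m (pullback.fst f' f' ≫ f') (pullback.fst f f ≫ f) eY ∧
      IsPullback eX (pullback.diagonal f') (pullback.diagonal f) m := by
  let m : pullback f' f' ⟶ pullback f f := pullback.map _ _ _ _ eX eX eY sq.w.symm sq.w.symm
  have A : IsPullback (pullback.snd f' f' ≫ eX) (pullback.fst f' f') f (eX ≫ f) := by
    rw [sq.w]
    exact (IsPullback.of_hasPullback f' f').flip.paste_horiz sq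
  have sq₁ : IsPullback m (pullback.fst f' f') (pullback.fst f f) eX := by
    refine IsPullback.of_right ?_ (pullback.lift_fst _ _ _) (IsPullback.of_hasPullback f f).flip
    rwa [show m ≫ pullback.snd f f = pullback.snd f' f' ≫ eX from pullback.lift_snd _ _ _]
  refine ⟨m, sq₁.paste_vert sq, IsPullback.of_bot ?_ ?_ sq₁⟩
  · rw [pullback.diagonal_fst, pullback.diagonal_fst]
    exact IsPullback.of_vert_isIso ⟨by simp⟩
  · apply pullback.hom_ext
    · rw [Category.assoc, Category.assoc, pullback.diagonal_fst, Category.comp_id, pullback.lift_fst,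
        pullback.diagonal_fst_assoc]
    · rw [Category.assoc, Category.assoc, pullback.diagonal_snd, Category.comp_id, pullback.lift_snd,
        pullback.diagonal_snd_assoc]

theorem isSeparated_iff_isClosed_range (f : X ⟶ Y) :
    IsSeparated f ↔ IsClosed (Set.range (pullback.diagonal f)) :=
  ⟨fun h => (pullback.diagonal f).isClosedEmbedding.isClosed_range,
    fun h => ⟨IsClosedImmersion.of_isPreimmersion _ h⟩⟩

/-- EGA IV 9.6.1: the locus of separated fibres. -/
theorem isLocallyConstructible_separatedLocus (f : X ⟶ Y) (g : Y ⟶ S)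
    [LocallyOfFinitePresentation g] [QuasiCompact g] [QuasiSeparated g]
    [LocallyOfFinitePresentation (f ≫ g)] [QuasiCompact (f ≫ g)] [QuasiSeparated (f ≫ g)] :
    IsLocallyConstructible {s : S | IsSeparated (MoreMor.fiberMap f g s)} := by
  haveI : LocallyOfFinitePresentation f := Groth.Agent.AlgSpPts.locallyOfFinitePresentation_of_comp f g
  haveI : QuasiCompact f := QuasiCompact.of_comp f g
  haveI : QuasiSeparated f := QuasiSeparated.of_comp f g
  haveI : LocallyOfFinitePresentation (pullback.diagonal f) := Groth.Agent.S4599.result f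
  haveI : QuasiCompact (pullback.diagonal f) := inferInstance
  let h : pullback f f ⟶ S := (pullback.fst f f ≫ f) ≫ g
  haveI : LocallyOfFinitePresentation h := inferInstance
  haveI : QuasiCompact h := inferInstance
  haveI : QuasiSeparated h := inferInstance
  have hR : IsLocallyConstructible (Set.range (pullback.diagonal f)) := by
    rw [← Set.image_univ]
    exact (pullback.diagonal f).isLocallyConstructible_image IsLocallyConstructible.univ
  convert isLocallyConstructible_setsLocus stable_closed dichotomy_closed h hR hR using 1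
  refine Set.ext fun s => ?_
  simp only [Set.mem_setOf_eq, closedLocus]
  obtain ⟨m, hm, hΔ⟩ := exists_diagonal_baseChange (isPullback_fiberMap f g s)
  have hs : IsPullback m (pullback.fst _ _ ≫ MoreMor.fiberMap f g s ≫ g.fiberToSpecResidueField s) h
      (S.fromSpecResidueField s) := by
    rw [← Category.assoc]
    exact hm.paste_vert (IsPullback.of_hasPullback g (S.fromSpecResidueField s))
  rw [isSeparated_iff_isClosed_range, range_f' hΔ,
    ← hs.isoPullback_hom_fst, Scheme.Hom.comp_base, TopCat.coe_comp, Set.preimage_comp]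
  exact hs.isoPullback.hom.homeomorph.isClosed_preimage

theorem isOpen_loc (f : X ⟶ Y) : IsOpen {x : X | UnrLocus.Loc f x} :=
  isOpen_iff_forall_mem_open.2 fun _ ⟨U, hx, hU⟩ => ⟨U, fun _ hy => ⟨U, hy, hU⟩, U.2, hx⟩

theorem formallyUnramified_iff_loc (f : X ⟶ Y) : FormallyUnramified f ↔ ∀ x, UnrLocus.Loc f x := by
  refine ⟨fun h x => ⟨⊤, trivial, MorphismProperty.comp_mem @FormallyUnramified _ _ inferInstance h⟩, fun h => ?_⟩
  choose U hU hU' using h
  exact IsZariskiLocalAtSource.of_iSup_eq_top (P := @FormallyUnramified) U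
    (top_le_iff.1 fun x _ => TopologicalSpace.Opens.mem_iSup.2 ⟨x, hU x⟩) hU'

theorem loc_iff_of_isPullback {X' Y' : Scheme.{u}} {f : X ⟶ Y} {f' : X' ⟶ Y'} {eX : X' ⟶ X}
    {eY : Y' ⟶ Y} [LocallyOfFiniteType f] (sq : IsPullback eX f' f eY) (x' : X') :
    UnrLocus.Loc f' x' ↔ UnrLocus.Loc f (eX x') := by
  rw [← sq.isoPullback_hom_snd, UnrLocus.loc_comp_left, UnrLocus.loc_pullback, ← Scheme.Hom.comp_apply,
    sq.isoPullback_hom_fst]

theorem mono_iff (f : X ⟶ Y) [LocallyOfFiniteType f] :
    Mono f ↔ UniversallyInjective f ∧ FormallyUnramified f := by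
  constructor
  · intro h
    haveI := (pullback.isIso_diagonal_iff f).2 h
    exact ⟨(UniversallyInjective.iff_diagonal f).2 ⟨(asIso (pullback.diagonal f)).hom.homeomorph.surjective⟩,
      inferInstance⟩
  · rintro ⟨h, _⟩
    haveI : Surjective (pullback.diagonal f) := (UniversallyInjective.iff_diagonal f).1 h
    exact (pullback.isIso_diagonal_iff f).1
      ((isIso_iff_isOpenImmersion_and_surjective (pullback.diagonal f)).2 ⟨inferInstance, inferInstance⟩)

theorem fpqcDescends_mono : FpqcDescends (MorphismProperty.monomorphisms Scheme.{u}) := by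
  apply fpqcDescends_of_descendsAlong
  rw [← MorphismProperty.diagonal_isomorphisms]
  infer_instance

/-- EGA IV 9.6.1: monomorphisms. -/
theorem isConsMor_mono : ConsProp.IsConsMor.{u} (fun X Y _T (f : X ⟶ Y) _ => Mono f) := by
  refine ⟨isFieldStableMor_of_descends (Q := MorphismProperty.monomorphisms _) fpqcDescends_mono,
    fun X Y S f g _ _ _ _ _ _ => dichotomy_of_isConstructible ?_⟩
  haveI : IsLocallyNoetherian Y := LocallyOfFiniteType.isLocallyNoetherian g
  haveI : CompactSpace Y := QuasiCompact.compactSpace_of_compactSpace g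
  haveI : AlgebraicGeometry.IsNoetherian Y := {}
  haveI : LocallyOfFiniteType f := locallyOfFiniteType_of_comp f g
  haveI : QuasiCompact f := QuasiCompact.of_comp f g
  haveI : IsLocallyNoetherian X := LocallyOfFiniteType.isLocallyNoetherian f
  haveI : CompactSpace X := QuasiCompact.compactSpace_of_compactSpace f
  haveI : AlgebraicGeometry.IsNoetherian X := {}
  have h1 := isConstructible_setOf_subset (L := {s | UniversallyInjective (MoreMor.fiberMap f g s)})
    ((pullback.fst f f ≫ f) ≫ g) (isConstructible_range_diagonal f) fun s => by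
      refine (universallyInjective_iff_range (isPullback_fiberMap f g s)).trans ?_
      rw [Scheme.Hom.range_fiberι, Scheme.Hom.comp_base _ g, TopCat.coe_comp, Set.preimage_comp]
  have h2 := isConstructible_setOf_subset (L := {s | FormallyUnramified (MoreMor.fiberMap f g s)})
    (f ≫ g) (SpecLib.isConstructible_of_isOpen (isOpen_loc f)) fun s => by
      have sq := isPullback_fiberMap f g s
      rw [Set.mem_setOf_eq, formallyUnramified_iff_loc, ← Scheme.Hom.range_fiberι, Set.range_subset_iff]
      exact forall_congr' (loc_iff_of_isPullback sq)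
  convert h1.inter h2 using 1
  refine Set.ext fun s => ?_
  haveI : LocallyOfFiniteType (MoreMor.fiberMap f g s) :=
    MorphismProperty.of_isPullback (isPullback_fiberMap f g s) ‹_›
  exact mono_iff _

end Groth.Agent.ConsPropLib
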