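import Groth.Agent.ConsPropLib.FibreFinite
import Groth.Agent.PnCoh.Chow.Exists

/-!
# Loci of proper morphisms in families (EGA IV 9.6.1)

A separated morphism of finite type to an affine scheme is proper after a base change iff, for each
Chow cover of an irreducible component, the base change of the map to projective space is a closed
immersion.
-/

set_option autoImplicit false
set_option linter.style.haveILetI false

open CategoryTheory CategoryTheory.Limits AlgebraicGeometry Topology Groth.Agent.SpecLib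
  Groth.Agent.MorLib

namespace Groth.Agent.ConsPropLib

universe u

variable {X Y S : Scheme.{u}}

/-- Universal closedness can be tested on finitely many jointly surjective morphisms. -/
theorem universallyClosed_of_jointly_surjective {ι : Type*} [Finite ι] (f : X ⟶ Y)
    {Z : ι → Scheme.{u}} (π : ∀ k, Z k ⟶ X) (hs : ∀ x : X, ∃ (k : ι) (z : Z k), π k z = x)
    [∀ k, UniversallyClosed (π k ≫ f)] : UniversallyClosed f := by
  refine ⟨fun X' Y' i₁ i₂ f' h C hC => ?_⟩
  have hk : ∀ k, IsPullback (pullback.fst (π k) i₁) (pullback.snd (π k) i₁ ≫ f') (π k ≫ f) i₂ :=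
    fun k => (IsPullback.of_hasPullback (π k) i₁).paste_vert h.flip
  have hcl : ∀ k, IsClosedMap (pullback.snd (π k) i₁ ≫ f') := fun k =>
    UniversallyClosed.universally_isClosedMap _ _ _ (hk k).flip
  have he : f' '' C = ⋃ k, (pullback.snd (π k) i₁ ≫ f') '' (pullback.snd (π k) i₁ ⁻¹' C) := by
    refine Set.Subset.antisymm ?_ (Set.iUnion_subset fun k => ?_)
    · rintro _ ⟨x, hx, rfl⟩
      obtain ⟨k, z, hz⟩ := hs (i₁ x)
      obtain ⟨w, -, rfl⟩ := Scheme.Pullback.exists_preimage_pullback z x hz
      exact Set.mem_iUnion.2 ⟨k, w, hx, rfl⟩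
    · rintro _ ⟨w, hw, rfl⟩
      exact ⟨_, hw, rfl⟩
  show IsClosed (f' '' C)
  rw [he]
  exact isClosed_iUnion_of_finite fun k => hcl k _ (hC.preimage (pullback.snd (π k) i₁).continuous)

/-- A covering of `X` over `Y` by schemes mapping monomorphically to schemes proper over `Y`. -/
structure ChowCover (f : X ⟶ Y) where
  ι : Type u
  fin : Finite ι
  Z : ι → Scheme.{u}
  P : ι → Scheme.{u}
  π : ∀ k, Z k ⟶ X
  p : ∀ k, Z k ⟶ P k
  q : ∀ k, P k ⟶ Y
  proper_π : ∀ k, IsProper (π k)
  proper_q : ∀ k, IsProper (q k)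
  mono_p : ∀ k, Mono (p k)
  comm : ∀ k, p k ≫ q k = π k ≫ f
  surj : ∀ x, ∃ (k : ι) (z : Z k), π k z = x

/-- Separated morphisms of finite type to an affine Noetherian scheme have Chow covers. -/
theorem exists_chowCover [IsAffine Y] [IsNoetherian Y] (f : X ⟶ Y) [IsSeparated f]
    [LocallyOfFiniteType f] [QuasiCompact f] : Nonempty (ChowCover f) := by
  haveI : IsLocallyNoetherian X := LocallyOfFiniteType.isLocallyNoetherian f
  haveI : CompactSpace X := QuasiCompact.compactSpace_of_compactSpace f
  haveI : IsNoetherian X := {}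
  let ι := {Z : Set X // Z ∈ irreducibleComponents X}
  haveI : Finite ι := (TopologicalSpace.NoetherianSpace.finite_irreducibleComponents).to_subtype
  choose T j hj hT hr hgen using fun k : ι => exists_integral_closure k.2.1.genericPoint
  have hcov : ∀ x, ∃ (k : ι) (t : T k), j k t = x := fun x => by
    obtain ⟨Z, hZ, hxZ⟩ : ∃ Z ∈ irreducibleComponents X, x ∈ Z :=
      ⟨_, irreducibleComponent_mem_irreducibleComponents x, mem_irreducibleComponent⟩
    refine ⟨⟨Z, hZ⟩, ?_⟩
    have : x ∈ Set.range (j ⟨Z, hZ⟩) := by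
      rw [hr, hZ.1.isGenericPoint_genericPoint_closure.def,
        (isClosed_of_mem_irreducibleComponents Z hZ).closure_eq]
      exact hxZ
    exact this
  haveI := hj
  haveI := hT
  let F : ∀ k, T k ⟶ Spec (CommRingCat.of Γ(Y, ⊤)) := fun k => j k ≫ f ≫ Y.isoSpec.hom
  haveI : ∀ k, IsSeparated (F k) := fun k => inferInstance
  haveI : ∀ k, QuasiCompact (F k) := fun k => inferInstance
  let D := fun k => (PnCoh.Chow.exists_data (F k)).some
  haveI : ∀ k, IsDominant (D k).π := fun k => by
    haveI : IsDominant ((D k).γ ≫ (D k).π) := by rw [(D k).γ_π]; exact (D k).dominant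
    exact IsDominant.of_comp (D k).γ (D k).π
  haveI : ∀ k, Surjective (D k).π := fun k => inferInstance
  exact ⟨{
    ι := ι
    fin := inferInstance
    Z := fun k => (D k).X'
    P := fun k => CohB1.ProjSpace (D k).N Γ(Y, ⊤)
    π := fun k => (D k).π ≫ j k
    p := fun k => (D k).p
    q := fun k => CohB1.ProjSpace.toSpec (D k).N Γ(Y, ⊤) ≫ Y.isoSpec.inv
    proper_π := fun k => inferInstance
    proper_q := fun k => by
      haveI := PnCoh.Chow.isProper_toSpec (D k).N Γ(Y, ⊤)
      infer_instance
    mono_p := fun k => (D k).mono_p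
    comm := fun k => by
      rw [← Category.assoc, ← (D k).π_f]
      simp [F]
    surj := fun x => by
      obtain ⟨k, t, rfl⟩ := hcov x
      obtain ⟨z, rfl⟩ := (D k).π.surjective t
      exact ⟨k, z, rfl⟩ }⟩

/-- Properness after base change, tested on a Chow cover. -/
theorem ChowCover.isProper_iff {f : X ⟶ Y} [IsSeparated f] [LocallyOfFiniteType f] [QuasiCompact f]
    (C : ChowCover f) {X' Y' : Scheme.{u}} {a : X' ⟶ X} {f' : X' ⟶ Y'} {φ : Y' ⟶ Y}
    (sq : IsPullback a f' f φ) {P' Z' : C.ι → Scheme.{u}} (c : ∀ k, P' k ⟶ C.P k)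
    (q' : ∀ k, P' k ⟶ Y') (hq : ∀ k, IsPullback (c k) (q' k) (C.q k) φ)
    (b : ∀ k, Z' k ⟶ C.Z k) (p' : ∀ k, Z' k ⟶ P' k) (hp : ∀ k, IsPullback (b k) (p' k) (C.p k) (c k)) :
    IsProper f' ↔ ∀ k, IsClosedImmersion (p' k) := by
  haveI := C.fin
  have houter : ∀ k, IsPullback (b k) (p' k ≫ q' k) (C.π k ≫ f) φ := fun k => by
    rw [← C.comm k]; exact (hp k).paste_vert (hq k)
  let π' : ∀ k, Z' k ⟶ X' := fun k => sq.lift (b k ≫ C.π k) (p' k ≫ q' k)
    (by rw [Category.assoc]; exact (houter k).w)
  have hπf : ∀ k, π' k ≫ f' = p' k ≫ q' k := fun k => sq.lift_snd _ _ _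
  have hπ : ∀ k, IsPullback (b k) (π' k) (C.π k) a := fun k => by
    refine IsPullback.of_bot ?_ (sq.lift_fst _ _ _).symm sq
    rw [hπf k]
    exact houter k
  haveI : ∀ k, IsProper (π' k) := fun k => MorphismProperty.of_isPullback (hπ k) (C.proper_π k)
  haveI : ∀ k, IsProper (q' k) := fun k => MorphismProperty.of_isPullback (hq k) (C.proper_q k)
  haveI : ∀ k, Mono (p' k) := fun k => by
    haveI := C.mono_p k
    exact (hp k).mono_snd_of_mono
  constructor
  · intro hf k
    haveI : IsProper (p' k ≫ q' k) := by rw [← hπf k]; infer_instance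
    exact (IsClosedImmersion.iff_isProper_and_mono _).2 ⟨IsProper.of_comp _ (q' k), inferInstance⟩
  · intro h
    haveI : IsSeparated f' := MorphismProperty.of_isPullback sq inferInstance
    haveI : LocallyOfFiniteType f' := MorphismProperty.of_isPullback sq inferInstance
    haveI : ∀ k, UniversallyClosed (π' k ≫ f') := fun k => by
      haveI := h k
      rw [hπf k]; infer_instance
    haveI : UniversallyClosed f' := universallyClosed_of_jointly_surjective f' π' fun x => by
      obtain ⟨k, z, hz⟩ := C.surj (a x)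
      have : x ∈ Set.range (π' k) := (range_f' (hπ k)).ge ⟨z, hz⟩
      exact ⟨k, this⟩
    exact ⟨⟩

/-- The separated case over an affine scheme. -/
theorem isConstructible_properLocus_separated [IsNoetherian S] [IsAffine Y] (f : X ⟶ Y) (g : Y ⟶ S)
    [LocallyOfFiniteType g] [QuasiCompact g] [IsSeparated f] [QuasiCompact f]
    [LocallyOfFiniteType f] :
    IsConstructible {s : S | IsProper (MoreMor.fiberMap f g s)} := by
  haveI : IsLocallyNoetherian Y := LocallyOfFiniteType.isLocallyNoetherian g
  haveI : CompactSpace Y := QuasiCompact.compactSpace_of_compactSpace g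
  haveI : IsNoetherian Y := {}
  obtain ⟨C⟩ := exists_chowCover f
  haveI := C.fin
  haveI : ∀ k, IsProper (C.q k) := C.proper_q
  haveI : ∀ k, IsProper (C.π k) := C.proper_π
  haveI : ∀ k, LocallyOfFiniteType (C.p k ≫ C.q k ≫ g) := fun k => by
    rw [← Category.assoc, C.comm k]; infer_instance
  haveI : ∀ k, QuasiCompact (C.p k ≫ C.q k ≫ g) := fun k => by
    rw [← Category.assoc, C.comm k]; infer_instance
  have hset : {s : S | IsProper (MoreMor.fiberMap f g s)} =
      ⋂ k, {s : S | IsClosedImmersion (MoreMor.fiberMap (C.p k) (C.q k ≫ g) s)} := Set.ext fun s => by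
    rw [Set.mem_iInter]
    exact C.isProper_iff (isPullback_fiberMap f g s) _ _ (fun k => isPullback_fiberMap (C.q k) g s)
      _ _ (fun k => isPullback_fiberMap (C.p k) (C.q k ≫ g) s)
  rw [hset]
  exact IsConstructible.iInter fun k =>
    isConstructible_locusMor isConsMor_isClosedImmersion (C.p k) (C.q k ≫ g)

/-- Over an open subset of the base, the morphism is separated if its generic fibre is. -/
theorem exists_nhd_separated [IsIntegral S] [IsNoetherian S] (f : X ⟶ Y) (g : Y ⟶ S)
    [LocallyOfFiniteType g] [QuasiCompact g] [LocallyOfFiniteType f] [QuasiCompact f]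
    (hs : IsSeparated (MoreMor.fiberMap f g (genericPoint S))) :
    ∃ W : Set S, IsOpen W ∧ genericPoint S ∈ W ∧ ∀ V : Y.Opens, (∀ y ∈ V, g y ∈ W) →
      IsSeparated (f ∣_ V) := by
  haveI : IsLocallyNoetherian Y := LocallyOfFiniteType.isLocallyNoetherian g
  haveI : CompactSpace Y := QuasiCompact.compactSpace_of_compactSpace g
  haveI : AlgebraicGeometry.IsNoetherian Y := {}
  haveI : IsLocallyNoetherian X := LocallyOfFiniteType.isLocallyNoetherian f
  haveI : CompactSpace X := QuasiCompact.compactSpace_of_compactSpace f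
  haveI : AlgebraicGeometry.IsNoetherian X := {}
  let η := genericPoint S
  haveI : IsLocallyNoetherian (pullback f f : Scheme.{u}) :=
    LocallyOfFiniteType.isLocallyNoetherian (pullback.fst f f)
  haveI : CompactSpace (pullback f f : Scheme.{u}) :=
    QuasiCompact.compactSpace_of_compactSpace (pullback.fst f f)
  haveI : AlgebraicGeometry.IsNoetherian (pullback f f : Scheme.{u}) := {}
  let p : pullback f f ⟶ Y := pullback.fst f f ≫ f
  let R : Set (pullback f f : Scheme.{u}) := Set.range (pullback.diagonal f)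
  have hR : IsConstructible R := isConstructible_range_diagonal f
  obtain ⟨m, hm, hΔ⟩ := exists_diagonal_baseChange (isPullback_fiberMap f g η)
  have hcl : IsClosed (m ⁻¹' R) := by
    rw [← range_f' hΔ]
    exact (isSeparated_iff_isClosed_range _).1 hs
  obtain ⟨W₁, o₁, η₁, k₁⟩ := image_avoid (p ≫ g)
    ((SpecLib.isConstructible_of_isClosed (isClosed_closure (s := R))).sdiff hR) fun x hx e => by
      obtain ⟨z, hz, hzx⟩ := (ProConsLib.consClosed_of_isConstructible hR).exists_specializes_of_mem_closure hx.1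
      have hzη : g (p z) = η :=
        (((hzx.map (p ≫ g).continuous).trans (specializes_of_eq e) : g (p z) ⤳ η).antisymm
          ((genericPoint_spec S).specializes (Set.mem_univ _))).eq
      have hr : ∀ w, g (p w) = η → w ∈ Set.range m := fun w hw => by
        rw [range_eX hm, Scheme.Hom.range_fiberι]
        exact hw
      obtain ⟨z', rfl⟩ := hr z hzη
      obtain ⟨x', rfl⟩ := hr x e
      haveI : IsPreimmersion m := MorphismProperty.of_isPullback hm.flip inferInstance
      exact hx.2 ((hcl.stableUnderSpecialization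
        (m.isEmbedding.isInducing.specializes_iff.1 hzx)) hz)
  refine ⟨W₁, o₁, η₁, fun V hV => ?_⟩
  obtain ⟨m', hm', hΔ'⟩ := exists_diagonal_baseChange (isPullback_morphismRestrict f V).flip
  rw [isSeparated_iff_isClosed_range, range_f' hΔ']
  convert (isClosed_closure (s := R)).preimage m'.continuous using 1
  refine Set.Subset.antisymm (fun z hz => subset_closure hz) fun z hz => by_contra fun hn => ?_
  have : p (m' z) ∈ V := by
    rw [← Scheme.Hom.comp_apply, hm'.w, Scheme.Hom.comp_apply]
    exact Subtype.coe_prop _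
  exact k₁ (m' z) ⟨hz, hn⟩ (hV _ this)

/-- EGA IV 9.6.1: proper morphisms. -/
theorem isConsMor_isProper : ConsProp.IsConsMor.{u} (fun X Y _T (f : X ⟶ Y) _ => IsProper f) := by
  refine ⟨isFieldStableMor_of_descends (Q := @IsProper) (fpqcDescends_of_descendsAlong EtFound.fpqc_isProper),
    fun X Y S f g _ _ _ _ _ _ => ?_⟩
  let L : Set S := {s | IsProper (MoreMor.fiberMap f g s)}
  change (interior L).Nonempty ∨ (interior Lᶜ).Nonempty
  haveI : IsLocallyNoetherian Y := LocallyOfFiniteType.isLocallyNoetherian g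
  haveI : CompactSpace Y := QuasiCompact.compactSpace_of_compactSpace g
  haveI : AlgebraicGeometry.IsNoetherian Y := {}
  haveI : LocallyOfFiniteType f := locallyOfFiniteType_of_comp f g
  haveI : QuasiCompact f := QuasiCompact.of_comp f g
  haveI : IsLocallyNoetherian X := LocallyOfFiniteType.isLocallyNoetherian f
  haveI : CompactSpace X := QuasiCompact.compactSpace_of_compactSpace f
  haveI : AlgebraicGeometry.IsNoetherian X := {}
  let η := genericPoint S
  have Lsep : IsConstructible {s : S | IsSeparated (MoreMor.fiberMap f g s)} :=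
    (isLocallyConstructible_separatedLocus f g).isConstructible
  by_cases hs : IsSeparated (MoreMor.fiberMap f g η)
  swap
  · exact .inr ((nhd_generic (A := _) Lsep.compl hs).mono (interior_mono fun s hs' hf =>
      (show ¬ IsSeparated (MoreMor.fiberMap f g s) from hs') (by
        haveI : IsProper _ := hf; exact inferInstanceAs (IsSeparated (MoreMor.fiberMap f g s)))))
  obtain ⟨W, hW, hηW, hk⟩ := exists_nhd_separated f g hs
  let U : Y.Opens := g ⁻¹ᵁ (⟨W, hW⟩ : S.Opens)
  obtain ⟨c, hcfin, hcU⟩ := isCompact_and_isOpen_iff_finite_and_eq_biUnion_affineOpens.1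
    ⟨TopologicalSpace.NoetherianSpace.isCompact (U : Set Y), U.2⟩
  haveI := hcfin.to_subtype
  let Lk : c → Set S := fun k => {s | IsProper (MoreMor.fiberMap (f ∣_ k.1.1) (k.1.1.ι ≫ g) s)}
  have hLk : ∀ k, IsConstructible (Lk k) := fun k => by
    haveI : IsSeparated (f ∣_ k.1.1) :=
      hk k.1.1 fun y hy => hcU.ge (Set.mem_iUnion₂.2 ⟨k.1, k.2, hy⟩)
    haveI : IsAffine (k.1.1 : Scheme.{u}) := k.1.2
    haveI : QuasiCompact (f ∣_ k.1.1) := inferInstance
    haveI : QuasiCompact (k.1.1.ι ≫ g) := inferInstance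
    exact isConstructible_properLocus_separated (f ∣_ k.1.1) (k.1.1.ι ≫ g)
  have hLW : ∀ s ∈ W, s ∈ L ↔ ∀ k, s ∈ Lk k := fun s hs' =>
    fiberMap_iff_forall_restrict (P := @IsProper) f g s (fun k : c => k.1.1) fun y hy => by
      obtain ⟨k, hkc, hyk⟩ := Set.mem_iUnion₂.1 (hcU.le (show g y ∈ W from hy ▸ hs'))
      exact ⟨⟨k, hkc⟩, hyk⟩
  by_cases hη : ∀ k, η ∈ Lk k
  · refine .inl ((nhd_generic (A := W ∩ ⋂ k, Lk k) ?_ ⟨hηW, Set.mem_iInter.2 hη⟩).mono (interior_mono
      fun s hs' => (hLW s hs'.1).2 (Set.mem_iInter.1 hs'.2)))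
    exact (SpecLib.isConstructible_of_isOpen hW).inter (IsConstructible.iInter hLk)
  · obtain ⟨k, hk'⟩ := not_forall.1 hη
    exact .inr ((nhd_generic ((SpecLib.isConstructible_of_isOpen hW).inter (hLk k).compl) ⟨hηW, hk'⟩).mono
      (interior_mono fun s hs' hf => hs'.2 ((hLW s hs'.1).1 hf k)))

end Groth.Agent.ConsPropLib
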