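import Groth.Agent.ConsPropLib.PointwiseProps
import Groth.Agent.S4781
import Groth.Agent.FibDim.AffineSpaceFibre
import Groth.Agent.FBaseLib.Basic
import Groth.Agent.VarGeom.OpenMap

/-!
# Topology of the fibres of a constructible set (EGA IV 9.5.3, 9.5.4)
-/

set_option autoImplicit false
set_option linter.style.haveILetI false

open CategoryTheory CategoryTheory.Limits AlgebraicGeometry Topology

namespace Groth.Agent.ConsPropLib

universe u

/-! ### Families of sets over a base -/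

/-- The base change property of a locus attached to two subsets of a family. -/
def SetsStable (L : ∀ ⦃X S : Scheme.{u}⦄, (X ⟶ S) → Set X → Set X → Set S) : Prop :=
  ∀ ⦃X X' S S' : Scheme.{u}⦄ ⦃f : X ⟶ S⦄ ⦃f' : X' ⟶ S'⦄ ⦃p : X' ⟶ X⦄ ⦃h : S' ⟶ S⦄ (Z Z' : Set X),
    IsPullback p f' f h → L f' (p ⁻¹' Z) (p ⁻¹' Z') = h ⁻¹' L f Z Z'

/-- Generic dichotomy of a locus attached to two subsets of a family. -/
def SetsDichotomy (L : ∀ ⦃X S : Scheme.{u}⦄, (X ⟶ S) → Set X → Set X → Set S) : Prop :=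
  ∀ ⦃X S : Scheme.{u}⦄ (f : X ⟶ S) [IsIntegral S] [IsNoetherian S] [LocallyOfFiniteType f] [QuasiCompact f]
    (Z Z' : Set X), IsConstructible Z → IsConstructible Z' →
    (interior (L f Z Z')).Nonempty ∨ (interior (L f Z Z')ᶜ).Nonempty

variable {L : ∀ ⦃X S : Scheme.{u}⦄, (X ⟶ S) → Set X → Set X → Set S}

theorem isConstructible_setsLocus (h1 : SetsStable L) (h2 : SetsDichotomy L) {X S : Scheme.{u}}
    [IsNoetherian S] (f : X ⟶ S) [LocallyOfFiniteType f] [QuasiCompact f] {Z Z' : Set X}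
    (hZ : IsConstructible Z) (hZ' : IsConstructible Z') : IsConstructible (L f Z Z') :=
  isConstructible_of_dichotomy _ fun T j _ _ _ => by
    haveI : IsLocallyNoetherian X := LocallyOfFiniteType.isLocallyNoetherian f
    haveI : CompactSpace X := QuasiCompact.compactSpace_of_compactSpace f
    haveI : IsNoetherian X := {}
    haveI : IsLocallyNoetherian (pullback f j : Scheme.{u}) :=
      LocallyOfFiniteType.isLocallyNoetherian (pullback.snd f j)
    haveI : CompactSpace (pullback f j : Scheme.{u}) := QuasiCompact.compactSpace_of_compactSpace (pullback.snd f j)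
    haveI : IsNoetherian (pullback f j : Scheme.{u}) := {}
    rw [← h1 Z Z' (IsPullback.of_hasPullback f j)]
    exact h2 (pullback.snd f j) _ _ (MorLib.LimCons.isConstructible_preimage _ hZ)
      (MorLib.LimCons.isConstructible_preimage _ hZ')

theorem isLocallyConstructible_setsLocus (h1 : SetsStable L) (h2 : SetsDichotomy L) {X S : Scheme.{u}}
    (f : X ⟶ S) [LocallyOfFinitePresentation f] [QuasiCompact f] [QuasiSeparated f] {Z Z' : Set X}
    (hZ : IsLocallyConstructible Z) (hZ' : IsLocallyConstructible Z') : IsLocallyConstructible (L f Z Z') :=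
  lc_of_affine fun V hV => by
    haveI : IsAffine (V : Scheme.{u}) := hV
    rw [← h1 Z Z' (IsPullback.of_hasPullback f V.ι)]
    let f' := pullback.snd f V.ι
    haveI : CompactSpace (pullback f V.ι : Scheme.{u}) := QuasiCompact.compactSpace_of_compactSpace f'
    haveI : QuasiSeparatedSpace (pullback f V.ι : Scheme.{u}) := quasiSeparatedSpace_of_quasiSeparated f'
    have hc : ∀ {A : Set X}, IsLocallyConstructible A → IsConstructible (pullback.fst f V.ι ⁻¹' A) := fun hA =>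
      (hA.preimage_of_isOpenEmbedding (pullback.fst f V.ι).isOpenEmbedding).isConstructible
    obtain ⟨I, _, _, D, c, hlim, e, hA, hN⟩ := exists_noetherian_limit (V : Scheme.{u})
    haveI := hA
    haveI : ∀ {i j : I} (a : i ⟶ j), IsAffineHom (D.map a) := fun a => isAffineHom_of_isAffine _
    obtain ⟨i, X₀, f₀, g₀, hm⟩ := hasModel hlim (f' ≫ e.inv)
    haveI := hm.compactSpace
    haveI := hm.quasiSeparatedSpace
    let T : Over i := Over.mk (𝟙 i)
    haveI : ∀ {a b : Over i} (g : a ⟶ b), IsAffineHom ((MorLib.BC.diag D f₀).map g) := fun g =>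
      MorLib.BC.isAffineHom_map D f₀ g
    haveI : CompactSpace ↥((MorLib.BC.diag D f₀).obj T) := MorLib.BC.compactSpace_obj D f₀ T
    haveI : QuasiSeparatedSpace ↥((MorLib.BC.diag D f₀).obj T) := MorLib.BC.quasiSeparatedSpace_obj D f₀ T
    obtain ⟨j₁, a₁, Z₁, hZ₁, eZ₁⟩ := MorLib.LimCons.exists_isConstructible_preimage_eq
      (MorLib.BC.isLimitCone D f₀ hm.sq hlim) T (hc hZ)
    obtain ⟨j₂, a₂, Z₂, hZ₂, eZ₂⟩ := MorLib.LimCons.exists_isConstructible_preimage_eq
      (MorLib.BC.isLimitCone D f₀ hm.sq hlim) T (hc hZ')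
    let k := IsCofiltered.min j₁ j₂
    let p := IsCofiltered.minToLeft j₁ j₂
    let q := IsCofiltered.minToRight j₁ j₂
    let mp : pullback f₀ (D.map k.hom) ⟶ pullback f₀ (D.map j₁.hom) := (MorLib.BC.diag D f₀).map p
    let mq : pullback f₀ (D.map k.hom) ⟶ pullback f₀ (D.map j₂.hom) := (MorLib.BC.diag D f₀).map q
    let qk : pullback f V.ι ⟶ pullback f₀ (D.map k.hom) := MorLib.BC.proj D f₀ hm.sq k
    have w1 : qk ≫ mp = MorLib.BC.proj D f₀ hm.sq j₁ := (MorLib.BC.cone D f₀ hm.sq).w p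
    have w2 : qk ≫ mq = MorLib.BC.proj D f₀ hm.sq j₂ := (MorLib.BC.cone D f₀ hm.sq).w q
    haveI : IsAffineHom mp := MorLib.BC.isAffineHom_map D f₀ p
    haveI : IsAffineHom mq := MorLib.BC.isAffineHom_map D f₀ q
    have sqk : IsPullback qk f' (pullback.snd f₀ (D.map k.hom)) (e.inv ≫ c.π.app k.left) :=
      (MorLib.BC.isPullback_proj D f₀ hm.sq k).of_iso (Iso.refl _) (Iso.refl _) e (Iso.refl _)
        (by simp [qk]) (by simp [f']) (by simp) (by simp)
    have eq1 : qk ⁻¹' (mp ⁻¹' Z₁) = pullback.fst f V.ι ⁻¹' Z := by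
      rw [← eZ₁, ← Set.preimage_comp, ← TopCat.coe_comp, ← Scheme.Hom.comp_base, w1]; rfl
    have eq2 : qk ⁻¹' (mq ⁻¹' Z₂) = pullback.fst f V.ι ⁻¹' Z' := by
      rw [← eZ₂, ← Set.preimage_comp, ← TopCat.coe_comp, ← Scheme.Hom.comp_base, w2]; rfl
    rw [← eq1, ← eq2, h1 _ _ sqk]
    haveI := hN k.left
    haveI := (hm.pushed k.hom).lfp
    haveI := (hm.pushed k.hom).qc
    haveI : CompactSpace ↥(pullback f₀ (D.map k.hom)) := MorLib.BC.compactSpace_obj D f₀ k
    haveI : QuasiSeparatedSpace ↥(pullback f₀ (D.map k.hom)) := MorLib.BC.quasiSeparatedSpace_obj D f₀ k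
    haveI : CompactSpace ↥(pullback f₀ (D.map j₁.hom)) := MorLib.BC.compactSpace_obj D f₀ j₁
    haveI : QuasiSeparatedSpace ↥(pullback f₀ (D.map j₁.hom)) := MorLib.BC.quasiSeparatedSpace_obj D f₀ j₁
    haveI : CompactSpace ↥(pullback f₀ (D.map j₂.hom)) := MorLib.BC.compactSpace_obj D f₀ j₂
    haveI : QuasiSeparatedSpace ↥(pullback f₀ (D.map j₂.hom)) := MorLib.BC.quasiSeparatedSpace_obj D f₀ j₂
    haveI : IsAffineHom (e.inv ≫ c.π.app k.left) :=
      @isAffineHom_of_isAffine _ _ _ inferInstance (hA k.left)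
    exact MorLib.LimCons.isConstructible_preimage _ (isConstructible_setsLocus h1 h2 _
      (MorLib.LimCons.isConstructible_preimage mp hZ₁) (MorLib.LimCons.isConstructible_preimage mq hZ₂))

/-! ### Fibres -/

variable {X S : Scheme.{u}}

theorem exists_fibre_openSurjective {X' S' : Scheme.{u}} {f : X ⟶ S} {f' : X' ⟶ S'} {p : X' ⟶ X}
    {h : S' ⟶ S} (sq : IsPullback p f' f h) (s' : S') :
    ∃ e : f'.fiber s' ⟶ f.fiber (h s'), Surjective e ∧ IsOpenMap e ∧
      f'.fiberι s' ≫ p = e ≫ f.fiberι (h s') := by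
  obtain ⟨e, he, hep⟩ := exists_fibre_pullback sq s'
  haveI := surjective_of_point (Spec.map (h.residueFieldMap s'))
  haveI : UniversallyOpen (Spec.map (h.residueFieldMap s')) := VarGeom.universallyOpen_of_field _
  haveI : UniversallyOpen e := MorphismProperty.of_isPullback he.flip inferInstance
  exact ⟨e, MorphismProperty.of_isPullback he.flip inferInstance, e.isOpenMap, hep.symm ▸ rfl⟩

theorem dense_iff_fiber (f : X ⟶ S) (Z Z' : Set X) (s : S) :
    Z' ∩ f ⁻¹' {s} ⊆ closure (Z ∩ f ⁻¹' {s}) ↔ f.fiberι s ⁻¹' Z' ⊆ closure (f.fiberι s ⁻¹' Z) := by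
  rw [(f.fiberι s).isEmbedding.isInducing.closure_eq_preimage_closure_image, Set.image_preimage_eq_inter_range,
    Scheme.Hom.range_fiberι]
  refine ⟨fun h w hw => h ⟨hw, ?_⟩, fun h x hx => ?_⟩
  · exact (f.range_fiberι s).le ⟨w, rfl⟩
  · obtain ⟨w, rfl⟩ := (f.range_fiberι s).ge hx.2
    exact h hx.1

theorem isClosed_iff_fiber (f : X ⟶ S) (Z : Set X) (s : S) :
    IsClosed (Subtype.val ⁻¹' Z : Set ↥(f ⁻¹' {s})) ↔ IsClosed (f.fiberι s ⁻¹' Z) := by
  rw [← (f.fiberHomeo s).isClosed_preimage]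
  rfl

theorem isOpen_iff_fiber (f : X ⟶ S) (Z : Set X) (s : S) :
    IsOpen (Subtype.val ⁻¹' Z : Set ↥(f ⁻¹' {s})) ↔ IsOpen (f.fiberι s ⁻¹' Z) := by
  rw [← (f.fiberHomeo s).isOpen_preimage]
  rfl

/-! ### Generic behaviour -/

variable [IsIntegral S] [IsNoetherian S] (f : X ⟶ S) [LocallyOfFiniteType f] [QuasiCompact f]

theorem image_avoid {A : Set X} (hA : IsConstructible A) (h : ∀ x ∈ A, f x ≠ genericPoint S) :
    ∃ W : Set S, IsOpen W ∧ genericPoint S ∈ W ∧ ∀ x ∈ A, f x ∉ W := by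
  haveI : LocallyOfFinitePresentation f := inferInstance
  have hη : genericPoint S ∈ (f '' A)ᶜ := fun ⟨x, hx, e⟩ => h x hx e
  obtain ⟨W, hWsub, hW, hηW⟩ := mem_nhds_iff.1 (FibDim.mem_nhds_of_generizations
    (f.isConstructible_image hA).compl.isLocallyConstructible (y := genericPoint S) fun t ht =>
    (ht.antisymm ((genericPoint_spec S).specializes (Set.mem_univ _))).eq.symm ▸ hη)
  exact ⟨W, hW, hηW, fun x hx hxW => hWsub hxW ⟨x, hx, rfl⟩⟩

theorem image_meet {A : Set X} (hA : IsConstructible A) {x : X} (hx : x ∈ A) (h : f x = genericPoint S) :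
    ∃ W : Set S, IsOpen W ∧ genericPoint S ∈ W ∧ ∀ s ∈ W, ∃ y ∈ A, f y = s := by
  haveI : LocallyOfFinitePresentation f := inferInstance
  obtain ⟨W, hWsub, hW, hηW⟩ := mem_nhds_iff.1 (FibDim.mem_nhds_of_generizations
    (f.isConstructible_image hA).isLocallyConstructible (y := genericPoint S) fun t ht =>
    (ht.antisymm ((genericPoint_spec S).specializes (Set.mem_univ _))).eq.symm ▸ ⟨x, hx, h⟩)
  exact ⟨W, hW, hηW, fun s hs => hWsub hs⟩

theorem exists_nhd_rd_eq {z : X} (hz : f z = genericPoint S) :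
    ∃ W : Set S, IsOpen W ∧ genericPoint S ∈ W ∧ ∀ y, z ⤳ y → f y ∈ W →
      (∀ y', z ⤳ y' → y' ⤳ y → f y' = f y → y' = y) → FibDim.rd f y = FibDim.rd f z := by
  obtain ⟨T, j, _, _, hr, hg⟩ := exists_integral_closure z
  haveI : IsDominant (j ≫ f) := ⟨fun s => by
    have hmem : ({genericPoint S} : Set S) ⊆ Set.range (j ≫ f) :=
      Set.singleton_subset_iff.2 ⟨genericPoint T, by rw [Scheme.Hom.comp_apply, hg, hz]⟩
    exact closure_mono hmem ((genericPoint_spec S).def.ge (Set.mem_univ s))⟩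
  obtain ⟨U, hηU, hU⟩ := Groth.Agent.S4781.result (j ≫ f)
  refine ⟨U, U.2, hηU, fun y hzy hyU hmax => ?_⟩
  have rdj : ∀ w, FibDim.rd (j ≫ f) w = FibDim.rd f (j w) := fun w => by
    rw [FibDim.rd_comp, FibDim.rd_eq_zero_of_quasiFinite j w, add_zero]
  have key : ∀ w, (j ≫ f) w ∈ U → FibDim.FibMax (j ≫ f) w →
      ((FibDim.rd (j ≫ f) w : ℕ∞) : WithBot ℕ∞) =
        topologicalKrullDim ↥((j ≫ f : T ⟶ S) ⁻¹' {genericPoint S}) := fun w hw hm => by
    obtain ⟨C, hC, hd⟩ := (FibDim.fiber_component_dims (j ≫ f) ((j ≫ f) w)).ge ⟨w, ⟨rfl, hm⟩, rfl⟩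
    let e := (j ≫ f).fiberHomeo ((j ≫ f) w)
    have hC' : e.symm ⁻¹' C ∈ irreducibleComponents ↥((j ≫ f : T ⟶ S) ⁻¹' {(j ≫ f) w}) :=
      preimage_mem_irreducibleComponents hC e.symm.isOpenEmbedding (by
        rw [e.symm.surjective.range_eq, Set.inter_univ]
        exact hC.1.nonempty)
    dsimp only at hd
    rw [← hU _ hw _ hC', ← hd]
    exact ((e.symm.sets (t := C) (s := e.symm ⁻¹' C) rfl).isHomeomorph.topologicalKrullDim_eq).symm
  obtain ⟨w, rfl⟩ : y ∈ Set.range j := hr.ge hzy.mem_closure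
  have hgη : (j ≫ f) (genericPoint T) = genericPoint S := by rw [Scheme.Hom.comp_apply, hg, hz]
  have e1 := key w hyU fun w' h1 h2 => j.isClosedEmbedding.injective (hmax (j w')
    (by rw [← hg]; exact ((genericPoint_spec T).specializes (Set.mem_univ w')).map j.continuous)
    (h1.map j.continuous) h2)
  have e2 := key (genericPoint T) (by rw [hgη]; exact hηU) (FibDim.fibMax_of_maximal (j ≫ f) fun w' h =>
    (h.antisymm ((genericPoint_spec T).specializes (Set.mem_univ w'))).eq)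
  have e3 := e1.trans e2.symm
  rw [rdj, rdj, hg] at e3
  exact_mod_cast e3

theorem exists_open_closure_subset [IsNoetherian X] {Z : Set X} (hZ : IsConstructible Z) {z : X} (hz : z ∈ Z) :
    ∃ O : Set X, IsOpen O ∧ z ∈ O ∧ O ∩ closure {z} ⊆ Z := by
  obtain ⟨T, j, _, _, hr, hg⟩ := exists_integral_closure z
  haveI : IsLocallyNoetherian T := LocallyOfFiniteType.isLocallyNoetherian j
  haveI : CompactSpace T := QuasiCompact.compactSpace_of_compactSpace j
  haveI : IsNoetherian T := {}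
  obtain ⟨W, hWsub, hW, hgW⟩ := mem_nhds_iff.1 (FibDim.mem_nhds_of_generizations
    (MorLib.LimCons.isConstructible_preimage j hZ).isLocallyConstructible (y := genericPoint T) fun t ht =>
    (ht.antisymm ((genericPoint_spec T).specializes (Set.mem_univ _))).eq.symm ▸ (show j (genericPoint T) ∈ Z from
      hg.symm ▸ hz))
  obtain ⟨O, hO, rfl⟩ := j.isClosedEmbedding.isInducing.isOpen_iff.1 hW
  refine ⟨O, hO, hg ▸ hgW, ?_⟩
  rintro x ⟨hxO, hx⟩
  obtain ⟨w, rfl⟩ := hr.ge hx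
  exact hWsub hxO

theorem exists_nhd_closure [IsNoetherian X] {Z : Set X} (hZ : IsConstructible Z) {z : X} (hzZ : z ∈ Z)
    (hz : f z = genericPoint S) :
    ∃ W : Set S, IsOpen W ∧ genericPoint S ∈ W ∧ ∀ y, z ⤳ y → f y ∈ W → y ∈ closure (Z ∩ f ⁻¹' {f y}) := by
  obtain ⟨O, hO, hzO, hsub⟩ := exists_open_closure_subset hZ hzZ
  obtain ⟨W₀, hW₀, hη₀, hrd⟩ := exists_nhd_rd_eq f hz
  have key : ∀ B : Set X, IsClosed B → B ⊆ closure {z} → z ∉ B → ∃ W : Set S, IsOpen W ∧ genericPoint S ∈ W ∧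
      ∀ y ∈ B, f y ∈ W → ¬ ∀ y', z ⤳ y' → y' ⤳ y → f y' = f y → y' = y := by
    intro B hB
    refine SpecLib.irred_induction (P := fun B => B ⊆ closure {z} → z ∉ B → ∃ W : Set S, IsOpen W ∧
      genericPoint S ∈ W ∧ ∀ y ∈ B, f y ∈ W → ¬ ∀ y', z ⤳ y' → y' ⤳ y → f y' = f y → y' = y) ?_ ?_ ?_ hB
    · exact fun _ _ => ⟨Set.univ, isOpen_univ, trivial, fun y hy => hy.elim⟩
    · intro A B _ _ hA hB h1 h2
      obtain ⟨W₁, o₁, η₁, k₁⟩ := hA (Set.subset_union_left.trans h1) (fun h => h2 (Or.inl h))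
      obtain ⟨W₂, o₂, η₂, k₂⟩ := hB (Set.subset_union_right.trans h1) (fun h => h2 (Or.inr h))
      exact ⟨W₁ ∩ W₂, o₁.inter o₂, ⟨η₁, η₂⟩, fun y hy hyW => hy.elim (fun h => k₁ y h hyW.1) fun h => k₂ y h hyW.2⟩
    · intro B hB hirr _ hBz hzB
      have hb := hirr.isGenericPoint_genericPoint hB
      let b := hirr.genericPoint
      by_cases hfb : f b = genericPoint S
      · obtain ⟨W₁, hW₁, hη₁, hrd'⟩ := exists_nhd_rd_eq f hfb
        refine ⟨W₀ ∩ W₁, hW₀.inter hW₁, ⟨hη₀, hη₁⟩, fun y hy hyW hmax => ?_⟩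
        have hby : b ⤳ y := hb.specializes hy
        have hzb : z ⤳ b := specializes_iff_mem_closure.2 (hBz hb.mem)
        have hzy : z ⤳ y := hzb.trans hby
        have e1 := hrd y hzy hyW.1 hmax
        have e2 := hrd' y hby hyW.2 fun y' h1 h2 h3 => hmax y' (hzb.trans h1) h2 h3
        have h3 := FibDim.rd_lt f hzb (fun e => hzB (e ▸ hb.mem)) (hz.trans hfb.symm)
        omega
      · refine ⟨(closure {f b})ᶜ, isClosed_closure.isOpen_compl, fun h => hfb ?_, fun y hy hyW _ => ?_⟩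
        · exact ((specializes_iff_mem_closure.2 h).antisymm ((genericPoint_spec S).specializes (Set.mem_univ _))).eq
        · exact hyW ((hb.specializes hy).map f.continuous).mem_closure
  obtain ⟨W₁, hW₁, hη₁, hbad⟩ := key (closure {z} ∩ Oᶜ) (isClosed_closure.inter hO.isClosed_compl)
    Set.inter_subset_left (fun h => h.2 hzO)
  refine ⟨W₁, hW₁, hη₁, fun y hzy hyW => ?_⟩
  obtain ⟨T, j, _, _, hr, hg⟩ := exists_integral_closure z
  obtain ⟨w, rfl⟩ : y ∈ Set.range j := hr.ge hzy.mem_closure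
  obtain ⟨v, hv, hfv, hmax, -⟩ := FibDim.exists_fibMax_generization (j ≫ f) w
  have hzv : z ⤳ j v := hg ▸ ((genericPoint_spec T).specializes (Set.mem_univ v)).map j.continuous
  have hvO : j v ∈ O := by
    by_contra hvO
    refine hbad (j v) ⟨hzv.mem_closure, hvO⟩ (show f (j v) ∈ W₁ from ?_) fun y' h1 h2 h3 => ?_
    · rw [← Scheme.Hom.comp_apply, hfv]; exact hyW
    · obtain ⟨v', rfl⟩ : y' ∈ Set.range j := hr.ge h1.mem_closure
      exact congrArg j (hmax v' (j.isClosedEmbedding.isInducing.specializes_iff.1 h2) h3)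
  exact closure_mono (Set.singleton_subset_iff.2
    (show j v ∈ Z ∩ f ⁻¹' {f (j w)} from ⟨hsub ⟨hvO, hzv.mem_closure⟩, hfv⟩)) (hv.map j.continuous).mem_closure

theorem exists_nhd_dense [IsNoetherian X] {Z Z' : Set X} (hZ : IsConstructible Z) (hZ' : IsConstructible Z')
    (h : Z' ∩ f ⁻¹' {genericPoint S} ⊆ closure (Z ∩ f ⁻¹' {genericPoint S})) :
    ∃ W : Set S, IsOpen W ∧ genericPoint S ∈ W ∧ ∀ s ∈ W, Z' ∩ f ⁻¹' {s} ⊆ closure (Z ∩ f ⁻¹' {s}) := by
  suffices H : ∀ C : Set X, IsClosed C → ∃ W : Set S, IsOpen W ∧ genericPoint S ∈ W ∧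
      ∀ y ∈ C ∩ Z', f y ∈ W → y ∈ closure (Z ∩ f ⁻¹' {f y}) by
    obtain ⟨W, hW, hηW, hk⟩ := H Set.univ isClosed_univ
    exact ⟨W, hW, hηW, fun s hs y hy => by
      have := hk y ⟨trivial, hy.1⟩ (show f y ∈ W from (show f y = s from hy.2).symm ▸ hs)
      rwa [show f y = s from hy.2] at this⟩
  intro C hC
  refine SpecLib.irred_induction (P := fun C => ∃ W : Set S, IsOpen W ∧ genericPoint S ∈ W ∧
      ∀ y ∈ C ∩ Z', f y ∈ W → y ∈ closure (Z ∩ f ⁻¹' {f y})) ?_ ?_ ?_ hC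
  · exact ⟨Set.univ, isOpen_univ, trivial, fun y hy => hy.1.elim⟩
  · rintro A B _ _ ⟨W₁, o₁, η₁, k₁⟩ ⟨W₂, o₂, η₂, k₂⟩
    exact ⟨W₁ ∩ W₂, o₁.inter o₂, ⟨η₁, η₂⟩, fun y hy hyW =>
      hy.1.elim (fun h => k₁ y ⟨h, hy.2⟩ hyW.1) fun h => k₂ y ⟨h, hy.2⟩ hyW.2⟩
  · intro C hC hirr ih
    have hb := hirr.isGenericPoint_genericPoint hC
    let b := hirr.genericPoint
    by_cases hbZ : b ∈ Z'
    · by_cases hfb : f b = genericPoint S
      · obtain ⟨z, hz, hzb⟩ : ∃ z ∈ Z, z ⤳ b := by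
          have hcl : b ∈ closure Z := closure_mono Set.inter_subset_left (h ⟨hbZ, hfb⟩)
          haveI : SpectralSpace ↥X := { }
          exact (ProConsLib.consClosed_of_isConstructible hZ).exists_specializes_of_mem_closure hcl
        have hfz : f z = genericPoint S :=
          ((hzb.map f.continuous).trans (specializes_of_eq hfb)).antisymm
            ((genericPoint_spec S).specializes (Set.mem_univ _)) |>.eq
        obtain ⟨W, hW, hηW, hk⟩ := exists_nhd_closure f hZ hz hfz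
        exact ⟨W, hW, hηW, fun y hy hyW => hk y (hzb.trans (hb.specializes hy.1)) hyW⟩
      · refine ⟨(closure {f b})ᶜ, isClosed_closure.isOpen_compl, fun h => hfb ?_, fun y hy hyW => ?_⟩
        · exact ((specializes_iff_mem_closure.2 h).antisymm ((genericPoint_spec S).specializes (Set.mem_univ _))).eq
        · exact absurd ((hb.specializes hy.1).map f.continuous).mem_closure hyW
    · obtain ⟨O, hO, hbO, hsub⟩ := exists_open_closure_subset hZ'.compl hbZ
      obtain ⟨W, hW, hηW, hk⟩ := ih (C ∩ Oᶜ) (hC.inter hO.isClosed_compl)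
        (Set.inter_subset_left.ssubset_of_ne fun e => (e.ge hb.mem).2 hbO)
      exact ⟨W, hW, hηW, fun y hy hyW => hk y ⟨⟨hy.1, fun hyO => hsub
        ⟨hyO, (hb.specializes hy.1).mem_closure⟩ hy.2⟩, hy.2⟩ hyW⟩

theorem exists_nhd_eq_on_fibres {A B : Set X} (hA : IsConstructible A) (hB : IsConstructible B)
    (h : A ∩ f ⁻¹' {genericPoint S} = B ∩ f ⁻¹' {genericPoint S}) :
    ∃ W : Set S, IsOpen W ∧ genericPoint S ∈ W ∧ ∀ s ∈ W, A ∩ f ⁻¹' {s} = B ∩ f ⁻¹' {s} := by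
  obtain ⟨W₁, o₁, η₁, k₁⟩ := image_avoid f (hA.sdiff hB) fun x hx e => hx.2 (h.le ⟨hx.1, e⟩).1
  obtain ⟨W₂, o₂, η₂, k₂⟩ := image_avoid f (hB.sdiff hA) fun x hx e => hx.2 (h.ge ⟨hx.1, e⟩).1
  refine ⟨W₁ ∩ W₂, o₁.inter o₂, ⟨η₁, η₂⟩, fun s hs => Set.ext fun x => ⟨fun hx => ⟨?_, hx.2⟩, fun hx => ⟨?_, hx.2⟩⟩⟩
  · by_contra hxB
    exact k₁ x ⟨hx.1, hxB⟩ (show f x ∈ W₁ from (show f x = s from hx.2).symm ▸ hs.1)
  · by_contra hxA
    exact k₂ x ⟨hx.1, hxA⟩ (show f x ∈ W₂ from (show f x = s from hx.2).symm ▸ hs.2)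

end Groth.Agent.ConsPropLib
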