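import Groth.Agent.ConsPropLib.Noetherian
import Groth.Agent.FibDim.Comp

/-!
# Fibrewise properties of morphisms (EGA IV 9.2.5)
-/

set_option autoImplicit false
set_option linter.style.haveILetI false

open CategoryTheory CategoryTheory.Limits AlgebraicGeometry Topology

namespace Groth.Agent.ConsPropLib

universe u

theorem isLocallyNoetherian_point (T : Scheme.{u}) [IsIntegral T] [Subsingleton T] : IsLocallyNoetherian T := by
  have hF := isField_of_isIntegral_of_subsingleton T
  refine ⟨fun U => ?_⟩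
  by_cases hne : ((U : T.Opens) : Set T).Nonempty
  · obtain ⟨x, hx⟩ := hne
    rw [show (U : T.Opens) = ⊤ from eq_top_iff.2 fun y _ => by rwa [Subsingleton.elim y x]]
    letI := hF.toField
    infer_instance
  · rw [show (U : T.Opens) = ⊥ from eq_bot_iff.2 fun y hy => (hne ⟨y, hy⟩).elim]
    haveI : Subsingleton Γ(T, ⊥) := CommRingCat.subsingleton_of_isTerminal T.sheaf.isTerminalOfEmpty
    infer_instance

variable {P : ∀ ⦃Y T : Scheme.{u}⦄, (Y ⟶ T) → Prop}

theorem isFieldStableMor_forall_fiber (hP : ConsProp.IsFieldStable P) :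
    ConsProp.IsFieldStableMor (fun X Y T f g => ∀ y : ↥Y, P (f.fiberToSpecResidueField y)) := by
  intro X X' Y Y' T T' f g f' g' eX eY h _ _ _ _ _ _ _ _ sqY sqX
  haveI := isLocallyNoetherian_point T
  haveI : IsLocallyNoetherian Y := LocallyOfFiniteType.isLocallyNoetherian g
  haveI : LocallyOfFiniteType f := locallyOfFiniteType_of_comp f g
  haveI : QuasiCompact f := QuasiCompact.of_comp f g
  have hsurj : Function.Surjective eY := fun y => by
    obtain ⟨x, hx, -⟩ := Scheme.exists_preimage_of_isPullback sqY y (genericPoint T') (Subsingleton.elim _ _)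
    exact ⟨x, hx⟩
  have hl := locus_preimage hP sqX
  refine ⟨fun h y' => hl.ge (h (eY y')), fun h y => ?_⟩
  obtain ⟨y', rfl⟩ := hsurj y
  exact hl.le (h y')

theorem locusMor_forall_fiber (hP : ConsProp.IsFieldStable P) {X Y S : Scheme.{u}} (f : X ⟶ Y) (g : Y ⟶ S)
    [LocallyOfFiniteType f] [QuasiCompact f] :
    ConsProp.locusMor (fun X Y T f g => ∀ y : ↥Y, P (f.fiberToSpecResidueField y)) f g =
      {s | ∀ y, g y = s → y ∈ ConsProp.locus P f} := by
  ext s
  have h1 : IsPullback ((f ≫ g).fiberι s) ((f ≫ g).fiberToSpecResidueField s) (f ≫ g)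
      (S.fromSpecResidueField s) := IsPullback.of_hasPullback _ _
  have h2 : IsPullback (g.fiberι s) (g.fiberToSpecResidueField s) g (S.fromSpecResidueField s) :=
    IsPullback.of_hasPullback _ _
  have sq : IsPullback ((f ≫ g).fiberι s) (MoreMor.fiberMap f g s) f (g.fiberι s) :=
    IsPullback.of_bot (by rwa [fiberMap_comp_toSpec]) (fiberMap_comp_ι f g s).symm h2
  have hl := locus_preimage hP sq
  constructor
  · intro h y hy
    obtain ⟨w, rfl⟩ : y ∈ Set.range (g.fiberι s) := by rw [Scheme.Hom.range_fiberι]; exact hy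
    exact hl.le (h w)
  · exact fun h w => hl.ge (h _ (g.range_fiberι s |>.le ⟨w, rfl⟩))

theorem exists_open_locus (hP : ConsProp.IsIndCons P) {X Y : Scheme.{u}} [IsNoetherian Y] (f : X ⟶ Y)
    [LocallyOfFiniteType f] [QuasiCompact f] {z : Y} (hz : z ∈ ConsProp.locus P f) :
    ∃ U : Set Y, IsOpen U ∧ z ∈ U ∧ U ∩ closure {z} ⊆ ConsProp.locus P f := by
  refine exists_open_inter_closure _ (fun T j _ _ _ hj => ?_) hz
  have hl := locus_preimage hP.1 (IsPullback.of_hasPullback f j)
  rw [← hl]
  exact hP.2 (pullback.snd f j) (hl.ge hj)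

theorem isIndCons_of_isCons (hP : ConsProp.IsCons P) : ConsProp.IsIndCons P := by
  refine ⟨hP.1, fun X S u _ _ _ _ hη => (hP.2 u).resolve_right fun hi => ?_⟩
  exact interior_subset (exists_nhd_generic isOpen_interior hi) hη

theorem isIndCons_not (hP : ConsProp.IsCons P) : ConsProp.IsIndCons (fun Y T g => ¬ P g) := by
  refine ⟨fun Y Y' T T' g g' e h _ _ _ _ _ _ sq => not_congr (hP.1 g g' e h sq),
    fun X S u _ _ _ _ hη => (hP.2 u).resolve_left fun hi => ?_⟩
  exact hη (interior_subset (exists_nhd_generic isOpen_interior hi) :)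

theorem isIndConsMor_forall_fiber (hP : ConsProp.IsIndCons P) :
    ConsProp.IsIndConsMor (fun X Y T f g => ∀ y : ↥Y, P (f.fiberToSpecResidueField y)) := by
  refine ⟨isFieldStableMor_forall_fiber hP.1, fun X Y S f g _ _ _ _ _ _ hη => ?_⟩
  haveI : IsLocallyNoetherian Y := LocallyOfFiniteType.isLocallyNoetherian g
  haveI : CompactSpace Y := QuasiCompact.compactSpace_of_compactSpace g
  haveI : IsNoetherian Y := {}
  haveI : LocallyOfFiniteType f := locallyOfFiniteType_of_comp f g
  haveI : QuasiCompact f := QuasiCompact.of_comp f g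
  rw [locusMor_forall_fiber hP.1] at hη ⊢
  obtain ⟨W, hW, hηW, hsub⟩ := exists_nhd_fibre_subset g (ConsProp.locus P f)
    (fun z hz => exists_open_locus hP f hz) isClosed_univ fun y hy => hη y hy.2
  exact ⟨_, interior_maximal (t := W) (s := {s | ∀ y, g y = s → y ∈ ConsProp.locus P f})
    (fun s hs y hy => hsub ⟨trivial, by show g y ∈ W; rw [hy]; exact hs⟩) hW hηW⟩

theorem isConsMor_forall_fiber (hP : ConsProp.IsCons P) :
    ConsProp.IsConsMor (fun X Y T f g => ∀ y : ↥Y, P (f.fiberToSpecResidueField y)) := by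
  refine ⟨isFieldStableMor_forall_fiber hP.1, fun X Y S f g _ _ _ _ _ _ => ?_⟩
  by_cases hη : genericPoint S ∈ ConsProp.locusMor (fun X Y T f g => ∀ y : ↥Y, P (f.fiberToSpecResidueField y)) f g
  · exact .inl ((isIndConsMor_forall_fiber (isIndCons_of_isCons hP)).2 f g hη)
  right
  haveI : IsLocallyNoetherian Y := LocallyOfFiniteType.isLocallyNoetherian g
  haveI : CompactSpace Y := QuasiCompact.compactSpace_of_compactSpace g
  haveI : IsNoetherian Y := {}
  haveI : LocallyOfFiniteType f := locallyOfFiniteType_of_comp f g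
  haveI : QuasiCompact f := QuasiCompact.of_comp f g
  rw [locusMor_forall_fiber hP.1] at hη ⊢
  obtain ⟨y, hy, hyP⟩ : ∃ y, g y = genericPoint S ∧ y ∉ ConsProp.locus P f := by
    simpa using hη
  obtain ⟨U, hU, hyU, hsub⟩ := exists_open_locus (isIndCons_not hP) f (z := y) hyP
  have hC : IsConstructible (U ∩ closure {y}) :=
    (SpecLib.isConstructible_of_isOpen hU).inter (SpecLib.isConstructible_of_isClosed isClosed_closure)
  haveI : LocallyOfFinitePresentation g := inferInstance
  have himg := g.isConstructible_image hC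
  have hnhd := FibDim.mem_nhds_of_generizations himg.isLocallyConstructible (y := genericPoint S) fun t ht =>
    (ht.antisymm ((genericPoint_spec S).specializes (Set.mem_univ _))).eq.symm ▸ ⟨y, ⟨hyU, subset_closure rfl⟩, hy⟩
  obtain ⟨W, hWC, hW, hηW⟩ := mem_nhds_iff.1 hnhd
  refine ⟨_, interior_maximal (t := W) (s := {s | ∀ y, g y = s → y ∈ ConsProp.locus P f}ᶜ) (fun s hs hall => ?_) hW hηW⟩
  obtain ⟨w, hw, hws⟩ := hWC hs
  exact hsub hw (hall w hws)

end Groth.Agent.ConsPropLib
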