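import Groth.Agent.ConsPropLib.ExistsHom
import Groth.Agent.MorLib.DescendIso
import Mathlib.RingTheory.Jacobson.Ring

/-!
# Isomorphisms over an extension field are defined over a finite extension
-/

set_option autoImplicit false
set_option linter.style.haveILetI false

open CategoryTheory CategoryTheory.Limits AlgebraicGeometry Groth.Agent.MorLib Groth.Agent.MorLib.Desc

namespace Groth.Agent.ConsPropLib

universe u

/-- A nonempty affine scheme of finite type over a field has a point in a finite extension. -/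
theorem exists_finite_point {k : Type u} [Field k] {W : Scheme.{u}} [IsAffine W] [Nonempty W]
    (t : W ⟶ Spec (CommRingCat.of k)) [LocallyOfFiniteType t] :
    ∃ (k' : Type u) (_ : Field k') (_ : Algebra k k') (_ : Module.Finite k k')
      (w : Spec (CommRingCat.of k') ⟶ W),
      w ≫ t = Spec.map (CommRingCat.ofHom (algebraMap k k')) := by
  let ψ : CommRingCat.of k ⟶ Γ(W, ⊤) := Spec.preimage (W.isoSpec.inv ≫ t)
  have hψ : Spec.map ψ = W.isoSpec.inv ≫ t := Spec.map_preimage _
  have hft : ψ.hom.FiniteType :=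
    (HasRingHomProperty.Spec_iff (P := @LocallyOfFiniteType)).1 (by rw [hψ]; infer_instance)
  letI : Algebra k Γ(W, ⊤) := ψ.hom.toAlgebra
  haveI : Algebra.FiniteType k Γ(W, ⊤) := hft
  haveI : Nontrivial Γ(W, ⊤) := PrimeSpectrum.nonempty_iff_nontrivial.1 (Nonempty.map W.isoSpec.hom ‹_›)
  obtain ⟨m, hm⟩ := Ideal.exists_maximal Γ(W, ⊤)
  haveI := hm
  letI : Field (Γ(W, ⊤) ⧸ m) := Ideal.Quotient.field m
  haveI : Algebra.FiniteType k (Γ(W, ⊤) ⧸ m) :=
    Algebra.FiniteType.of_surjective (Ideal.Quotient.mkₐ k m) Ideal.Quotient.mk_surjective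
  haveI : Module.Finite k (Γ(W, ⊤) ⧸ m) := finite_of_finite_type_of_isJacobsonRing k _
  refine ⟨Γ(W, ⊤) ⧸ m, inferInstance, inferInstance, inferInstance,
    Spec.map (CommRingCat.ofHom (Ideal.Quotient.mk m)) ≫ W.isoSpec.inv, ?_⟩
  rw [Category.assoc, ← hψ, ← Spec.map_comp]
  rfl

theorem exists_iso_baseChange_finite {k : Type u} [Field k] {X Y : Scheme.{u}}
    (p : X ⟶ Spec (CommRingCat.of k)) (q : Y ⟶ Spec (CommRingCat.of k))
    [LocallyOfFiniteType p] [QuasiCompact p] [LocallyOfFiniteType q] [QuasiCompact q]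
    {K : Type u} [Field K] (τ₀ : Spec (CommRingCat.of K) ⟶ Spec (CommRingCat.of k))
    (g : pullback p τ₀ ≅ pullback q τ₀) (hg : g.hom ≫ pullback.snd q τ₀ = pullback.snd p τ₀) :
    ∃ (k' : Type u) (_ : Field k') (_ : Algebra k k') (_ : Module.Finite k k')
      (e' : pullback p (Spec.map (CommRingCat.ofHom (algebraMap k k'))) ≅
        pullback q (Spec.map (CommRingCat.ofHom (algebraMap k k')))),
      e'.hom ≫ pullback.snd q (Spec.map (CommRingCat.ofHom (algebraMap k k'))) =
        pullback.snd p (Spec.map (CommRingCat.ofHom (algebraMap k k'))) := by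
  obtain ⟨I, _, _, D, c, hc, e, t₀, hA, ht, htc'⟩ := exists_finiteType_limit τ₀
  let τ : ∀ i, D.obj i ⟶ Spec (CommRingCat.of k) := fun i => t₀.app i
  have htc : ∀ i, c.π.app i ≫ τ i = e.hom ≫ τ₀ := htc'
  haveI := hA
  haveI : ∀ {i j : I} (f : i ⟶ j), IsAffineHom (D.map f) := fun f => isAffineHom_of_isAffine _
  haveI : ∀ (i j : I) (f : i ⟶ j), IsAffineHom (D.map f) := fun i j f => isAffineHom_of_isAffine _
  haveI : ∀ i, LocallyOfFiniteType (τ i) := ht
  obtain ⟨i⟩ := IsCofiltered.nonempty (C := I)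
  have htw : ∀ {a b : I} (φ : a ⟶ b), D.map φ ≫ τ b = τ a := fun {a b} φ =>
    (t₀.naturality φ).trans (Category.comp_id _)
  haveI : IsLocallyNoetherian (Spec (CommRingCat.of k)) := inferInstance
  haveI : ∀ j, IsLocallyNoetherian (D.obj j) := fun j => LocallyOfFiniteType.isLocallyNoetherian (τ j)
  haveI : ∀ j, IsNoetherian (D.obj j) := fun j => {}
  let xi : pullback p (τ i) ⟶ D.obj i := pullback.snd p (τ i)
  let yi : pullback q (τ i) ⟶ D.obj i := pullback.snd q (τ i)
  haveI : CompactSpace ↥(pullback p (τ i)) := QuasiCompact.compactSpace_of_compactSpace xi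
  haveI : CompactSpace ↥(pullback q (τ i)) := QuasiCompact.compactSpace_of_compactSpace yi
  haveI : IsLocallyNoetherian (pullback p (τ i)) := LocallyOfFiniteType.isLocallyNoetherian xi
  haveI : IsLocallyNoetherian (pullback q (τ i)) := LocallyOfFiniteType.isLocallyNoetherian yi
  let pi : c.pt ⟶ D.obj i := c.π.app i
  have sXc : IsPullback (pullback.fst p τ₀) (pullback.snd p τ₀ ≫ e.inv) p (pi ≫ τ i) := by
    rw [htc]
    exact (IsPullback.of_hasPullback p τ₀).of_iso (Iso.refl _) (Iso.refl _) e.symm (Iso.refl _)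
      (by simp) (by simp) (by simp) (by simp)
  have sYc : IsPullback (pullback.fst q τ₀) (pullback.snd q τ₀ ≫ e.inv) q (pi ≫ τ i) := by
    rw [htc]
    exact (IsPullback.of_hasPullback q τ₀).of_iso (Iso.refl _) (Iso.refl _) e.symm (Iso.refl _)
      (by simp) (by simp) (by simp) (by simp)
  obtain ⟨qhX, hX⟩ : ∃ r, IsPullback r (pullback.snd p τ₀ ≫ e.inv) xi pi :=
    ⟨(IsPullback.of_hasPullback p (τ i)).lift _ ((pullback.snd p τ₀ ≫ e.inv) ≫ pi)
      (sXc.w.trans (Category.assoc _ _ _).symm),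
      IsPullback.of_right (by rw [IsPullback.lift_fst]; exact sXc) (IsPullback.lift_snd _ _ _ _)
      (IsPullback.of_hasPullback p (τ i))⟩
  obtain ⟨qhY, hY⟩ : ∃ r, IsPullback r (pullback.snd q τ₀ ≫ e.inv) yi pi :=
    ⟨(IsPullback.of_hasPullback q (τ i)).lift _ ((pullback.snd q τ₀ ≫ e.inv) ≫ pi)
      (sYc.w.trans (Category.assoc _ _ _).symm),
      IsPullback.of_right (by rw [IsPullback.lift_fst]; exact sYc) (IsPullback.lift_snd _ _ _ _)
      (IsPullback.of_hasPullback q (τ i))⟩
  obtain ⟨j, φ, gj, sA, sB, hgj, hA1, hA2, hB1, hB2, hs⟩ :=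
    Groth.Agent.S9218.result D c hc i xi yi _ _ hX _ _ hY g.hom (by rw [← Category.assoc, hg])
  have mX : IsModel (pullback.snd p τ₀ ≫ e.inv) i xi _ := ⟨inferInstance, inferInstance, inferInstance, hX⟩
  have mY : IsModel (pullback.snd q τ₀ ≫ e.inv) i yi _ := ⟨inferInstance, inferInstance, inferInstance, hY⟩
  have eA : sA = mX.push φ := pullback.hom_ext (hA1.trans (mX.push_fst φ).symm) (hA2.trans (mX.push_snd φ).symm)
  have eB : sB = mY.push φ := pullback.hom_ext (hB1.trans (mY.push_fst φ).symm) (hB2.trans (mY.push_snd φ).symm)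
  subst eA eB
  have sqg : IsPullback (mX.push φ) g.hom gj (mY.push φ) := by
    refine IsPullback.of_bot ?_ hs (mY.pushed φ).sq
    rw [hgj, ← Category.assoc, hg]
    exact (mX.pushed φ).sq
  haveI := (mX.pushed φ).lfp; haveI := (mX.pushed φ).qc; haveI := (mX.pushed φ).qs
  haveI := (mY.pushed φ).lfp; haveI := (mY.pushed φ).qc; haveI := (mY.pushed φ).qs
  haveI : LocallyOfFinitePresentation (gj ≫ pullback.snd yi (D.map φ)) := by rw [hgj]; infer_instance
  haveI : QuasiCompact (gj ≫ pullback.snd yi (D.map φ)) := by rw [hgj]; infer_instance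
  haveI : QuasiSeparated (gj ≫ pullback.snd yi (D.map φ)) := by rw [hgj]; infer_instance
  haveI : LocallyOfFinitePresentation gj :=
    Groth.Agent.AlgSpPts.locallyOfFinitePresentation_of_comp gj (pullback.snd yi (D.map φ))
  haveI : QuasiCompact gj := QuasiCompact.of_comp gj (pullback.snd yi (D.map φ))
  haveI : QuasiSeparated gj := QuasiSeparated.of_comp gj (pullback.snd yi (D.map φ))
  haveI : CompactSpace ↥(pullback yi (D.map φ)) := (mY.pushed φ).compactSpace
  haveI : MorphismProperty.RespectsIso (@LocallyOfFinitePresentation : MorphismProperty Scheme.{u}) :=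
    MorphismProperty.IsStableUnderBaseChange.respectsIso
  obtain ⟨l, ψ, Xl, Yl, gl, gYl, pY, pX, sYl, sXl, hiso⟩ := descend₂ D c hc
    (P := MorphismProperty.isomorphisms Scheme.{u}) (Q := @LocallyOfFinitePresentation) core_iso gj
    (pullback.snd yi (D.map φ)) inferInstance g.hom _ _ _ (mY.pushed φ).sq sqg
    (inferInstanceAs (IsIso g.hom))
  haveI : IsIso gl := hiso
  obtain ⟨qtX, tX⟩ : ∃ r, IsPullback r (gl ≫ gYl) p (τ l) := by
    have := sXl.paste_vert sYl
    rw [hgj] at this
    have := (this.paste_horiz (IsPullback.of_hasPullback xi (D.map φ))).paste_horiz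
      (IsPullback.of_hasPullback p (τ i))
    rw [← D.map_comp, htw] at this
    exact ⟨_, this⟩
  obtain ⟨qtY, tY⟩ : ∃ r, IsPullback r gYl q (τ l) := by
    have := (sYl.paste_horiz (IsPullback.of_hasPullback yi (D.map φ))).paste_horiz
      (IsPullback.of_hasPullback q (τ i))
    rw [← D.map_comp, htw] at this
    exact ⟨_, this⟩
  obtain ⟨x⟩ : Nonempty (Spec (CommRingCat.of K)) := inferInstance
  haveI : Nonempty (D.obj l) := ⟨c.π.app l (e.inv x)⟩
  obtain ⟨k', _, _, hfin, w, hw⟩ := exists_finite_point (τ l)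
  refine ⟨k', inferInstance, inferInstance, hfin, ?_⟩
  rw [← hw]
  have pX' := (IsPullback.of_hasPullback (gl ≫ gYl) w).paste_horiz tX
  have pY' := (IsPullback.of_hasPullback gYl w).paste_horiz tY
  let m : pullback (gl ≫ gYl) w ⟶ pullback gYl w :=
    pullback.map (gl ≫ gYl) w gYl w gl (𝟙 _) (𝟙 _) (by simp) (by simp)
  refine ⟨pX'.isoPullback.symm ≪≫ asIso m ≪≫ pY'.isoPullback, ?_⟩
  simp [m, pullback.lift_snd]

end Groth.Agent.ConsPropLib
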