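import Groth.Agent.ConsPropLib.GenIso

/-!
# Generic exactness on fibres (EGA IV 9.4.2)
-/

set_option autoImplicit false
set_option linter.style.haveILetI false

open TensorProduct Groth.Agent.GenFree

namespace Groth.Agent.ConsPropLib

universe u

/-- A complex of finite modules over an algebra of finite type over a noetherian domain is exact on all fibres
over some nonempty basic open, or on none. -/
theorem exists_exact_dichotomy {R : Type u} [CommRing R] [IsDomain R] [IsNoetherianRing R] (S : Type u)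
    [CommRing S] [Algebra R S] [Algebra.FiniteType R S] {F G H : Type u}
    [AddCommGroup F] [Module S F] [Module R F] [IsScalarTower R S F] [Module.Finite S F]
    [AddCommGroup G] [Module S G] [Module R G] [IsScalarTower R S G] [Module.Finite S G]
    [AddCommGroup H] [Module S H] [Module R H] [IsScalarTower R S H] [Module.Finite S H]
    (u : F →ₗ[S] G) (v : G →ₗ[S] H) :
    ∃ f : R, f ≠ 0 ∧
      ((∀ (k : Type u) [CommRing k] [Algebra R k] [Nontrivial k], IsUnit (algebraMap R k f) →
          Function.Exact ((u.restrictScalars R).lTensor k) ((v.restrictScalars R).lTensor k)) ∨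
       ∀ (k : Type u) [CommRing k] [Algebra R k] [Nontrivial k], IsUnit (algebraMap R k f) →
          ¬ Function.Exact ((u.restrictScalars R).lTensor k) ((v.restrictScalars R).lTensor k)) := by
  haveI : IsNoetherianRing S := Algebra.FiniteType.isNoetherianRing R S
  let w := v.comp u
  let K := LinearMap.ker v
  let J : Submodule S K := (LinearMap.range u).comap K.subtype
  obtain ⟨f₁, h₁, g₁⟩ := exists_gfree (R := R) (M := H ⧸ LinearMap.range v) S
  obtain ⟨f₂, h₂, g₂⟩ := exists_gfree (R := R) (M := G ⧸ K) S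
  obtain ⟨f₃, h₃, g₃⟩ := exists_gfree (R := R) (M := H ⧸ LinearMap.range w) S
  obtain ⟨f₄, h₄, g₄⟩ := exists_gfree (R := R) (M := LinearMap.range w) S
  obtain ⟨f₅, h₅, g₅⟩ := exists_gfree (R := R) (M := K ⧸ J) S
  let f := f₁ * f₂ * f₃ * f₄ * f₅
  refine ⟨f, mul_ne_zero (mul_ne_zero (mul_ne_zero (mul_ne_zero h₁ h₂) h₃) h₄) h₅, ?_⟩
  let uR := u.restrictScalars R
  let vR := v.restrictScalars R
  let wR := w.restrictScalars R
  have gv : GFree R f (H ⧸ LinearMap.range vR) :=
    gfree_of_equiv ((Submodule.Quotient.restrictScalarsEquiv R (LinearMap.range v)).symm)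
      (g₁.of_dvd ⟨f₂ * f₃ * f₄ * f₅, by ring⟩)
  have gG : GFree R f (G ⧸ LinearMap.ker vR) :=
    gfree_of_equiv ((Submodule.Quotient.restrictScalarsEquiv R K).symm) (g₂.of_dvd ⟨f₁ * f₃ * f₄ * f₅, by ring⟩)
  have gw : GFree R f (H ⧸ LinearMap.range wR) :=
    gfree_of_equiv ((Submodule.Quotient.restrictScalarsEquiv R (LinearMap.range w)).symm)
      (g₃.of_dvd ⟨f₁ * f₂ * f₄ * f₅, by ring⟩)
  have gW : GFree R f (LinearMap.range wR) :=
    gfree_of_equiv (LinearEquiv.ofEq ((LinearMap.range w).restrictScalars R) _ rfl)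
      (g₄.of_dvd ⟨f₁ * f₂ * f₃ * f₅, by ring⟩ : GFree R f ((LinearMap.range w).restrictScalars R))
  let JR : Submodule R (LinearMap.ker vR) := (LinearMap.range uR).comap (LinearMap.ker vR).subtype
  have gQ : GFree R f ((LinearMap.ker vR) ⧸ JR) :=
    gfree_of_equiv ((Submodule.Quotient.restrictScalarsEquiv R J).symm) (g₅.of_dvd ⟨f₁ * f₂ * f₃ * f₄, by ring⟩)
  have hinjK : ∀ (k : Type u) [CommRing k] [Algebra R k], IsUnit (algebraMap R k f) →
      Function.Injective ((LinearMap.ker vR).subtype.lTensor k) := fun k _ _ hu =>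
    lTensor_injective_of_gfree _ Subtype.val_injective hu
      (gfree_of_equiv (Submodule.quotEquivOfEq _ _ (LinearMap.ker vR).range_subtype.symm) gG)
  have hscale : ∀ {M : Type u} [AddCommGroup M] [Module R M] (k : Type u) [CommRing k] [Algebra R k]
      (hu : IsUnit (algebraMap R k f)) (n : ℕ) (c : k) (m : M),
      (c * ↑(hu.unit⁻¹ ^ n)) ⊗ₜ[R] (f ^ n • m) = c ⊗ₜ[R] m := fun k _ _ hu n c m => by
    rw [tmul_smul, smul_tmul', Algebra.smul_def, map_pow, mul_left_comm, Units.val_pow_eq_pow_val,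
      ← mul_pow, hu.mul_val_inv, one_pow, mul_one]
  rcases gfree_dichotomy gW with tW | nW
  swap
  · refine .inr fun k _ _ _ hu hex => ?_
    haveI := nW k hu
    have h2 : Function.Injective ((LinearMap.range wR).subtype.lTensor k) :=
      lTensor_injective_of_gfree _ Subtype.val_injective hu
        (gfree_of_equiv (Submodule.quotEquivOfEq _ _ (LinearMap.range wR).range_subtype.symm) gw)
    refine not_subsingleton (k ⊗[R] LinearMap.range wR) (subsingleton_of_forall_eq 0 fun z => h2 ?_)
    obtain ⟨y, rfl⟩ := LinearMap.lTensor_surjective k wR.surjective_rangeRestrict z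
    rw [map_zero, ← LinearMap.comp_apply, ← LinearMap.lTensor_comp, LinearMap.subtype_comp_codRestrict]
    show wR.lTensor k y = 0
    rw [show wR = vR.comp uR from rfl, LinearMap.lTensor_comp, LinearMap.comp_apply]
    exact hex.apply_apply_eq_zero y
  have hwk : ∀ (k : Type u) [CommRing k] [Algebra R k], IsUnit (algebraMap R k f) → ∀ z,
      vR.lTensor k (uR.lTensor k z) = 0 := fun k _ _ hu z => by
    haveI := subsingleton_tensor_of_torsion (k := k) hu tW
    rw [← LinearMap.comp_apply, ← LinearMap.lTensor_comp, show vR.comp uR = wR from rfl,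
      show wR = (LinearMap.range wR).subtype ∘ₗ wR.rangeRestrict from
        (LinearMap.subtype_comp_codRestrict _ _ _).symm, LinearMap.lTensor_comp, LinearMap.comp_apply,
      Subsingleton.elim (wR.rangeRestrict.lTensor k z) 0, map_zero]
  have hu' : ∀ x : F, ∃ n : ℕ, vR (f ^ n • uR x) = 0 := fun x => by
    obtain ⟨n, hn⟩ := tW ⟨wR x, LinearMap.mem_range_self _ _⟩
    exact ⟨n, by rw [map_smul]; exact congrArg Subtype.val hn⟩
  have himg : ∀ (k : Type u) [CommRing k] [Algebra R k], IsUnit (algebraMap R k f) → ∀ t,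
      ∃ s : k ⊗[R] JR, (LinearMap.ker vR).subtype.lTensor k (JR.subtype.lTensor k s) = uR.lTensor k t := by
    intro k _ _ hu t
    induction t with
    | zero => exact ⟨0, by simp⟩
    | add a b ha hb =>
      obtain ⟨s, hs⟩ := ha; obtain ⟨s', hs'⟩ := hb
      exact ⟨s + s', by rw [map_add, map_add, hs, hs', map_add]⟩
    | tmul c x =>
      obtain ⟨n, hn⟩ := hu' x
      refine ⟨(c * ↑(hu.unit⁻¹ ^ n)) ⊗ₜ[R] ⟨⟨f ^ n • uR x, hn⟩, ⟨f ^ n • x, map_smul uR _ _⟩⟩, ?_⟩
      rw [LinearMap.lTensor_tmul, LinearMap.lTensor_tmul, LinearMap.lTensor_tmul]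
      exact hscale k hu n c (uR x)
  rcases gfree_dichotomy gQ with tQ | nQ
  · refine .inl fun k _ _ _ hu z => ⟨fun hz => ?_, ?_⟩
    · have h2 : Function.Injective ((LinearMap.range vR).subtype.lTensor k) :=
        lTensor_injective_of_gfree _ Subtype.val_injective hu
          (gfree_of_equiv (Submodule.quotEquivOfEq _ _ (LinearMap.range vR).range_subtype.symm) gv)
      have hz' : vR.rangeRestrict.lTensor k z = 0 := h2 (by
        rw [map_zero, ← LinearMap.comp_apply, ← LinearMap.lTensor_comp, LinearMap.subtype_comp_codRestrict]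
        exact hz)
      have hexK : Function.Exact (LinearMap.ker vR).subtype vR.rangeRestrict := fun y => by
        rw [← LinearMap.mem_ker, LinearMap.ker_rangeRestrict]
        exact ⟨fun h => ⟨⟨y, h⟩, rfl⟩, by rintro ⟨⟨_, h⟩, rfl⟩; exact h⟩
      obtain ⟨z', rfl⟩ := (lTensor_exact k hexK vR.surjective_rangeRestrict z).1 hz'
      clear hz hz'
      induction z' with
      | zero => exact ⟨0, by simp⟩
      | add a b ha hb =>
        obtain ⟨x, hx⟩ := ha; obtain ⟨y, hy⟩ := hb
        exact ⟨x + y, by rw [map_add, map_add, hx, hy]⟩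
      | tmul c y =>
        obtain ⟨m, hm⟩ := tQ (JR.mkQ y)
        obtain ⟨x, hx⟩ : f ^ m • y ∈ JR := (Submodule.Quotient.mk_eq_zero _).1 (by
          rw [Submodule.Quotient.mk_smul]; exact hm)
        refine ⟨(c * ↑(hu.unit⁻¹ ^ m)) ⊗ₜ[R] x, ?_⟩
        rw [LinearMap.lTensor_tmul, LinearMap.lTensor_tmul]
        refine Eq.trans ?_ (hscale k hu m c (y : G))
        rw [show uR x = f ^ m • (y : G) from hx]
    · rintro ⟨t, rfl⟩
      exact hwk k hu t
  · refine .inr fun k _ _ _ hu hex => ?_
    haveI := nQ k hu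
    refine not_subsingleton (k ⊗[R] (LinearMap.ker vR ⧸ JR)) (subsingleton_of_forall_eq 0 fun q => ?_)
    obtain ⟨z', rfl⟩ := LinearMap.lTensor_surjective k JR.mkQ_surjective q
    have hz : vR.lTensor k ((LinearMap.ker vR).subtype.lTensor k z') = 0 := by
      rw [← LinearMap.comp_apply, ← LinearMap.lTensor_comp, vR.comp_ker_subtype, LinearMap.lTensor_zero,
        LinearMap.zero_apply]
    obtain ⟨t, ht⟩ := (hex _).1 hz
    obtain ⟨s, hs⟩ := himg k hu t
    rw [← hinjK k hu (hs.trans ht)]
    exact (lTensor_exact k (LinearMap.exact_subtype_mkQ JR) JR.mkQ_surjective _).2 ⟨s, rfl⟩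

end Groth.Agent.ConsPropLib
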