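import Groth.Agent.ConsPropLib.GenExact
import Groth.Agent.ConsPropLib.Noetherian

/-!
# Exactness on fibres in terms of matrices, and reduction to noetherian rings
-/

set_option autoImplicit false
set_option linter.style.haveILetI false

open TensorProduct MvPolynomial Matrix

namespace Groth.Agent.ConsPropLib

universe u

variable {R : Type u} [CommRing R] {σ : Type}

/-- A matrix over a polynomial ring, with coefficients pushed along a ring map. -/
noncomputable def mapMat {k : Type u} [CommRing k] (ρ : R →+* k) {m n : Type} (A : Matrix m n (MvPolynomial σ R)) :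
    Matrix m n (MvPolynomial σ k) :=
  A.map (MvPolynomial.map ρ)

/-- Exactness after specialisation, for a complex of cokernels of matrices. -/
def ExactMat {k : Type u} [CommRing k] (ρ : R →+* k) {f g g' h h' : Type} [Fintype f] [Fintype g] [Fintype g']
    [Fintype h'] (U : Matrix g f (MvPolynomial σ R)) (AG : Matrix g g' (MvPolynomial σ R))
    (V : Matrix h g (MvPolynomial σ R)) (AH : Matrix h h' (MvPolynomial σ R)) : Prop :=
  ∀ y : g → MvPolynomial σ k, (mapMat ρ V) *ᵥ y ∈ LinearMap.range (mapMat ρ AH).mulVecLin ↔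
    y ∈ LinearMap.range (mapMat ρ U).mulVecLin ⊔ LinearMap.range (mapMat ρ AG).mulVecLin

theorem mapMat_comp {R' k : Type u} [CommRing R'] [CommRing k] (a : R →+* R') (ρ : R' →+* k) {m n : Type}
    (A : Matrix m n (MvPolynomial σ R)) : mapMat ρ (mapMat a A) = mapMat (ρ.comp a) A := by
  ext i j
  simp [mapMat, MvPolynomial.map_map]

section

variable {f g g' h h' : Type} [Fintype f] [Fintype g] [Fintype g'] [Fintype h] [Fintype h']
  (U : Matrix g f (MvPolynomial σ R)) (AG : Matrix g g' (MvPolynomial σ R))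
  (V : Matrix h g (MvPolynomial σ R)) (AH : Matrix h h' (MvPolynomial σ R))

theorem exactMat_comp {R' k : Type u} [CommRing R'] [CommRing k] (a : R →+* R') (ρ : R' →+* k) :
    ExactMat ρ (mapMat a U) (mapMat a AG) (mapMat a V) (mapMat a AH) ↔ ExactMat (ρ.comp a) U AG V AH := by
  simp only [ExactMat, mapMat_comp]

end

variable {k : Type u} [CommRing k] [Algebra R k]

/-- Vectors of polynomials, extended to `k`. -/
noncomputable def vecEquiv (b : Type) [Fintype b] [DecidableEq b] :
    k ⊗[R] (b → MvPolynomial σ R) ≃ₗ[k] (b → MvPolynomial σ k) :=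
  (TensorProduct.piRight R k k fun _ : b => MvPolynomial σ R).trans
    (LinearEquiv.piCongrRight fun _ => (MvPolynomial.algebraTensorAlgEquiv R k).toLinearEquiv)

theorem vecEquiv_tmul (b : Type) [Fintype b] [DecidableEq b] (c : k) (v : b → MvPolynomial σ R) (i : b) :
    vecEquiv b (c ⊗ₜ[R] v) i = c • MvPolynomial.map (algebraMap R k) (v i) := by
  simp [vecEquiv]

theorem vecEquiv_mulVec {a b : Type} [Fintype a] [Fintype b] [DecidableEq a] [DecidableEq b]
    (A : Matrix b a (MvPolynomial σ R)) (z : k ⊗[R] (a → MvPolynomial σ R)) :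
    vecEquiv b ((A.mulVecLin.restrictScalars R).lTensor k z) = (mapMat (algebraMap R k) A) *ᵥ vecEquiv a z := by
  induction z with
  | zero => simp
  | add x y hx hy => rw [map_add, map_add, map_add, hx, hy, Matrix.mulVec_add]
  | tmul c v =>
    ext1 i
    have e : vecEquiv a (c ⊗ₜ[R] v) = c • fun j => MvPolynomial.map (algebraMap R k) (v j) :=
      funext fun j => vecEquiv_tmul a c v j
    rw [e, Matrix.mulVec_smul, LinearMap.lTensor_tmul, vecEquiv_tmul, Pi.smul_apply]
    congr 1
    exact RingHom.map_mulVec (MvPolynomial.map (algebraMap R k)) A v i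

theorem mem_range_mulVec_iff {a b : Type} [Fintype a] [Fintype b] [DecidableEq a] [DecidableEq b]
    (A : Matrix b a (MvPolynomial σ R)) (z : k ⊗[R] (b → MvPolynomial σ R)) :
    (∃ x, (A.mulVecLin.restrictScalars R).lTensor k x = z) ↔
      vecEquiv b z ∈ LinearMap.range (mapMat (algebraMap R k) A).mulVecLin := by
  constructor
  · rintro ⟨x, rfl⟩
    exact ⟨vecEquiv a x, (vecEquiv_mulVec A x).symm⟩
  · rintro ⟨x, hx⟩
    obtain ⟨x, rfl⟩ := (vecEquiv (R := R) (k := k) a).surjective x
    exact ⟨x, (vecEquiv b).injective ((vecEquiv_mulVec A x).trans hx)⟩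

/-- Exactness after tensoring with `k` in terms of presentations. -/
theorem exact_lTensor_iff_exactMat {f g g' h h' : Type} [Fintype f] [Fintype g] [Fintype g'] [Fintype h]
    [Fintype h'] (U : Matrix g f (MvPolynomial σ R)) (AG : Matrix g g' (MvPolynomial σ R))
    (V : Matrix h g (MvPolynomial σ R)) (AH : Matrix h h' (MvPolynomial σ R))
    {F G H : Type u} [AddCommGroup F] [Module R F] [Module (MvPolynomial σ R) F]
    [IsScalarTower R (MvPolynomial σ R) F] [AddCommGroup G] [Module R G] [Module (MvPolynomial σ R) G]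
    [IsScalarTower R (MvPolynomial σ R) G] [AddCommGroup H] [Module R H] [Module (MvPolynomial σ R) H]
    [IsScalarTower R (MvPolynomial σ R) H]
    (πF : (f → MvPolynomial σ R) →ₗ[MvPolynomial σ R] F) (hF : Function.Surjective πF)
    (πG : (g → MvPolynomial σ R) →ₗ[MvPolynomial σ R] G) (hG : Function.Surjective πG)
    (hGex : Function.Exact AG.mulVecLin πG)
    (πH : (h → MvPolynomial σ R) →ₗ[MvPolynomial σ R] H) (hH : Function.Surjective πH)
    (hHex : Function.Exact AH.mulVecLin πH)
    (u : F →ₗ[R] G) (v : G →ₗ[R] H) (hu : ∀ x, u (πF x) = πG (U *ᵥ x)) (hv : ∀ y, v (πG y) = πH (V *ᵥ y)) :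
    Function.Exact (u.lTensor k) (v.lTensor k) ↔ ExactMat (algebraMap R k) U AG V AH := by
  classical
  let pF := πF.restrictScalars R
  let pG := πG.restrictScalars R
  let pH := πH.restrictScalars R
  have e1 : ∀ y, v.lTensor k (pG.lTensor k y) = pH.lTensor k ((V.mulVecLin.restrictScalars R).lTensor k y) := by
    intro y
    rw [← LinearMap.comp_apply, ← LinearMap.lTensor_comp, ← LinearMap.comp_apply, ← LinearMap.lTensor_comp]
    congr 2
    exact LinearMap.ext hv
  have e2 : ∀ x, u.lTensor k (pF.lTensor k x) = pG.lTensor k ((U.mulVecLin.restrictScalars R).lTensor k x) := by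
    intro x
    rw [← LinearMap.comp_apply, ← LinearMap.lTensor_comp, ← LinearMap.comp_apply, ← LinearMap.lTensor_comp]
    congr 2
    exact LinearMap.ext hu
  have hker : ∀ y, pH.lTensor k y = 0 ↔ vecEquiv h y ∈ LinearMap.range (mapMat (algebraMap R k) AH).mulVecLin :=
    fun y => (lTensor_exact k (f := AH.mulVecLin.restrictScalars R) (g := pH) hHex hH y).trans (mem_range_mulVec_iff AH y)
  have hkerG : ∀ y, pG.lTensor k y = 0 ↔ vecEquiv g y ∈ LinearMap.range (mapMat (algebraMap R k) AG).mulVecLin :=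
    fun y => (lTensor_exact k (f := AG.mulVecLin.restrictScalars R) (g := pG) hGex hG y).trans (mem_range_mulVec_iff AG y)
  have hrange : ∀ y, (pG.lTensor k y ∈ Set.range (u.lTensor k)) ↔
      vecEquiv g y ∈ LinearMap.range (mapMat (algebraMap R k) U).mulVecLin ⊔
        LinearMap.range (mapMat (algebraMap R k) AG).mulVecLin := by
    intro y
    constructor
    · rintro ⟨z, hz⟩
      obtain ⟨x, rfl⟩ := LinearMap.lTensor_surjective k (g := pF) hF z
      rw [e2] at hz
      have := (hkerG (y - (U.mulVecLin.restrictScalars R).lTensor k x)).1 (by rw [map_sub, hz, sub_self])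
      rw [map_sub] at this
      rw [← add_sub_cancel (vecEquiv g ((U.mulVecLin.restrictScalars R).lTensor k x)) (vecEquiv g y)]
      exact Submodule.add_mem_sup ((mem_range_mulVec_iff U _).1 ⟨x, rfl⟩) this
    · intro hy
      obtain ⟨a, ha, b, hb, hab⟩ := Submodule.mem_sup.1 hy
      obtain ⟨a, rfl⟩ := (vecEquiv (R := R) (k := k) g).surjective a
      obtain ⟨b, rfl⟩ := (vecEquiv (R := R) (k := k) g).surjective b
      obtain ⟨x, rfl⟩ := (mem_range_mulVec_iff U a).2 ha
      rw [← map_add] at hab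
      refine ⟨pF.lTensor k x, ?_⟩
      rw [e2, ← (vecEquiv g).injective hab, map_add, (hkerG b).2 hb, add_zero]
  constructor
  · intro hex y
    obtain ⟨y, rfl⟩ := (vecEquiv (R := R) (k := k) g).surjective y
    rw [← vecEquiv_mulVec, ← hker, ← e1, hex, hrange]
  · intro hm z
    obtain ⟨y, rfl⟩ := LinearMap.lTensor_surjective k (g := pG) hG z
    rw [e1, hker, vecEquiv_mulVec, hm, hrange]

/-- The dichotomy in matrix form. -/
theorem exists_exactMat_dichotomy [IsDomain R] [IsNoetherianRing R] [Finite σ] {f g g' h h' : Type}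
    [Fintype f] [Fintype g] [Fintype g'] [Fintype h] [Fintype h'] (U : Matrix g f (MvPolynomial σ R))
    (AG : Matrix g g' (MvPolynomial σ R)) (V : Matrix h g (MvPolynomial σ R))
    (AH : Matrix h h' (MvPolynomial σ R)) :
    ∃ a : R, a ≠ 0 ∧
      ((∀ (k : Type u) [CommRing k] [Algebra R k] [Nontrivial k], IsUnit (algebraMap R k a) →
          ExactMat (algebraMap R k) U AG V AH) ∨
       ∀ (k : Type u) [CommRing k] [Algebra R k] [Nontrivial k], IsUnit (algebraMap R k a) →
          ¬ ExactMat (algebraMap R k) U AG V AH) := by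
  classical
  let P := MvPolynomial σ R
  let πH := (LinearMap.range AH.mulVecLin).mkQ
  let U' : Matrix g (f ⊕ g') P := Matrix.fromCols U AG
  obtain ⟨a, ha, hd⟩ := exists_exact_dichotomy (R := R) P U'.mulVecLin (πH ∘ₗ V.mulVecLin)
  let Z : Matrix g Empty P := 0
  have key : ∀ (k : Type u) [CommRing k] [Algebra R k],
      Function.Exact ((U'.mulVecLin.restrictScalars R).lTensor k)
        (((πH ∘ₗ V.mulVecLin).restrictScalars R).lTensor k) ↔ ExactMat (algebraMap R k) U AG V AH := by
    intro k _ _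
    rw [exact_lTensor_iff_exactMat U' Z V AH LinearMap.id Function.surjective_id LinearMap.id
      Function.surjective_id (fun y => by
        simp only [LinearMap.id_apply]
        exact ⟨fun h => ⟨0, by simp [Z, h]⟩, fun ⟨x, hx⟩ => by rw [← hx]; simp [Z]⟩)
      πH (Submodule.mkQ_surjective _) (LinearMap.exact_map_mkQ_range _) _ _ (fun _ => rfl) (fun _ => rfl)]
    refine forall_congr' fun y => iff_congr Iff.rfl ?_
    have hZ : LinearMap.range (mapMat (algebraMap R k) Z).mulVecLin = ⊥ := LinearMap.range_eq_bot.2 (by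
      ext x
      simp [Z, mapMat])
    rw [hZ, sup_bot_eq]
    have hc : mapMat (algebraMap R k) U' = Matrix.fromCols (mapMat (algebraMap R k) U) (mapMat (algebraMap R k) AG) := by
      ext i j
      cases j <;> rfl
    rw [hc]
    constructor
    · rintro ⟨x, rfl⟩
      rw [Matrix.mulVecLin_apply, Matrix.fromCols_mulVec]
      exact Submodule.add_mem_sup ⟨_, rfl⟩ ⟨_, rfl⟩
    · intro hy
      obtain ⟨_, ⟨x₁, rfl⟩, _, ⟨x₂, rfl⟩, rfl⟩ := Submodule.mem_sup.1 hy
      exact ⟨Sum.elim x₁ x₂, by simp [Matrix.fromCols_mulVec]⟩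
  exact ⟨a, ha, hd.imp (fun h k _ _ _ hu => (key k).1 (h k hu)) fun h k _ _ _ hu he => h k hu ((key k).2 he)⟩

/-- Exactness after specialisation to a field depends only on the kernel. -/
theorem exactMat_iff_of_ker_eq [IsNoetherianRing R] [Finite σ] {f g g' h h' : Type}
    [Fintype f] [Fintype g] [Fintype g'] [Fintype h] [Fintype h'] (U : Matrix g f (MvPolynomial σ R))
    (AG : Matrix g g' (MvPolynomial σ R)) (V : Matrix h g (MvPolynomial σ R))
    (AH : Matrix h h' (MvPolynomial σ R)) (q : Ideal R) [q.IsPrime] :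
    ∃ a : R, a ∉ q ∧
      ((∀ (k : Type u) [Field k] (ρ : R →+* k), q ≤ RingHom.ker ρ → ρ a ≠ 0 → ExactMat ρ U AG V AH) ∨
       ∀ (k : Type u) [Field k] (ρ : R →+* k), q ≤ RingHom.ker ρ → ρ a ≠ 0 → ¬ ExactMat ρ U AG V AH) := by
  let π := Ideal.Quotient.mk q
  obtain ⟨b, hb, hd⟩ := exists_exactMat_dichotomy (mapMat π U) (mapMat π AG) (mapMat π V) (mapMat π AH)
  obtain ⟨a, rfl⟩ := Ideal.Quotient.mk_surjective b
  refine ⟨a, fun h => hb (Ideal.Quotient.eq_zero_iff_mem.2 h), ?_⟩
  rcases hd with hd | hd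
  · refine .inl fun k _ ρ hq hρ => ?_
    let ρ' := Ideal.Quotient.lift q ρ hq
    letI := ρ'.toAlgebra
    exact (exactMat_comp U AG V AH π ρ').1 (hd k (isUnit_iff_ne_zero.2 hρ))
  · refine .inr fun k _ ρ hq hρ he => ?_
    let ρ' := Ideal.Quotient.lift q ρ hq
    letI := ρ'.toAlgebra
    exact hd k (isUnit_iff_ne_zero.2 hρ) ((exactMat_comp U AG V AH π ρ').2 he)

open AlgebraicGeometry Topology in
/-- A set of primes of a noetherian ring with a generic dichotomy is constructible. -/
theorem isConstructible_primeSpectrum_of_dichotomy [IsNoetherianRing R] (E : Set (PrimeSpectrum R))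
    (h : ∀ q : PrimeSpectrum R, ∃ a : R, a ∉ q.asIdeal ∧
      ((∀ p, q.asIdeal ≤ p.asIdeal → a ∉ p.asIdeal → p ∈ E) ∨ ∀ p, q.asIdeal ≤ p.asIdeal → a ∉ p.asIdeal → p ∉ E)) :
    IsConstructible E := by
  refine isConstructible_of_dichotomy (S := Spec (CommRingCat.of R)) E fun T j _ _ _ => ?_
  obtain ⟨a, ha, hd⟩ := h (j (genericPoint T))
  have hopen : IsOpen (j ⁻¹' (PrimeSpectrum.basicOpen a : Set (PrimeSpectrum R))) :=
    (PrimeSpectrum.basicOpen a).2.preimage j.continuous
  have hle : ∀ t, (show PrimeSpectrum R from j (genericPoint T)).asIdeal ≤ (show PrimeSpectrum R from j t).asIdeal :=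
    fun t => (PrimeSpectrum.le_iff_specializes _ _).2
      (((genericPoint_spec T).specializes (Set.mem_univ t)).map j.continuous)
  rcases hd with hd | hd
  · exact .inl ⟨_, interior_maximal (s := j ⁻¹' E) (fun (t : T) ht => hd _ (hle t) ht) hopen ha⟩
  · exact .inr ⟨_, interior_maximal (s := (j ⁻¹' E)ᶜ) (fun (t : T) ht => hd _ (hle t) ht) hopen ha⟩

end Groth.Agent.ConsPropLib
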