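import Groth.Agent.ConsPropLib.GenExactMat

/-!
# Complexes of finitely presented modules come from noetherian rings
-/

set_option autoImplicit false
set_option linter.style.haveILetI false

open TensorProduct MvPolynomial Matrix

namespace Groth.Agent.ConsPropLib

universe u

theorem exists_exactMat_model {R B : Type u} [CommRing R] [CommRing B] [Algebra R B]
    [Algebra.FinitePresentation R B] {F G H : Type u}
    [AddCommGroup F] [Module B F] [Module R F] [IsScalarTower R B F] [Module.FinitePresentation B F]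
    [AddCommGroup G] [Module B G] [Module R G] [IsScalarTower R B G] [Module.FinitePresentation B G]
    [AddCommGroup H] [Module B H] [Module R H] [IsScalarTower R B H] [Module.FinitePresentation B H]
    (u : F →ₗ[B] G) (v : G →ₗ[B] H) :
    ∃ (R₀ : Subring R) (_ : IsNoetherianRing R₀) (n f g g' h h' : ℕ)
      (U : Matrix (Fin g) (Fin f) (MvPolynomial (Fin n) R₀)) (AG : Matrix (Fin g) (Fin g') (MvPolynomial (Fin n) R₀))
      (V : Matrix (Fin h) (Fin g) (MvPolynomial (Fin n) R₀)) (AH : Matrix (Fin h) (Fin h') (MvPolynomial (Fin n) R₀)),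
      ∀ (k : Type u) [CommRing k] [Algebra R k],
        Function.Exact ((u.restrictScalars R).lTensor k) ((v.restrictScalars R).lTensor k) ↔
          ExactMat ((algebraMap R k).comp R₀.subtype) U AG V AH := by
  classical
  obtain ⟨n, φ, hφ, hker⟩ := ‹Algebra.FinitePresentation R B›.out
  let P := MvPolynomial (Fin n) R
  letI : Algebra P B := φ.toRingHom.toAlgebra
  haveI : IsScalarTower R P B := IsScalarTower.of_algebraMap_eq fun r => (φ.commutes r).symm
  haveI : Module.FinitePresentation P B :=
    Module.finitePresentation_of_surjective (Algebra.linearMap P B) hφ hker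
  letI := Module.compHom F φ.toRingHom
  letI := Module.compHom G φ.toRingHom
  letI := Module.compHom H φ.toRingHom
  haveI : IsScalarTower P B F := ⟨fun p b m => mul_smul (φ p) b m⟩
  haveI : IsScalarTower P B G := ⟨fun p b m => mul_smul (φ p) b m⟩
  haveI : IsScalarTower P B H := ⟨fun p b m => mul_smul (φ p) b m⟩
  haveI : IsScalarTower R P F := ⟨fun r p m => by show φ (r • p) • m = r • φ p • m; rw [map_smul, smul_assoc]⟩
  haveI : IsScalarTower R P G := ⟨fun r p m => by show φ (r • p) • m = r • φ p • m; rw [map_smul, smul_assoc]⟩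
  haveI : IsScalarTower R P H := ⟨fun r p m => by show φ (r • p) • m = r • φ p • m; rw [map_smul, smul_assoc]⟩
  haveI : Module.FinitePresentation P F := Module.FinitePresentation.trans P F B
  haveI : Module.FinitePresentation P G := Module.FinitePresentation.trans P G B
  haveI : Module.FinitePresentation P H := Module.FinitePresentation.trans P H B
  obtain ⟨f, πF, hF⟩ := Module.Finite.exists_fin' P F
  obtain ⟨g, g', aG, πG, hG, hGex⟩ : ∃ (g g' : ℕ) (aG : (Fin g' → P) →ₗ[P] (Fin g → P))
      (πG : (Fin g → P) →ₗ[P] G), Function.Surjective πG ∧ Function.Exact aG πG := by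
    obtain ⟨g, πG, hG⟩ := Module.Finite.exists_fin' P G
    obtain ⟨g', s, hs⟩ := Submodule.fg_iff_exists_fin_generating_family.1 (Module.FinitePresentation.fg_ker πG hG)
    exact ⟨g, g', Fintype.linearCombination P s, πG, hG,
      LinearMap.exact_iff.2 ((Fintype.range_linearCombination (R := P) (v := s)).trans hs).symm⟩
  obtain ⟨h, h', aH, πH, hH, hHex⟩ : ∃ (h h' : ℕ) (aH : (Fin h' → P) →ₗ[P] (Fin h → P))
      (πH : (Fin h → P) →ₗ[P] H), Function.Surjective πH ∧ Function.Exact aH πH := by
    obtain ⟨h, πH, hH⟩ := Module.Finite.exists_fin' P H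
    obtain ⟨h', s, hs⟩ := Submodule.fg_iff_exists_fin_generating_family.1 (Module.FinitePresentation.fg_ker πH hH)
    exact ⟨h, h', Fintype.linearCombination P s, πH, hH,
      LinearMap.exact_iff.2 ((Fintype.range_linearCombination (R := P) (v := s)).trans hs).symm⟩
  obtain ⟨uu, huu⟩ := Module.projective_lifting_property πG ((u.restrictScalars P).comp πF) hG
  obtain ⟨vv, hvv⟩ := Module.projective_lifting_property πH ((v.restrictScalars P).comp πG) hH
  let MU := LinearMap.toMatrix' uu
  let MG := LinearMap.toMatrix' aG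
  let MV := LinearMap.toMatrix' vv
  let MH := LinearMap.toMatrix' aH
  let C : {a b : ℕ} → Matrix (Fin a) (Fin b) P → Finset R :=
    fun {a b} A => (Finset.univ : Finset (Fin a × Fin b)).biUnion fun ij => (A ij.1 ij.2).coeffs
  let S₀ : Subalgebra ℤ R := Algebra.adjoin ℤ ((C MU ∪ C MG ∪ C MV ∪ C MH : Finset R) : Set R)
  haveI : Algebra.FiniteType ℤ S₀ := (Subalgebra.fg_iff_finiteType _).1 (Subalgebra.fg_adjoin_finset _)
  haveI : IsNoetherianRing S₀ := Algebra.FiniteType.isNoetherianRing ℤ S₀
  have hlift : ∀ {a b : ℕ} (A : Matrix (Fin a) (Fin b) P), C A ⊆ C MU ∪ C MG ∪ C MV ∪ C MH →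
      ∃ A₀ : Matrix (Fin a) (Fin b) (MvPolynomial (Fin n) S₀.toSubring), mapMat S₀.toSubring.subtype A₀ = A := by
    intro a b A hA
    have : ∀ i j, A i j ∈ Set.range (MvPolynomial.map (σ := Fin n) S₀.toSubring.subtype) := fun i j => by
      rw [MvPolynomial.mem_range_map_iff_coeffs_subset]
      intro c hc
      exact ⟨⟨c, Algebra.subset_adjoin (hA (Finset.mem_biUnion.2 ⟨(i, j), Finset.mem_univ _, hc⟩))⟩, rfl⟩
    choose A₀ hA₀ using this
    exact ⟨A₀, Matrix.ext hA₀⟩
  obtain ⟨U₀, hU₀⟩ := hlift MU (fun c hc => by simp [hc])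
  obtain ⟨G₀, hG₀⟩ := hlift MG (fun c hc => by simp [hc])
  obtain ⟨V₀, hV₀⟩ := hlift MV (fun c hc => by simp [hc])
  obtain ⟨H₀, hH₀⟩ := hlift MH (fun c hc => by simp [hc])
  refine ⟨S₀.toSubring, inferInstanceAs (IsNoetherianRing S₀), n, f, g, g', h, h', U₀, G₀, V₀, H₀, fun k _ _ => ?_⟩
  rw [← exactMat_comp, hU₀, hG₀, hV₀, hH₀]
  refine exact_lTensor_iff_exactMat MU MG MV MH πF hF πG hG ?_ πH hH ?_ _ _ (fun x => ?_) (fun y => ?_)
  · rw [show MG.mulVecLin = aG from Matrix.toLin'_toMatrix' aG]; exact hGex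
  · rw [show MH.mulVecLin = aH from Matrix.toLin'_toMatrix' aH]; exact hHex
  · exact ((LinearMap.congr_fun huu x).symm.trans
      (congrArg πG (LinearMap.congr_fun (Matrix.toLin'_toMatrix' uu) x).symm))
  · exact ((LinearMap.congr_fun hvv y).symm.trans
      (congrArg πH (LinearMap.congr_fun (Matrix.toLin'_toMatrix' vv) y).symm))

end Groth.Agent.ConsPropLib
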