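import Groth.Agent.ConsPropLib.GenExactModel
import Groth.Agent.MorLib.LimCons

/-!
# The locus of projective fibres of a finitely presented module (EGA IV 9.4.7)
-/

set_option autoImplicit false
set_option linter.style.haveILetI false

open TensorProduct Matrix Topology

namespace Groth.Agent.ConsPropLib

universe u

open CategoryTheory AlgebraicGeometry in
/-- Exactness on fibres is a constructible condition, depending only on the prime under the field. -/
theorem exists_constructible_exact {R B : Type u} [CommRing R] [CommRing B] [Algebra R B]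
    [Algebra.FinitePresentation R B] {F G H : Type u}
    [AddCommGroup F] [Module B F] [Module R F] [IsScalarTower R B F] [Module.FinitePresentation B F]
    [AddCommGroup G] [Module B G] [Module R G] [IsScalarTower R B G] [Module.FinitePresentation B G]
    [AddCommGroup H] [Module B H] [Module R H] [IsScalarTower R B H] [Module.FinitePresentation B H]
    (u : F →ₗ[B] G) (v : G →ₗ[B] H) :
    ∃ E : Set (PrimeSpectrum R), IsConstructible E ∧
      ∀ (k : Type u) [Field k] [Algebra R k] (p : PrimeSpectrum R), p.asIdeal = RingHom.ker (algebraMap R k) →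
        (Function.Exact ((u.restrictScalars R).lTensor k) ((v.restrictScalars R).lTensor k) ↔ p ∈ E) := by
  obtain ⟨R₀, _, n, a, b, b', c, c', U, AG, V, AH, hmodel⟩ := exists_exactMat_model (R := R) u v
  let E₀ : Set (PrimeSpectrum R₀) := {q | ExactMat (algebraMap R₀ q.asIdeal.ResidueField) U AG V AH}
  have hE : IsConstructible E₀ := by
    refine isConstructible_primeSpectrum_of_dichotomy E₀ fun q => ?_
    obtain ⟨r, hr, hd⟩ := exactMat_iff_of_ker_eq U AG V AH q.asIdeal
    refine ⟨r, hr, hd.imp (fun h p hqp hrp => ?_) fun h p hqp hrp he => ?_⟩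
    · exact h _ _ (fun x hx => Ideal.algebraMap_residueField_eq_zero.2 (hqp hx))
        (mt Ideal.algebraMap_residueField_eq_zero.1 hrp)
    · exact h _ _ (fun x hx => Ideal.algebraMap_residueField_eq_zero.2 (hqp hx))
        (mt Ideal.algebraMap_residueField_eq_zero.1 hrp) he
  let π : Spec (CommRingCat.of R) ⟶ Spec (CommRingCat.of R₀) := Spec.map (CommRingCat.ofHom R₀.subtype)
  haveI : IsAffineHom π := isAffineHom_of_isAffine _
  refine ⟨PrimeSpectrum.comap R₀.subtype ⁻¹' E₀, MorLib.LimCons.isConstructible_preimage π hE,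
    fun k _ _ p hp => ?_⟩
  let q : PrimeSpectrum R₀ := PrimeSpectrum.comap R₀.subtype p
  refine (hmodel k).trans ?_
  change _ ↔ ExactMat (algebraMap R₀ q.asIdeal.ResidueField) U AG V AH
  obtain ⟨r, hr, hd⟩ := exactMat_iff_of_ker_eq U AG V AH q.asIdeal
  have hq : RingHom.ker ((algebraMap R k).comp R₀.subtype) = q.asIdeal := by
    rw [← RingHom.comap_ker, ← hp]; rfl
  have h2 : q.asIdeal ≤ RingHom.ker (algebraMap R₀ q.asIdeal.ResidueField) :=
    fun x hx => Ideal.algebraMap_residueField_eq_zero.2 hx
  have h3 : ((algebraMap R k).comp R₀.subtype) r ≠ 0 := fun h => hr (hq.le h)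
  have h4 : algebraMap R₀ q.asIdeal.ResidueField r ≠ 0 :=
    fun h => hr (Ideal.algebraMap_residueField_eq_zero.1 h)
  rcases hd with hd | hd
  · exact iff_of_true (hd _ _ hq.ge h3) (hd _ _ h2 h4)
  · exact iff_of_false (hd _ _ hq.ge h3) (hd _ _ h2 h4)

/-- A cokernel of a matrix is projective iff the matrix has an inner inverse. -/
theorem projective_iff_exists_innerInverse {C : Type u} [CommRing C] {g g' : Type} [Fintype g] [Fintype g']
    [DecidableEq g] [DecidableEq g'] {N : Type u} [AddCommGroup N] [Module C N] (A : Matrix g g' C)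
    (π : (g → C) →ₗ[C] N) (hπ : Function.Surjective π) (hex : Function.Exact A.mulVecLin π) :
    Module.Projective C N ↔ ∃ X : Matrix g' g C, A * X * A = A := by
  constructor
  · intro h
    obtain ⟨σ, hσ⟩ := Module.projective_lifting_property π LinearMap.id hπ
    have hmem : ∀ y, y - σ (π y) ∈ LinearMap.range A.mulVecLin := fun y =>
      (hex _).1 (by rw [map_sub, show π (σ (π y)) = π y from LinearMap.congr_fun hσ (π y), sub_self])
    let l : (g → C) →ₗ[C] LinearMap.range A.mulVecLin := (LinearMap.id - σ.comp π).codRestrict _ hmem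
    obtain ⟨x, hx⟩ := Module.projective_lifting_property A.mulVecLin.rangeRestrict l
      A.mulVecLin.surjective_rangeRestrict
    refine ⟨LinearMap.toMatrix' x, Matrix.toLin'.injective (LinearMap.ext fun y => ?_)⟩
    have h1 : A *ᵥ (x (A *ᵥ y)) = A *ᵥ y - σ (π (A *ᵥ y)) :=
      congrArg Subtype.val (LinearMap.congr_fun hx (A *ᵥ y))
    rw [show π (A *ᵥ y) = 0 from hex.apply_apply_eq_zero y, map_zero, sub_zero] at h1
    rw [Matrix.toLin'_apply, Matrix.toLin'_apply, ← Matrix.mulVec_mulVec, ← Matrix.mulVec_mulVec,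
      LinearMap.toMatrix'_mulVec]
    exact h1
  · rintro ⟨X, hX⟩
    let P : (g → C) →ₗ[C] (g → C) := LinearMap.id - A.mulVecLin.comp X.mulVecLin
    have hk : LinearMap.ker π ≤ LinearMap.ker P := fun y hy => by
      obtain ⟨z, rfl⟩ := (hex y).1 hy
      show A.mulVecLin z - A *ᵥ (X *ᵥ (A *ᵥ z)) = 0
      rw [Matrix.mulVec_mulVec, Matrix.mulVec_mulVec, hX, Matrix.mulVecLin_apply, sub_self]
    let e := π.quotKerEquivOfSurjective hπ
    let σ : N →ₗ[C] (g → C) := ((LinearMap.ker π).liftQ P hk).comp e.symm.toLinearMap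
    refine Module.Projective.of_split σ π (LinearMap.ext fun m => ?_)
    obtain ⟨y, rfl⟩ := hπ m
    have h1 : e.symm (π y) = Submodule.Quotient.mk y := e.symm_apply_eq.2 (π.quotKerEquivOfSurjective_apply_mk hπ y).symm
    show π (σ (π y)) = π y
    simp only [σ, LinearMap.comp_apply, LinearEquiv.coe_coe, h1, Submodule.liftQ_apply]
    show π (y - A *ᵥ (X *ᵥ y)) = π y
    rw [map_sub, show π (A *ᵥ (X *ᵥ y)) = 0 from hex.apply_apply_eq_zero _, sub_zero]

/-- Matrices over `B`, extended to `k ⊗ B`. -/
noncomputable def matEquiv (R k B : Type u) [CommRing R] [CommRing k] [Algebra R k] [CommRing B] [Algebra R B]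
    (g g' : Type) [Fintype g] [Fintype g'] [DecidableEq g] [DecidableEq g'] :
    k ⊗[R] Matrix g g' B ≃ₗ[k] Matrix g g' (k ⊗[R] B) :=
  (TensorProduct.piRight R k k fun _ : g => (g' → B)).trans
    (LinearEquiv.piCongrRight fun _ => TensorProduct.piRight R k k fun _ : g' => B)

theorem matEquiv_tmul {R k B : Type u} [CommRing R] [CommRing k] [Algebra R k] [CommRing B] [Algebra R B]
    {g g' : Type} [Fintype g] [Fintype g'] [DecidableEq g] [DecidableEq g'] (c : k) (X : Matrix g g' B) :
    matEquiv R k B g g' (c ⊗ₜ[R] X) = c • X.map (fun b => (1 : k) ⊗ₜ[R] b) := by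
  ext i j
  show _ = c • ((1 : k) ⊗ₜ[R] X i j)
  rw [TensorProduct.smul_tmul', smul_eq_mul, mul_one]
  rfl

/-- `M ⊗ k` is projective over `B ⊗ k` exactly on a constructible set of primes. -/
theorem exists_constructible_projective {R B : Type u} [CommRing R] [CommRing B] [Algebra R B]
    [Algebra.FinitePresentation R B] (M : Type u) [AddCommGroup M] [Module B M] [Module.FinitePresentation B M] :
    ∃ E : Set (PrimeSpectrum R), IsConstructible E ∧
      ∀ (k : Type u) [Field k] [Algebra R k] (p : PrimeSpectrum R), p.asIdeal = RingHom.ker (algebraMap R k) →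
        (letI : Algebra B (k ⊗[R] B) := Algebra.TensorProduct.rightAlgebra
         Module.Projective (k ⊗[R] B) ((k ⊗[R] B) ⊗[B] M) ↔ p ∈ E) := by
  classical
  obtain ⟨g, π, hπ⟩ := Module.Finite.exists_fin' B M
  obtain ⟨g', s, hs⟩ := Submodule.fg_iff_exists_fin_generating_family.1 (Module.FinitePresentation.fg_ker π hπ)
  let A : Matrix (Fin g) (Fin g') B := LinearMap.toMatrix' (Fintype.linearCombination B s)
  have hexA : Function.Exact A.mulVecLin π := by
    rw [show A.mulVecLin = Fintype.linearCombination B s from Matrix.toLin'_toMatrix' _]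
    exact LinearMap.exact_iff.2 ((Fintype.range_linearCombination (R := B) (v := s)).trans hs).symm
  let L : Matrix (Fin g') (Fin g) B →ₗ[B] Matrix (Fin g) (Fin g') B :=
    { toFun := fun X => A * X * A
      map_add' := fun X Y => by rw [Matrix.mul_add, Matrix.add_mul]
      map_smul' := fun c X => by rw [Matrix.mul_smul, Matrix.smul_mul]; rfl }
  let Q := Matrix (Fin g) (Fin g') B ⧸ LinearMap.range L
  haveI : Module.FinitePresentation B (Matrix (Fin g) (Fin g') B) := Module.finitePresentation_of_projective _ _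
  haveI : Module.FinitePresentation B Q :=
    Module.finitePresentation_of_surjective (LinearMap.range L).mkQ (Submodule.mkQ_surjective _)
      (by rw [Submodule.ker_mkQ]; exact (Module.Finite.iff_fg.1 inferInstance))
  let uu : B →ₗ[B] Q := LinearMap.toSpanSingleton B Q ((LinearMap.range L).mkQ A)
  obtain ⟨E, hE, hkey⟩ := exists_constructible_exact (R := R) uu (LinearMap.id : Q →ₗ[B] Q)
  refine ⟨E, hE, fun k _ _ p hp => ?_⟩
  rw [← hkey k p hp]
  letI : Algebra B (k ⊗[R] B) := Algebra.TensorProduct.rightAlgebra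
  let ι : B →+* k ⊗[R] B := Algebra.TensorProduct.includeRight.toRingHom
  have hι : ∀ b, algebraMap B (k ⊗[R] B) b = ι b := fun b => rfl
  let C := k ⊗[R] B
  let e := TensorProduct.piScalarRight B C C (Fin g)
  let πC : (Fin g → C) →ₗ[C] C ⊗[B] M := (π.baseChange C).comp e.symm.toLinearMap
  let e' := TensorProduct.piScalarRight B C C (Fin g')
  have hAC : ∀ z, e (A.mulVecLin.baseChange C z) = (A.map ι) *ᵥ e' z := by
    intro z
    induction z with
    | zero => simp
    | add a b ha hb => rw [map_add, map_add, map_add, ha, hb, Matrix.mulVec_add]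
    | tmul c y =>
      ext i
      simp only [e, e', LinearMap.baseChange_tmul, TensorProduct.piScalarRight_apply,
        TensorProduct.piScalarRightHom_tmul, Algebra.smul_def, hι, Matrix.mulVecLin_apply, Matrix.mulVec,
        dotProduct, Matrix.map_apply, map_sum, map_mul, Finset.sum_mul]
      exact Finset.sum_congr rfl fun j _ => mul_assoc _ _ _
  have hπC : Function.Surjective πC :=
    (LinearMap.lTensor_surjective C hπ).comp e.symm.surjective
  have hexC : Function.Exact (A.map ι).mulVecLin πC := fun y => by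
    obtain ⟨y, rfl⟩ := e.surjective y
    rw [show πC (e y) = π.baseChange C y from congrArg _ (e.symm_apply_apply y)]
    refine (lTensor_exact C hexA hπ y).trans ⟨?_, ?_⟩
    · rintro ⟨z, rfl⟩; exact ⟨e' z, (hAC z).symm⟩
    · rintro ⟨z, hz⟩
      obtain ⟨z, rfl⟩ := e'.surjective z
      exact ⟨z, e.injective ((hAC z).trans hz)⟩
  rw [projective_iff_exists_innerInverse (A.map ι) πC hπC hexC]
  let LR := L.restrictScalars R
  let E₁ := matEquiv R k B (Fin g') (Fin g)
  let E₂ := matEquiv R k B (Fin g) (Fin g')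
  have hL : ∀ z, E₂ (LR.lTensor k z) = A.map ι * E₁ z * A.map ι := by
    intro z
    induction z with
    | zero => simp
    | add a b ha hb => simp only [map_add, Matrix.mul_add, Matrix.add_mul, ha, hb]
    | tmul c X =>
      rw [LinearMap.lTensor_tmul, matEquiv_tmul, matEquiv_tmul, Matrix.mul_smul, Matrix.smul_mul]
      show c • (A * X * A).map ι = c • (A.map ι * X.map ι * A.map ι)
      rw [Matrix.map_mul, Matrix.map_mul]
  have hA : E₂ ((1 : k) ⊗ₜ[R] A) = A.map ι := by rw [matEquiv_tmul, one_smul]; rfl
  let q : Matrix (Fin g) (Fin g') B →ₗ[R] Q := (LinearMap.range L).mkQ.restrictScalars R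
  have hq : Function.Exact LR q := LinearMap.exact_map_mkQ_range L
  have hv : ∀ z : k ⊗[R] Q, ((LinearMap.id : Q →ₗ[B] Q).restrictScalars R).lTensor k z = z := fun z => by
    rw [show (LinearMap.id : Q →ₗ[B] Q).restrictScalars R = LinearMap.id from rfl, LinearMap.lTensor_id,
      LinearMap.id_apply]
  have hu : (uu.restrictScalars R).lTensor k ((1 : k) ⊗ₜ[R] (1 : B)) = q.lTensor k ((1 : k) ⊗ₜ[R] A) := by
    rw [LinearMap.lTensor_tmul, LinearMap.lTensor_tmul]
    exact congrArg _ (LinearMap.toSpanSingleton_apply_one _ _ _)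
  constructor
  · rintro ⟨X, hX⟩
    have hz : q.lTensor k ((1 : k) ⊗ₜ[R] A) = 0 := by
      refine (lTensor_exact k hq (Submodule.mkQ_surjective _) _).2 ⟨E₁.symm X, E₂.injective ?_⟩
      rw [hL, E₁.apply_symm_apply, hX, hA]
    have hzero : ∀ z, (uu.restrictScalars R).lTensor k z = 0 := fun z => by
      induction z with
      | zero => simp
      | add a b ha hb => rw [map_add, ha, hb, add_zero]
      | tmul c b =>
        have h1 : (uu.restrictScalars R).lTensor k (c ⊗ₜ[R] b) =
            c • TensorProduct.map LinearMap.id ((b • LinearMap.id : Q →ₗ[B] Q).restrictScalars R)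
              ((uu.restrictScalars R).lTensor k ((1 : k) ⊗ₜ[R] (1 : B))) := by
          rw [LinearMap.lTensor_tmul, LinearMap.lTensor_tmul, TensorProduct.map_tmul, TensorProduct.smul_tmul']
          simp [uu]
        rw [h1, hu, hz, map_zero, smul_zero]
    intro z
    rw [hv]
    exact ⟨fun h => ⟨0, by rw [map_zero, h]⟩, by rintro ⟨t, rfl⟩; exact hzero t⟩
  · intro hexact
    have hz : q.lTensor k ((1 : k) ⊗ₜ[R] A) = 0 := by
      rw [← hu, ← hv ((uu.restrictScalars R).lTensor k _)]
      exact hexact.apply_apply_eq_zero _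
    obtain ⟨X, hX⟩ := (lTensor_exact k hq (Submodule.mkQ_surjective _) _).1 hz
    exact ⟨E₁ X, by rw [← hL, hX, hA]⟩

end Groth.Agent.ConsPropLib
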